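/- Tower CB, job F1: an element that commutes with its conjugates modulo an odd core. -/
import Cfsg.Agent.H14.CBSpec
import Cfsg.Agent.H14.FEKit

set_option autoImplicit false

namespace H76.CBF1

open Cfsg Subgroup MulAction H14 H98 H1.Gold H31.S2 H14.GC H14.FE H14.NF H14.CB
open scoped commutatorElement

universe u

theorem comm_cj {X : Type*} [Group X] {x y : X} (g : X) (h : Commute x y) :
    Commute (g * x * g⁻¹) (g * y * g⁻¹) := h.map (MulAut.conj g)

theorem exA {X : Type*} [Group X] [Finite X] {W : Subgroup X} {a : X} (h4 : a ^ 4 = 1)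
    (hc : ∀ d ∈ W, Commute a (d * a * d⁻¹)) :
    ∃ A : Subgroup X, a ∈ A ∧ IsPGroup 2 A ∧ W ≤ normalizer (A : Set X) := by
  have key : ∀ w ∈ W, ∀ y : X, (∀ d ∈ W, Commute y (d * a * d⁻¹)) →
      ∀ d ∈ W, Commute (w * y * w⁻¹) (d * a * d⁻¹) := fun w hw y hy d hd => by
    have := comm_cj w (hy (w⁻¹ * d) (mul_mem (inv_mem hw) hd))
    rwa [show w * (w⁻¹ * d * a * (w⁻¹ * d)⁻¹) * w⁻¹ = d * a * d⁻¹ by group] at this
  refine ⟨{ carrier := {x | (∀ d ∈ W, Commute x (d * a * d⁻¹)) ∧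
              (∀ y : X, (∀ d ∈ W, Commute y (d * a * d⁻¹)) → Commute x y) ∧ x ^ 4 = 1}
            one_mem' := ⟨fun _ _ => Commute.one_left _, fun _ _ => Commute.one_left _, one_pow _⟩
            mul_mem' := fun {x y} hx hy => ⟨fun d hd => (hx.1 d hd).mul_left (hy.1 d hd),
              fun z hz => (hx.2.1 z hz).mul_left (hy.2.1 z hz),
              by rw [(hx.2.1 y hy.1).mul_pow, hx.2.2, hy.2.2, one_mul]⟩
            inv_mem' := fun {x} hx => ⟨fun d hd => (hx.1 d hd).inv_left,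
              fun z hz => (hx.2.1 z hz).inv_left, by rw [inv_pow, hx.2.2, inv_one]⟩ },
    ⟨hc, fun y hy => by simpa using (hy 1 (one_mem _)).symm, h4⟩,
    isPGroup_iff_forall.2 fun x hx => ⟨2, hx.2.2⟩,
    fun w hw => mem_normalizer_fintype fun x hx => ⟨key w hw x hx.1, fun y hy => ?_, ?_⟩⟩
  · have := comm_cj w (hx.2.1 _ (key w⁻¹ (inv_mem hw) y hy))
    rwa [show w * (w⁻¹ * y * w⁻¹⁻¹) * w⁻¹ = y by group] at this
  · rw [conj_pow, hx.2.2, mul_one, mul_inv_cancel]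

theorem core {X : Type u} [Group X] [Finite X] {W : Subgroup X} (O : Subgroup X) [O.Normal] {a : X}
    (hO : Odd (Nat.card O)) (hW : IsPGroup 2 W) (h4 : a ^ 4 = 1)
    (hc : ∀ d ∈ W, ⁅a, d * a * d⁻¹⁆ ∈ O) :
    ∃ o ∈ O, ∀ d ∈ W, Commute (o * a * o⁻¹) (d * (o * a * o⁻¹) * d⁻¹) := by
  set π := QuotientGroup.mk' O with hπ
  have one : ∀ {x : X}, π x = 1 ↔ x ∈ O := QuotientGroup.eq_one_iff _
  obtain ⟨A, aA, pA, nA⟩ := exA (W := W.map π) (a := π a) (by rw [← map_pow, h4, map_one]) (by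
    rintro _ ⟨d, hd, rfl⟩
    have := one.2 (hc d hd)
    rwa [map_commutatorElement, map_mul, map_mul, map_inv, commutatorElement_eq_one_iff_commute]
      at this)
  have pV : IsPGroup 2 ↥(W.map π ⊔ A) := IsPGroup.to_sup_of_normal_right' (hW.map π) pA nA
  obtain ⟨S, hS, WS⟩ := exists_isSyl_le (H := (W.map π ⊔ A).comap π) hW
    fun w hw => mem_sup_left (mem_map_of_mem π hw)
  have hm := hS.map π
  rw [map_comap_eq_self_of_surjective (QuotientGroup.mk'_surjective O)] at hm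
  obtain ⟨g, hg, ga⟩ := hS.exists_cj_le (isPGroup_zpowers (k := 2) h4)
    (zpowers_le.2 (mem_sup_right aA))
  obtain ⟨s, hs, e⟩ := (hm.eq_of_isPGroup pV).ge hg
  have ho : s⁻¹ * g ∈ O := one.1 (by rw [map_mul, map_inv, e, inv_mul_cancel])
  have a1 : s⁻¹ * g * a * (s⁻¹ * g)⁻¹ ∈ S := by
    have := mul_mem (mul_mem (inv_mem hs) (ga (conj_mem_cj (mem_zpowers a)))) hs
    convert this using 1
    group
  refine ⟨_, ho, fun d hd => commutatorElement_eq_one_iff_commute.1 ((ni_of_odd hO).eq_one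
    hS.isPGroup (FE.comm_mem a1 (mul_mem (mul_mem (WS hd) a1) (inv_mem (WS hd)))) (one.1 ?_))⟩
  have := one.2 (hc d hd)
  simpa only [map_commutatorElement, map_mul π d, map_mul π _ d⁻¹, map_mul π _ a,
    map_mul π _ (s⁻¹ * g)⁻¹, map_inv, one.2 ho, one_mul, inv_one, mul_one] using this

theorem jobF1 : JF1.{u} := by
  intro G _ _ W Q a hW ni aQ h4 an
  set H : Subgroup G := ⨅ d : W, nor (cj d Q) with hH
  have mH : ∀ {g : G}, g ∈ H ↔ ∀ d ∈ W, g ∈ nor (cj d Q) := by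
    intro g
    rw [hH, mem_iInf]
    exact ⟨fun h d hd => h ⟨d, hd⟩, fun h d => h d d.2⟩
  have WH : W ≤ nor H := fun w hw => mem_normalizer_fintype fun g hg => mH.2 fun d hd => by
    have := conj_mem_cj (g := w) (mH.1 hg (w⁻¹ * d) (mul_mem (inv_mem hw) hd))
    rwa [cj_normalizer, cj_cj, mul_inv_cancel_left] at this
  have HQ : H ≤ nor Q := fun g hg => by simpa only [cj_one] using mH.1 hg 1 (one_mem _)
  have aH : a ∈ H := mH.2 an
  have aN : a ∈ nor (opp 2 H) := self_le_normalizer_opp H aH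
  have WN : W ≤ nor (opp 2 H) := WH.trans (normalizer_le_normalizer_opp H)
  have hc : ∀ d ∈ W, ⁅a, d * a * d⁻¹⁆ ∈ opp 2 H := fun d hd => by
    by_cases d1 : d = 1
    · simp [d1]
    have dH := conj_mem_of_mem_normalizer (WH hd) aH
    exact le_opp_of_odd (Y := Q ⊓ cj d Q ⊓ H) inf_le_right (le_normalizer_inf (le_normalizer_inf HQ
      fun g hg => mH.1 hg d hd) le_normalizer) (NI.odd fun x hx => ni d hd d1 x hx.1)
      ⟨⟨comm_mem_left aQ (HQ dH), comm_mem_right (an d hd) (conj_mem_cj aQ)⟩, FE.comm_mem aH dH⟩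
  obtain ⟨o, ho, h⟩ := core (W := W.subgroupOf (nor (opp 2 H)))
    ((opp 2 H).subgroupOf (nor (opp 2 H))) (a := ⟨a, aN⟩) (by
      rw [Nat.card_congr (subgroupOfEquivOfLe le_normalizer).toEquiv]
      exact H1.Gold.odd_opp H) (isPGroup_subgroupOf hW _) (Subtype.ext h4) fun d hd => hc d hd
  exact ⟨o, HQ (opp_le H ho), fun d hd => congrArg Subtype.val (h ⟨d, WN hd⟩ hd).eq⟩

end H76.CBF1
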