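import Cfsg.Agent.H27.BGS1
import Cfsg.Agent.H3.BgS2
import Cfsg.Agent.H15.BGSpec2
import Cfsg.Agent.H46.Prod

/-! BGS part 2 (blueprints/BGS2.md): job ES. -/

set_option autoImplicit false
set_option linter.unusedSectionVars false

namespace H76.BG

open Cfsg Subgroup H98 H1.Gold H85.TW H15.BG H3.Bg
open H1.GH (mem_nor)

universe u

variable {G : Type u} [Group G] [Finite G] {k K : Type} [Field k] [Field K] [Algebra k K] [Finite k]
  [Finite K] [CharP k 2] [CharP K 2] {d : Dat G k K} {E X V : Subgroup G} {g s x e c : G} {y : K}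

theorem cE (h : HE d E) (he : e ∈ E) (hg : g ∈ cen1 d.t) : g * e = e * g := by
  by_cases e1 : e = 1
  · rw [e1, mul_one, one_mul]
  · exact mc.1 (h.cE e he e1 ▸ hg)

theorem cjE (h : HE d E) (he : e ∈ E) (hg : g ∈ cen1 d.t) : g * e * g⁻¹ = e := by
  rw [cE h he hg, mul_inv_cancel_right]

theorem E_le (h : HE d E) : E ≤ cen1 d.t := fun _ he => mc.2 (comm_of_sq h.elE he h.tE)

theorem E_cen (h : HE d E) (hX : X ≤ cen1 d.t) : E ≤ cen X := fun _ he _ hx => cE h he (hX hx)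

theorem C_nor (h : HE d E) : cen1 d.t ≤ nor E := fun _ hg => mem_nor fun _ he => (cjE h he hg).symm ▸ he

theorem memE (h : HE d E) (hX : X ≤ cen1 d.t) : x ∈ X ⊔ E ↔ ∃ u ∈ X, ∃ e ∈ E, x = u * e := by
  rw [sup_comm, mem_sup_left_norm ((E_cen h hX).trans (centralizer_le_normalizer _))]
  exact ⟨fun ⟨e, he, u, hu, a⟩ => ⟨u, hu, e, he, a.trans (cE h he (hX hu)).symm⟩,
    fun ⟨u, hu, e, he, a⟩ => ⟨e, he, u, hu, a.trans (cE h he (hX hu))⟩⟩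

theorem S0_le (h : HE d E) : d.U ⊔ E ≤ cen1 d.t ⊓ T0 d :=
  sup_le (le_inf h.tU (U_le_T0 h.toUD)) (le_inf (E_le h) ((E_cen h h.tU).trans cen_le_T0))

theorem le_S0 (h : HE d E) (hX : X ≤ cen1 d.t) (p : IsPGroup 2 X) : X ⊓ T0 d ≤ d.U ⊔ E := fun x hx =>
  h.h4E x (hX hx.1) hx.2.1 (e2_of_mem p hx.1) hx.2.2

theorem two_S0 (l : UL d) (h : HE d E) : IsPGroup 2 ↥(d.U ⊔ E) :=
  IsPGroup.to_sup_of_normal_left' l.two (two_of_sq h.elE)
    ((E_cen h h.tU).trans (centralizer_le_normalizer _))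

/-- the involutions of `U E` lie in `Z E` -/
theorem invF (h : HE d E) (hx : x ∈ d.U ⊔ E) (xx : x * x = 1) : x ∈ d.Z ⊔ E := by
  obtain ⟨u, hu, e, he, rfl⟩ := (memE h h.tU).1 hx
  refine mul_mem_sup (h.toUD.mem_Z_of_sq hu ?_) he
  rwa [mul_assoc, ← mul_assoc e, ← cE h he (h.tU hu), mul_assoc, h.elE e he, mul_one] at xx

theorem cenU (h : HE d E) (y : G) (h1 : y ∈ cen d.U) (h2 : y ∈ cen1 d.t) (e : E2 y) : y ∈ d.Z ⊔ E := by
  obtain ⟨u, hu, e, he, rfl⟩ := (memE h h.tU).1 (h.h4E y h2 (cen_le_T0 h1).1 e (cen_le_T0 h1).2)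
  exact mul_mem_sup (mem_Z_of_cen h.toUD hu ((mul_mem_cancel_right (E_cen h h.tU he)).1 h1)) he

theorem nor_C (h : HE d E) (he : e ∈ E) (e1 : e ≠ 1) (hg : g * e * g⁻¹ ∈ E) :
    cj g (cen1 d.t) = cen1 d.t := by
  nth_rw 1 [← h.cE e he e1]
  rw [H15.BG.cj_cen1, h.cE _ hg (mt conj_eq_one_iff.1 e1)]

theorem tiE (f : FF d.toQE) (l : UL d) (h : HE d E) (g e : G) (he : e ∈ E) (e1 : e ≠ 1)
    (hg : g * e * g⁻¹ ∈ E) : g ∈ nor E := mem_nor fun x hx => by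
  have n := nor_C h he e1 hg
  have c : ∀ y ∈ cen1 d.t, y * (g * x * g⁻¹) = g * x * g⁻¹ * y := fun y hy => by
    obtain ⟨w, hw, rfl⟩ := n.ge hy
    rw [MulEquiv.coe_toMonoidHom, MulAut.conj_apply, conj_mul, conj_mul, cE h hx hw]
  obtain ⟨z, hz, e, he, a⟩ := (memE h (h.ZU.trans h.tU)).1 (cenU h _ (fun u hu => c u (h.tU hu))
    (n.le (conj_mem_cj (E_le h hx))) ⟨1, by rw [pow_one, pow_two, conj_mul, h.elE x hx]; group⟩)
  obtain ⟨b, rfl⟩ := (h.memZ z).1 hz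
  obtain ⟨m, m0, m1⟩ : ∃ m : k, m ≠ 0 ∧ m ≠ 1 := by
    by_contra! n
    have := (Set.ncard_le_ncard (s := Set.univ) (t := {(0 : k), 1}) fun t _ =>
      (em (t = 0)).imp id (n t)).trans (Set.ncard_insert_le _ _)
    rw [Set.ncard_singleton, Set.ncard_univ] at this
    have := d.four
    omega
  obtain ⟨y, y1, y2⟩ := (H27.BG.co f l.toUL1 h.toHy0).scal m m0
  have := c y (mc.2 y1)
  rw [a, mul_assoc, ← cE h he (mc.2 y1), ← mul_assoc, ← mul_assoc, mul_left_inj,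
    ← mul_inv_eq_iff_eq_mul, y2] at this
  rw [a, (mul_left_eq_self₀.1 (h.ι_inj this)).resolve_left m1, h.toUD.ι_zero, one_mul]
  exact he

theorem odd2 (h : HE d E) (g : G) (hg : g ∈ nor E) (e : E2 g) : g ∈ cen1 d.t := by
  obtain ⟨z, a, b, -, c⟩ := ex_cen_inv (two_sup_zpowers (two_of_sq h.elE) hg e) le_sup_left
    (sup_le le_normalizer (zpowers_le.2 hg)) fun e => h.t1 (mem_bot.1 (e ▸ h.tE))
  exact h.cE z a b ▸ c (mem_sup_right (mem_zpowers g))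

theorem pb (h : HE d E) (he : e ∈ E) (e1 : e ≠ 1) (i : IsConj e s) (hX : X ≤ cen1 s)
    (p : IsPGroup 2 X) : ∃ g, g * s * g⁻¹ = e ∧ cj g X ≤ cen1 d.t ⊓ nor d.U := by
  obtain ⟨g, hg⟩ := isConj_iff.1 i.symm
  have a : cj g X ≤ cen1 d.t := h.cE e he e1 ▸ hg ▸ H15.BG.cj_cen1 g s ▸ cj_mono g hX
  obtain ⟨c, hc, b⟩ := h.syl _ a (p.map _)
  refine ⟨c * g, ?_, cj_cj c g X ▸ le_inf (cj_le_of_le_of_mem a hc) b⟩
  rw [show c * g * s * (c * g)⁻¹ = c * (g * s * g⁻¹) * c⁻¹ by group, hg, cjE h he hc]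

theorem der (f : FF d.toQE) (l : UL d) (h : HE d E) (X : Subgroup G) (hX : X ≤ cen1 d.t ⊓ nor d.U)
    (h2 : IsPGroup 2 X) (a : G) (ha : a ∈ X) (b : G) (hb : b ∈ X) : a * b * a⁻¹ * b⁻¹ ∈ d.U := by
  obtain ⟨ρ, hρ⟩ := l.rho
  have : (d.U.subgroupOf (nor d.U)).Normal := normal_subgroupOf_of_le_normalizer le_rfl
  let q := QuotientGroup.mk' (d.U.subgroupOf (nor d.U))
  obtain ⟨⟨_, x, hx, rfl⟩, hq⟩ := (f.gal _ ((isPGroup_subgroupOf h2 (nor d.U)).map ρ)).1.exists_generator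
  have cs : ∀ s : nor d.U, (s : G) ∈ X → ρ s = 1 → ∀ y : nor d.U, (y : G) ∈ X →
      Commute (q s) (q y) := fun s hs e y hy => by
    obtain ⟨m, -, t⟩ := hρ s
    rw [e] at t
    obtain ⟨u, hu, e, he, a⟩ := (memE h h.tU).1 (h.h4E s (hX hs).1 s.2 (e2_of_mem h2 hs)
      (l.sc2 s s.2 (e2_of_mem h2 hs) m t))
    rw [show s = ⟨u, le_normalizer hu⟩ * ⟨e, (cen_le_T0 (E_cen h h.tU he)).1⟩ from Subtype.ext a, map_mul,
      show q ⟨u, _⟩ = 1 from (QuotientGroup.eq_one_iff _).2 hu, one_mul]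
    exact Commute.map (Subtype.ext (cE h he (hX hy).1).symm) q
  have sp : ∀ y : nor d.U, (y : G) ∈ X → ∃ (i : ℤ) (s : nor d.U), (s : G) ∈ X ∧ ρ s = 1 ∧
      y = x ^ i * s := fun y hy => by
    obtain ⟨i, hi⟩ := hq ⟨ρ y, y, hy, rfl⟩
    refine ⟨i, (x ^ i)⁻¹ * y, X.mul_mem (X.inv_mem (X.zpow_mem hx i)) hy, ?_, by group⟩
    rw [map_mul, map_inv, map_zpow, inv_mul_eq_one]
    exact congrArg Subtype.val hi
  obtain ⟨i, s, s1, s2, e⟩ := sp ⟨a, (hX ha).2⟩ ha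
  obtain ⟨j, s', s1', s2', e'⟩ := sp ⟨b, (hX hb).2⟩ hb
  have c : Commute (q ⟨a, (hX ha).2⟩) (q ⟨b, (hX hb).2⟩) := by
    rw [e, map_mul]
    refine Commute.mul_left ?_ (cs s s1 s2 _ hb)
    rw [e', map_mul]
    exact Commute.mul_right (by rw [map_zpow, map_zpow]; exact (Commute.refl _).zpow_zpow i j)
      (cs s' s1' s2' _ (X.zpow_mem hx i)).symm
  refine (QuotientGroup.eq_one_iff (N := d.U.subgroupOf (nor d.U)) (⟨a, (hX ha).2⟩ * ⟨b, (hX hb).2⟩ *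
    (⟨a, (hX ha).2⟩ : nor d.U)⁻¹ * (⟨b, (hX hb).2⟩ : nor d.U)⁻¹)).1 ?_
  change q _ = 1
  rw [map_mul, map_mul, map_mul, map_inv, map_inv, c.eq]; group

theorem notD (f : FF d.toQE) (l : UL d) (h : HE d E) (z : G) (hz : z ∈ d.Z) (e : G) (he : e ∈ E)
    (e1 : e ≠ 1) (hc : IsConj e z) : False := by
  obtain ⟨g, a, hg⟩ := pb h he e1 hc (X := d.U) (fun u hu => mc.2 (h.toUD.Z_comm hz hu).symm) l.two
  obtain ⟨x, hx, b⟩ := h.π_surj 1
  obtain ⟨y, hy, e2⟩ := l.sxU.onto x hx (fun m => one_ne_zero (b.symm.trans ((h.ker x hx).2 m))) z hz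
  have := der f l h _ hg (isPGroup_cj g l.two) _ (conj_mem_cj hx) _ (conj_mem_cj hy)
  rw [show g * x * g⁻¹ * (g * y * g⁻¹) * (g * x * g⁻¹)⁻¹ * (g * y * g⁻¹)⁻¹ =
    g * (x * y * x⁻¹ * y⁻¹) * g⁻¹ by group, e2, a] at this
  exact e1 (h.disjE e he this)

theorem nS0 (f : FF d.toQE) (l : UL d) (h : HE d E) : nor (d.U ⊔ E) ≤ nor d.U := fun g hg => by
  obtain ⟨x, hx, η, e1, xZ, a⟩ := H27.BG.exEta f l.toUL1 h.toHy0
  have xt := (h.Hle hx).1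
  obtain ⟨z, hz, e, he, b⟩ := (memE h (h.ZU.trans h.tU)).1 (invF h (conj_mem_nor' hg (mem_sup_right h.tE)) (by
      rw [show g⁻¹ * d.t * g * (g⁻¹ * d.t * g) = g⁻¹ * (d.t * d.t) * g by group, h.tt]; group))
  have x1 : g * x * g⁻¹ ∈ cen1 d.t := mc.2 (by
    calc _ = g * (x * (g⁻¹ * d.t * g)) * g⁻¹ := by group
      _ = g * (g⁻¹ * d.t * g * x) * g⁻¹ := by
        rw [b, ← mul_assoc x, ← xZ z hz, mul_assoc z, cE h he xt, ← mul_assoc z]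
      _ = _ := by group)
  have x2 : g * x * g⁻¹ ∈ nor (d.U ⊔ E) := mul_mem (mul_mem hg (H55.GH.nor_sup (h.Hle hx).2
    (C_nor h xt))) (inv_mem hg)
  have x3 := H27.BG.nor_of h.toHy0 _ x1 ((cj_le_of_le le_sup_left x2).trans fun _ a => (S0_le h a).2.1)
  refine mem_normalizer_of_cj_le (cj_le_iff.2 (H27.BG.genU f h.toUD (h.Hle hx).2 e1 a fun v hv => ?_))
  rw [mem_cj, inv_inv, show g * (x * v * x⁻¹ * v⁻¹) * g⁻¹ =
    g * x * g⁻¹ * (g * v * g⁻¹) * (g * x * g⁻¹)⁻¹ * (g * v * g⁻¹)⁻¹ by group]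
  obtain ⟨u, hu, e, he, b⟩ := (memE h h.tU).1 (conj_mem_nor hg (mem_sup_left hv))
  rw [b, ← conj_mul, cjE h he x1, mul_inv_rev u, mul_assoc, mul_inv_cancel_left]
  exact mul_mem (conj_mem_nor x3 hu) (inv_mem hu)

/-- a reflection confines the `Tr0` part to `A(y) E` -/
theorem le_AE (h : HE d E) (hX : X ≤ cen1 d.t) (p : IsPGroup 2 X) (hg : g ∈ X) (r : d.Refl g y)
    (c : ∀ x ∈ X, g * x * g⁻¹ * x⁻¹ ∈ d.Z) : X ⊓ T0 d ≤ d.A y ⊔ E := fun x hx => by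
  obtain ⟨u, hu, e, he, rfl⟩ := (memE h h.tU).1 (le_S0 h hX p hx)
  refine mul_mem_sup (line h.toUD r hu ?_) he
  have a := conj_mem_nor r.nor hu
  have := c _ hx.1
  rw [← conj_mul, cjE h he (hX hg), mul_inv_rev, mul_assoc, mul_inv_cancel_left] at this
  have := (h.ker _ (h.ZU this)).2 this
  rwa [h.π_mul _ a _ (inv_mem hu), h.toUD.π_inv hu, CharTwo.add_eq_zero] at this

theorem A_le (h : HE d E) : d.A y ≤ cen1 d.t := fun _ hu => h.tU (h.toUD.mem_A.1 hu).1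

theorem uc (f : FF d.toQE) (l : UL d) (h : HE d E) (X V : Subgroup G) (hX : X ≤ cen1 d.t ⊓ nor d.U)
    (s : SX X V) (cV : Nat.card V = Nat.card k) (cX : Nat.card X = Nat.card k ^ 3) :
    V = d.Z ∧ X ≤ d.U ⊔ E := by
  have p := two_of_sx s
  have four := d.four
  have lt : Nat.card k * 4 ≤ Nat.card k ^ 2 := by rw [sq]; exact Nat.mul_le_mul_left _ four
  have lt2 : Nat.card k ^ 2 * 4 ≤ Nat.card k ^ 3 := Nat.mul_le_mul_left _ four
  obtain ⟨x, hx, n⟩ : ∃ x ∈ X, x ∉ V := SetLike.not_le_iff_exists.1 fun e => by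
    have := card_le_of_le e
    omega
  have e : V = d.Z := eq_of_le_of_card_ge (fun v hv => by
    obtain ⟨w, hw, e⟩ := s.onto x hx n v hv
    exact h.toUD.mem_Z_of_sq (e ▸ der f l h X hX p x hx w hw) (s.el v hv)) (by rw [l.cardZ, cV])
  subst e
  have h0 := trich l (hX.trans inf_le_right) p s.cen
  refine ⟨rfl, fun g hg => le_S0 h (hX.trans inf_le_left) p
    ⟨hg, (h0 g hg).resolve_right fun ⟨y, r⟩ => ?_⟩⟩
  have h2 := le_AE h (hX.trans inf_le_left) p hg r (s.com _ hg)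
  have h3 := l.sxiso X d.Z (X ⊓ T0 d) ⊥ s (le_inf s.le (h.ZU.trans (U_le_T0 h.toUD))) inf_le_left
    (bot_lt_iff_ne_bot.2 fun e => by rw [e, card_bot] at cV; omega) fun a ha b hb => by
      obtain ⟨u, hu, e, he, rfl⟩ := (memE h (A_le h)).1 (h2 ha)
      obtain ⟨v, hv, e', he', rfl⟩ := (memE h (A_le h)).1 (h2 hb)
      have : Commute (u * e) (v * e') :=
        ((show Commute u v from A_comm h.toUD hu hv).mul_right (cE h he' (A_le h hu))).mul_left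
          ((show Commute e v from (cE h he (A_le h hv)).symm).mul_right (cE h he' (E_le h he)))
      rw [this.eq, mul_inv_cancel_right, mul_inv_cancel]; exact one_mem _
  have h4 := idx2 l p h0
  rw [cX, cV, ← pow_succ, show 3 + 1 = 2 * 2 by rfl, pow_mul, Nat.pow_le_pow_iff_left two_ne_zero] at h3
  omega

theorem cp (l : UL d) (h : HE d E) (X : Subgroup G) (hX : X ≤ cen1 d.t ⊓ nor d.U) (p : IsPGroup 2 X)
    (z : X ≤ cen d.Z) (c : ∀ a ∈ X, ∀ b ∈ X, a * b * a⁻¹ * b⁻¹ ∈ d.Z)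
    (lt : 2 * Nat.card k ^ 2 * Nat.card E < Nat.card X) : X ≤ d.U ⊔ E := fun g hg => by
  have h0 := trich l (hX.trans inf_le_right) p z
  refine le_S0 h (hX.trans inf_le_left) p ⟨hg, (h0 g hg).resolve_right fun ⟨y, r⟩ => ?_⟩
  have h2 := (card_le_of_le (le_AE h (hX.trans inf_le_left) p hg r (c g hg))).trans
    (Nat.le_of_dvd (Nat.mul_pos Nat.card_pos Nat.card_pos)
      (H46.card_sup_dvd ((E_cen h (A_le h)).trans (centralizer_le_normalizer _))))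
  have h4 := idx2 l p h0
  rw [l.cardA y r.ne] at h2
  rw [mul_assoc] at lt
  omega

theorem norE (f : FF d.toQE) (l : UL d) (h : HE d E) (g : G) (hg : g ∈ nor E) :
    ∃ c ∈ cen1 d.t, g * c ∈ nor d.U := by
  have n := nor_C h h.tE h.t1 (conj_mem_nor hg h.tE)
  have a : cj g d.U ≤ cen1 d.t := n ▸ cj_mono g h.tU
  obtain ⟨c, hc, b⟩ := h.syl _ a (l.two.map _)
  refine ⟨g⁻¹ * c * g, mem_cj.1 (n.ge hc), nS0 f l h (mem_normalizer_of_cj_le ?_)⟩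
  rw [← mul_assoc, mul_inv_cancel_left, cj_sup]
  exact sup_le (uc f l h _ _ (cj_cj c g _ ▸ le_inf (cj_le_of_le_of_mem a hc) b) (l.sxU.cj _)
    (by rw [card_cj, l.cardZ]) (by rw [card_cj, l.cardU])).2
    ((cj_le_of_le le_rfl (mul_mem (C_nor h hc) hg)).trans le_sup_right)

theorem tr0 (l : UL d) (h : HE d E) (x : G) (h1 : x ∈ cen1 d.t) (h2 : x ∈ nor d.U) (t : d.Tr0 x) :
    ∃ u ∈ d.U, u⁻¹ * x ∈ cen d.U := by
  obtain ⟨i, e, o⟩ := H27.BG.dec2 x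
  have p : x ^ i ∈ T0 d := pow_mem (show x ∈ T0 d from ⟨h2, t⟩) i
  have oc := l.odd0 _ (mul_mem (inv_mem p.1) h2) (mul_mem (inv_mem p) (show x ∈ T0 d from ⟨h2, t⟩)).2 o
  obtain ⟨u, hu, e, he, a⟩ := (memE h h.tU).1 (h.h4E _ (pow_mem h1 i) p.1 e p.2)
  refine ⟨u, hu, ?_⟩
  rw [show u⁻¹ * x = e * ((u * e)⁻¹ * x) by group, ← a]
  exact mul_mem (E_cen h h.tU he) oc

theorem core (h : HE d E) : ∃ O : Subgroup G, O ≤ cen d.U ⊓ cen1 d.t ∧ Odd (Nat.card O) ∧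
    (∀ c ∈ cen d.U, c ∈ cen1 d.t → Odd (orderOf c) → c ∈ O) ∧
    ∀ c ∈ cen d.U, c ∈ cen1 d.t → ∃ f ∈ d.Z ⊔ E, ∃ o ∈ O, c = f * o := by
  have : Fact (Nat.Prime 2) := ⟨Nat.prime_two⟩
  let P : Sylow 2 ↥(cen d.U ⊓ cen1 d.t) := default
  have hP : normalizer (P : Set ↥(cen d.U ⊓ cen1 d.t)) ≤ centralizer (P : Set _) := fun g _ p hp => by
    obtain ⟨n, hn⟩ := P.isPGroup' ⟨p, hp⟩
    obtain ⟨z, hz, e, he, a⟩ := (memE h (h.ZU.trans h.tU)).1 (cenU h p p.2.1 p.2.2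
      ⟨n, congrArg (fun x : P => ((x : ↥(cen d.U ⊓ cen1 d.t)) : G)) hn⟩)
    refine Subtype.ext ?_
    show (p : G) * g = g * p
    rw [a, mul_assoc, ← cE h he g.2.2, ← mul_assoc, g.2.1 z (h.ZU hz), mul_assoc]
  have oO : ∀ c ∈ cen d.U, c ∈ cen1 d.t → Odd (orderOf c) →
      c ∈ (MonoidHom.transferSylow P hP).ker.map (cen d.U ⊓ cen1 d.t).subtype := fun c h1 h2 o =>
    ⟨⟨c, h1, h2⟩, Subtype.ext (H27.BG.eq_one_of_two_odd P.isPGroup' (Subtype.property _) o (by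
      rw [← SubgroupClass.coe_pow, ← map_pow, show (⟨c, h1, h2⟩ : ↥(cen d.U ⊓ cen1 d.t)) ^ orderOf c = 1
        from Subtype.ext (pow_orderOf_eq_one c), map_one]; rfl)), rfl⟩
  refine ⟨_, map_subtype_le _, ?_, oO, fun c h1 h2 => ?_⟩
  · rw [card_map_of_injective (subtype_injective _), ← Nat.not_even_iff_odd, even_iff_two_dvd]
    exact MonoidHom.not_dvd_card_ker_transferSylow P hP
  · obtain ⟨i, e, o⟩ := H27.BG.dec2 c
    exact ⟨c ^ i, cenU h _ (pow_mem h1 i) (pow_mem h2 i) e, _,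
      oO _ (mul_mem (inv_mem (pow_mem h1 i)) h1) (mul_mem (inv_mem (pow_mem h2 i)) h2) o, by group⟩

theorem jobES : JobES.{u} := fun _ _ _ _ _ _ _ _ _ _ _ _ _ _ f l h =>
  ⟨H27.BG.co f l.toUL1 h.toHy0, tiE f l h, odd2 h, norE f l h, der f l h, notD f l h,
    let ⟨_, hx, _, e1, _, a⟩ := H27.BG.exEta f l.toUL1 h.toHy0
    H27.BG.genU f h.toUD (h.Hle hx).2 e1 a fun v _ => comm_mem_X2 (H27.BG.oddH h.toHy0 hx) v,
    cenU h, H27.BG.nor_of h.toHy0, nS0 f l h, uc f l h, cp l h, tr0 l h, core h⟩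

end H76.BG
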