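import Cfsg.Agent.H86.SPGDef
import Cfsg.Agent.H6.Sp2P1
import Cfsg.Agent.H96.SP2NK

/-! STD-SP type I fusion, slot G2a: `g` normalises `t Q`. -/

set_option autoImplicit false
set_option linter.unusedSectionVars false

namespace H76.SGG2a

open H64.SG (Cz Cs Ns Inv2 IsO2 mem_Cz)
open H67.UA hiding Par
open H67.SP H86.SPG
open H67.SA (la cm mem_cjs conj_mem_cjs)
open H59.SO (Ind B1 B0 CE exists_ind ind_conj_iff map_mem_Ns)
open H96.SP2N (nor_map nor_zs comm_tr h01)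
open H78.S2 (zs)
open Subgroup

universe u

variable {n : ℕ} {F : Type} [Field F] [StarRing F] [TrivialStar F] [CharP F 2] [Finite F] [Par n F]
  {G : Type u} [Group G] {e : XU n F →* G} {t g : G}

theorem fu_conj (h : B1 e t) {a a' : XU n F} (c : IsConj a a') (k : Fu e t a) : Fu e t a' := by
  obtain ⟨b, rfl⟩ := isConj_iff.1 c
  refine k.trans (isConj_iff.2 ⟨e b, ?_⟩)
  rw [map_mul, map_mul, map_inv, ← mul_assoc t, ← mul_assoc t, h.comm b]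
  group

theorem xc_eq : xc n F = EE (ev 0) (ev 1) 1 := by
  rw [xc, xb, xa, H78.S2.Tc_mul_EE (hf_symm h01), zero_add]

theorem xc_sq : xc n F * xc n F = 1 := by rw [xc_eq, H86.SPI.EE_sq (hf_symm h01)]

/-- `D = C(t, e c₂, e X_s)` -/
noncomputable def DD (e : XU n F →* G) (t : G) : Subgroup G := Cz t ⊓ Cz (e (xc n F)) ⊓ Cs ((ZS n F).map e)

theorem mem_DD [FA n F] (q : FQ n F) (H : CH e t) {d : G} :
    d ∈ DD e t ↔ ∃ c ∈ Cz (xc n F), d = e c ∨ d = t * e c := by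
  have h1 : ∀ c ∈ Cz (xc n F), e c ∈ DD e t := fun c hc =>
    ⟨⟨H.toB1.mem_Cz c, mem_Cz.2 (by rw [← map_mul, mem_Cz.1 hc, map_mul])⟩,
      H59.SO.map_mem_Cs (q.zs hc)⟩
  have h2 : t ∈ DD e t := ⟨⟨mem_Cz.2 rfl, mem_Cz.2 (H.toB1.comm _).symm⟩, H59.SO.Cs_range_le _ H.cen⟩
  refine ⟨fun hd => ?_, ?_⟩
  · obtain ⟨β, hβ⟩ := exists_ind H.inj (H.cz hd.1.1)
    obtain ⟨s, rfl⟩ := q.lin2 β (hβ.fix H.inj hd.2)
    refine ⟨s, mem_Cz.2 ?_, ?_⟩
    · have := (hβ.comm_iff H.inj).1 (mem_Cz.1 hd.1.2).symm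
      rw [MulAut.conj_apply, mul_inv_eq_iff_eq_mul] at this
      exact this.symm
    · exact (H.ck _ (mul_mem hd.1.1 (inv_mem (H.toB1.mem_Cz s))) (ind_conj_iff.1 hβ)).imp
        (fun k => mul_inv_eq_one.1 k) fun k => mul_inv_eq_iff_eq_mul.1 k
  · rintro ⟨c, hc, rfl | rfl⟩
    exacts [h1 c hc, mul_mem h2 (h1 c hc)]

theorem jobG2a : JobG2a.{u} := by
  intro n F _ _ _ _ _ p G _ _ e t b fc q H ⟨g, h1, h2⟩ fa fb
  have five := p.five
  have B := H.toB1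
  have h3 : g * e (xc n F) * g⁻¹ = e (xc n F) := by rw [h2, mul_inv_cancel_right]
  have zz : e (xc n F) * e (xc n F) = 1 := by rw [← map_mul, xc_sq, map_one]
  have h4 : g * (t * e (xc n F)) * g⁻¹ = t := by rw [← conj_mul, h1, h3, mul_assoc, zz, mul_one]
  have ed := (ab H.toCE.b0).edge g _ _ h1 h3
  have o2 : IsO2 (Qk n F 2) (Pc (Cz (xc n F))) := by
    have := FC.o2 (n := n) (F := F) 1 1 one_ne_zero
    rwa [zu, one_smul] at this
  have n2 := H6.Sp2P1.ns_O2 H.inj o2 (H98.mem_normalizer_of_cj_le ed.le)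
  have nD : g ∈ Ns (DD e t) := H98.mem_normalizer_of_cj_le (by
    rintro _ ⟨d, hd, rfl⟩
    change g * d * g⁻¹ ∈ _
    refine ⟨⟨mem_Cz.2 ?_, mem_Cz.2 ?_⟩, ?_⟩
    · nth_rw 1 [← h4]
      rw [conj_mul, mul_assoc t, mem_Cz.1 hd.1.2, ← mul_assoc t, mem_Cz.1 hd.1.1, mul_assoc d,
        ← conj_mul, h4]
    · nth_rw 1 [← h3]
      rw [conj_mul, mem_Cz.1 hd.1.2, ← conj_mul, h3]
    · rintro _ ⟨x, hx, rfl⟩
      obtain ⟨a, rfl⟩ := (FV.mem_Zs _ _ h01 _).1 hx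
      obtain ⟨a', ha⟩ := nor_zs b fc (inv_mem n2) a
      exact comm_tr rfl ha (hd.2 _ ⟨_, (FV.mem_Zs _ _ h01 _).2 ⟨a', rfl⟩, rfl⟩))
  have cD : cjs g (DD e t) = DD e t := H98.cj_eq_self nD
  have zQ : xc n F ∈ QQ n F := (FV.mem_Qv _ _).2 ⟨_, _, hf_symm h01, xc_eq⟩
  have zQ2 : xc n F ∈ Qk n F 2 := by
    rw [xc_eq]
    refine FV.EE_Q 2 (by omega) _ _ _ (fun i hi => ?_) fun i hi => ?_ <;> rw [ev_apply, if_neg]
    · rintro rfl; simp at hi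
    · rintro rfl; rw [H54.SPF.v1 five] at hi; omega
  have QC : QQ n F ≤ Cz (xc n F) := le_sup_left.trans FC.oc.1
  have nQ : Cz (xc n F) ≤ Ns (QQ n F) := q.cp.trans (FR.o2 _ (ev_ne 0)).2.1
  obtain ⟨V, hV⟩ : ∃ V, V = (QQ n F).map e ⊔ zpowers t := ⟨_, rfl⟩
  have mV : ∀ x, x ∈ V ↔ ∃ a ∈ QQ n F, x = e a ∨ x = t * e a := fun x => hV ▸ B.mem_sup
  have VD : V ≤ DD e t := fun x hx => by
    obtain ⟨a, ha, k⟩ := (mV x).1 hx
    exact (mem_DD q H).2 ⟨a, QC ha, k⟩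
  have DV : DD e t ≤ Ns V := fun d hd => H98.mem_normalizer_of_cj_le (by
    rintro _ ⟨x, hx, rfl⟩
    change d * x * d⁻¹ ∈ _
    obtain ⟨c, hc, k⟩ := (mem_DD q H).1 hd
    have k1 : ∀ a, d * e a * d⁻¹ = e (c * a * c⁻¹) := fun a => by
      rcases k with rfl | rfl
      · simp
      · rw [← B.conj_eq (c * a * c⁻¹), map_mul, map_mul, map_inv]; group
    have k2 : d * t * d⁻¹ = t := by rw [← mem_Cz.1 hd.1.1, mul_inv_cancel_right]
    obtain ⟨a, ha, rfl | rfl⟩ := (mV x).1 hx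
    · exact (mV _).2 ⟨_, H98.conj_mem_of_mem_normalizer (nQ hc) ha, Or.inl (k1 a)⟩
    · exact (mV _).2 ⟨_, H98.conj_mem_of_mem_normalizer (nQ hc) ha,
        Or.inr (by rw [← conj_mul, k1, k2])⟩)
  have sV : ∀ x ∈ V, x * x = 1 := fun x hx => by
    obtain ⟨a, ha, k⟩ := (mV x).1 hx
    obtain ⟨y, c, hy, rfl⟩ := (FV.mem_Qv _ _).1 ha
    rcases k with rfl | rfl
    · rw [← map_mul, H86.SPI.EE_sq hy, map_one]
    · rw [mul_assoc, ← mul_assoc (e _), ← B.comm, ← mul_assoc, ← mul_assoc, B.inv.1, one_mul,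
        ← map_mul, H86.SPI.EE_sq hy, map_one]
  have WD : cjs g V ≤ DD e t := cD ▸ map_mono VD
  have DW : DD e t ≤ Ns (cjs g V) := by rw [← H64.SG.cj_Ns, ← cD]; exact map_mono DV
  have tW : t ∈ cjs g V := h4 ▸ conj_mem_cjs.2 ((mV _).2 ⟨_, zQ, Or.inr rfl⟩)
  have WA : ∀ w ∈ cjs g V, ∃ a ∈ (cjs g V).comap e, w = e a ∨ w = t * e a := fun w hw => by
    obtain ⟨c, -, k⟩ := (mem_DD q H).1 (WD hw)
    refine ⟨c, ?_, k⟩
    rcases k with rfl | rfl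
    exacts [hw, (mul_mem_cancel_left tW).1 hw]
  have tn : ∀ a, t ≠ e a := fun a k => B.not_mem FA.ns ⟨a, k.symm⟩
  have tn' : ∀ a a', e a ≠ t * e a' := fun a a' k =>
    tn (a * a'⁻¹) (by rw [map_mul, map_inv, k, mul_inv_cancel_right])
  have img : ∀ x ∈ QQ n F, g * e x * g⁻¹ ∈ cjs g V := fun x hx =>
    conj_mem_cjs.2 ((mV _).2 ⟨x, hx, Or.inl rfl⟩)
  rcases q.ea ((cjs g V).comap e) (fun a ha => mem_Cz.2 (H.inj (by
      rw [map_mul e _ a, map_mul e a]; exact mem_Cz.1 (WD ha).1.2))) (fun c hc => mem_normalizer_iff.2 fun a => by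
      rw [mem_comap, mem_comap, map_mul, map_mul, map_inv]
      exact mem_normalizer_iff.1 (DW ((mem_DD q H).2 ⟨c, hc, Or.inl rfl⟩)) _) (fun a ha => H.inj (by
      have := sV _ (mem_cjs.1 ha)
      rw [map_mul, map_one]
      calc _ = g * (g⁻¹ * e a * g * (g⁻¹ * e a * g)) * g⁻¹ := by group
        _ = 1 := by rw [this]; group)) with hA | hA
  swap
  · refine absurd (fun x hx => ?_) q.nq
    obtain ⟨a, ha, k⟩ := WA _ (img x hx)
    obtain ⟨a', a1, a2⟩ := nor_map (inv_mem n2) (hA ha)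
    rcases k with k | k
    · rw [← k] at a2
      exact H.inj (show e x = e a' by rw [← a2]; group) ▸ a1
    · refine absurd ?_ (tn' x (xc n F * a'))
      calc _ = g⁻¹ * (g * e x * g⁻¹) * g := by group
        _ = g⁻¹ * (g * (t * e (xc n F)) * g⁻¹ * e a) * g := by rw [k, h4]
        _ = _ := by rw [map_mul e _ a', ← a2]; group
  have fu : ∀ x ∈ QQ n F, Fu e t x := fun x hx => by
    rcases q.rt x hx with rfl | k | k | k
    · rw [Fu, map_one, mul_one]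
    · exact fu_conj B ((FR.lr _).1 k) fb
    · exact fu_conj B ((FR.sr _).1 k) fa
    · exact fu_conj B ((FR.cr _).1 k) (isConj_iff.2 ⟨g, h1⟩)
  have key : ∀ x ∈ QQ n F, ∃ a ∈ QQ n F, g * e x * g⁻¹ = e a := fun x hx => by
    obtain ⟨a, ha, k | k⟩ := WA _ (img x hx)
    · exact ⟨a, hA ha, k⟩
    · exfalso
      rcases q.rt x hx with rfl | r
      · exact tn' 1 a (by rw [← k]; simp)
      · exact (ab H.toCE.b0).nr x r ((fu a (hA ha)).trans (isConj_iff.2 ⟨g, k⟩).symm)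
  refine ⟨g, h1, H98.cj_eq_self (H98.mem_normalizer_of_cj_le ?_), fun c => ?_⟩
  · rintro _ ⟨_, ⟨x, hx, rfl⟩, rfl⟩
    obtain ⟨a, ha, k⟩ := key x hx
    exact ⟨a, ha, k.symm⟩
  · obtain ⟨a, -, k⟩ := key (Tc c (ev 0)) ((FV.mem_Qv _ _).2 ⟨0, c, hf_zero_left _, rfl⟩)
    obtain ⟨r, s, rfl⟩ := (FV.mem_ZU a).1 (FC.zc fun d hd => H.inj (by
      obtain ⟨d', d1, d2⟩ := (mem_DD q H).1 (H98.conj_mem_of_mem_normalizer (inv_mem nD)
        ((mem_DD q H).2 ⟨d, hd, Or.inl rfl⟩))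
      have k1 : e d' * e (Tc c (ev 0)) = e (Tc c (ev 0)) * e d' := by
        rw [← map_mul, ← map_mul, H78.S2.EE_fix (hf_zero_left _) c (q.cp d1) (ac_zero _)]
      rw [map_mul, map_mul]
      rcases d2 with d2 | d2
      · exact comm_tr k d2 k1
      · exact comm_tr k d2 (by rw [mul_assoc, k1, ← mul_assoc, B.comm, mul_assoc])))
    exact ⟨r, s, k⟩

end H76.SGG2a
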