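import Cfsg.Agent.H2.PrSpec
import Cfsg.Agent.H28.CharCenter

/-! PRIME tower (blueprints/PRIME.md): job TPM. -/

set_option autoImplicit false
set_option linter.unusedSectionVars false

namespace H76.PR

open Cfsg H28 H35 H39 H45 H87 H2.PR Module
open scoped ComplexConjugate

universe u

variable {G : Type u} [Group G] [Fintype G] {p e h : ℕ} [hp : Fact p.Prime] {P : Subgroup G} {x y : G}

theorem norm_cen {χ : G → ℂ} (hχ : IsIrrCharacter G χ) {z : G} (hz : z ∈ Subgroup.center G) :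
    ‖χ z‖ = ‖χ 1‖ := by
  rw [hχ.mem_charCenter.1 (hχ.center_le_charCenter hz), hχ.mem_charCenter.1 (one_mem _)]

theorem P_le (lo : Lo p e h P x y) : P ≤ Cen P := fun a ha b hb => by
  have := isCyclic_of_prime_card lo.card
  exact congrArg Subtype.val (IsCyclic.isMulCommutative.is_comm.comm (⟨b, hb⟩ : P) ⟨a, ha⟩)

theorem bij (lo : Lo p e h P x y) : Function.Bijective fun a : Subgroup.center G × P =>
    (⟨a.1 * a.2, mul_mem (Subgroup.center_le_centralizer _ a.1.2) (P_le lo a.2.2)⟩ : Cen P) := by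
  refine ⟨fun a b c => ?_, fun c => ?_⟩
  · have c : (a.1 : G) * a.2 = b.1 * b.2 := congrArg Subtype.val c
    have := Subgroup.disjoint_def.1 (Subgroup.disjoint_of_coprime_natCard
      (lo.card ▸ hp.out.coprime_iff_not_dvd.2 lo.reg)) (mul_mem b.2.2 (inv_mem a.2.2))
      (by rw [← inv_mul_cancel_left (b.1 : G) b.2, ← c, mul_assoc, mul_inv_cancel_right]
          exact mul_mem (inv_mem b.1.2) a.1.2)
    rw [mul_inv_eq_one] at this
    exact Prod.ext (Subtype.ext (by rwa [this, mul_left_inj] at c)) (Subtype.ext this.symm)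
  · obtain ⟨j, z, hz, e⟩ := lo.cen c c.2
    exact ⟨(⟨z, hz⟩, ⟨y ^ j, pow_mem lo.mem j⟩), Subtype.ext (e.trans (Subgroup.mem_center_iff.1 hz _)).symm⟩

theorem sum_nor (lo : Lo p e h P x y) [Fintype P] [Fintype (Nor P)] (f : G → ℂ)
    (h1 : ∀ w ∈ Subgroup.center G, ∀ g, f (w * g) = f g) (h2 : ∀ n ∈ Nor P, n ∉ Cen P → f n = 0) :
    e * ∑ n : Nor P, f n = Nat.card (Nor P) * ((Nat.card P : ℂ)⁻¹ * ∑ z : P, f z) := by
  classical
  have le : Cen P ≤ Nor P := Subgroup.centralizer_le_normalizer _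
  have a : Nat.card (Nor P) = Nat.card (Subgroup.center G) * Nat.card P * e := by
    rw [← Nat.card_prod, Nat.card_eq_of_bijective _ (bij lo), ← lo.idx,
      ← Nat.card_congr (Subgroup.subgroupOfEquivOfLe le).toEquiv, Subgroup.relIndex, Subgroup.card_mul_index]
  rw [← Fintype.sum_of_injective _ (Subgroup.inclusion_injective le) (fun c => f c) _
    (fun n hn => h2 n n.2 fun c => hn ⟨⟨n, c⟩, rfl⟩) fun _ => rfl,
    ← (bij lo).sum_comp fun c => f c, Fintype.sum_prod_type, a]
  simp only [fun (w : Subgroup.center G) => h1 w w.2, Finset.sum_const, Finset.card_univ, nsmul_eq_mul,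
    Nat.card_eq_fintype_card (α := Subgroup.center G)]
  have := card_ne_zero' P
  push_cast
  field_simp

theorem jobTpm (lat : JobLat.{u}) (lift : JobLift.{u}) (jt : JobT.{u}) (g1 : JobG1.{u}) (ev : JobEv.{u})
    (la : JobLA.{u}) : JobTpm.{u} := by
  intro G _ _ p hp e t h d P _ x y θ ν α D t3 ξ n ov
  classical
  obtain ⟨M, hM⟩ := exists_isPModular p hp.out
  have := hM.2.1
  have := charP_F hM
  obtain ⟨_, ρ, l1, c1⟩ := lat G p M hM θ D.irr
  obtain ⟨_, ρ', l2, c2⟩ := lat G p M hM ξ ξ.2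
  obtain ⟨⟨-, a1⟩, a2, a3, -, -, -, a4⟩ := lift G p M hM _ ρ θ l1
  obtain ⟨⟨-, b1⟩, b2, b3, -⟩ := lift G p M hM _ ρ' ξ l2
  have s1 : Scal ρ := fun z hz => a3 z (norm_cen D.irr hz)
  have s2 : Scal ρ' := fun z hz => b3 z (norm_cen ξ.2 hz)
  have two := D.lo.two
  have de := D.de
  rw [← D.irr.cast_charDegree, D.deg, Nat.cast_inj] at a1
  rw [← coe_dg, Nat.cast_inj] at b1
  have k1 := (g1 _ p G P e h x y D.lo _ ρ s1).2 c1
  have nil : (ρ y - 1) ^ d = 0 := by
    rw [← Polynomial.aeval_X_pow (R := F M), ← a1, ← IsNilpotent.charpoly_eq_X_pow_finrank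
      ⟨_, a4 y (congrArg Subtype.val (D.lo.card ▸ pow_card_eq_one' (x := (⟨y, D.lo.mem⟩ : (P : Subgroup G)))))
        (Polynomial.nthRootsFinset p 1) fun ω a b => absurd ((Polynomial.mem_nthRootsFinset hp.out.pos 1).2 a) b⟩,
      LinearMap.aeval_self_charpoly]
  rw [pow_eq_zero_of_le (by omega) nil, LinearMap.range_zero, finrank_bot] at k1
  have L := la _ p G P e h t d x y D.lo D.pe de t3 _ ρ s1 a1 k1
  have hθ := D.irr.isCharacter
  have hξ := ξ.2.isCharacter
  have T := hθ.mul hθ.conj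
  obtain ⟨b, hb⟩ := (T.restrict (Nor (P : Subgroup G))).classInner_nat (hξ.restrict _)
  obtain ⟨w, hw⟩ := (hξ.restrict (Nor (P : Subgroup G))).classInner_nat isCharacter_one
  have hw' := (isCharacter_one.classInner_comm (hξ.restrict _)).trans hw
  have r1 := (jt G p M hM _ _ _ (b2 _ _ _ (a2 _ ρ θ l1))).2 P D.lo.card (mlt (θ * fun g => conj (θ g)) ξ) b
    (by rw [← hb, card_mul_classInner]; simp only [hθ.apply_inv, hξ.apply_inv, Pi.mul_apply])
    (by rw [coe_mlt T, card_mul_classInner]; simp only [hθ.apply_inv, hξ.apply_inv, Pi.mul_apply])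
  have r2 := (jt G p M hM _ _ _ l2).1 (Nor (P : Subgroup G)) w (by
    rw [← hw, card_mul_classInner]; simp only [map_one, mul_one])
  have J := sum_nor D.lo (fun g => (θ g * conj (θ g) - 1) * conj ((ξ : G → ℂ) g)) (fun z hz g => by
      rw [show (ξ : G → ℂ) (z * g) = (ξ : G → ℂ) g by simpa using ov ⟨z, hz⟩ g, Complex.mul_conj',
        Complex.mul_conj', apply_mul_of_mem_charCenter D.irr.apply_one_ne_zero
          (D.irr.center_le_charCenter hz), norm_mul, norm_div, norm_cen D.irr hz,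
        div_self (norm_ne_zero_iff.2 D.irr.apply_one_ne_zero), one_mul])
    fun g a b => by rw [Complex.mul_conj', D.nrm g a b]; simp
  rw [← classInner_def (fun z : (P : Subgroup G) => θ z * conj (θ z) - 1) fun z => (ξ : G → ℂ) z] at J
  simp only [sub_mul, Finset.sum_sub_distrib] at J
  erw [← card_mul_classInner, ← card_mul_classInner (fun _ => 1), hb, hw'] at J
  rw [← mul_sub, mul_left_comm, mul_right_inj' (card_ne_zero' _)] at J
  have key : ∀ s c : ℕ, dg ξ = n * p + s → s < p → (∀ γ, finrank (F M) ↥(End.eigenspace (ρ.linHom ρ x) γ ⊓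
      LinearMap.range ((ρ.linHom ρ y - 1) ^ (p - s))) ≤ c) →
      (e * ((b : ℂ) - w)).re ≤ (e * (mlt (θ * fun g => conj (θ g)) ξ + n * ((t - 1) * (d + 1)) + c) : ℕ) :=
    fun s c h1 h2 h3 => by
      have := ev _ p G P e h x y D.lo _ ρ' _ (ρ.linHom ρ) (LinearMap.trace _ _) n s _ c s2
        ((g1 _ p G P e h x y D.lo _ ρ' s2).2 c2) (b1.trans h1) h2 (fun g r => by
          rw [Representation.linHom_apply, LinearMap.trace_comp_comm', LinearMap.comp_assoc,
            ← End.mul_eq_comp (ρ g⁻¹), ← map_mul, inv_mul_cancel, map_one, End.one_eq_id, LinearMap.comp_id])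
        (fun γ => (L γ).1) h3
      have : b ≤ w + (mlt (θ * fun g => conj (θ g)) ξ + n * ((t - 1) * (d + 1)) + c) := by omega
      rw [show (e * ((b : ℂ) - w)).re = e * ((b : ℝ) - w) by simp, Nat.cast_mul]
      exact mul_le_mul_of_nonneg_left (sub_le_iff_le_add'.2 (by exact_mod_cast this)) e.cast_nonneg
  rw [← J]
  have d0 : 0 < d := D.deg ▸ D.irr.charDegree_pos
  refine ⟨fun a => key e _ a (by omega) fun γ => ?_, fun a => ?_⟩
  · rw [show p - e = d by omega]; exact (L γ).2.2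
  · have := (L 0).2.1
    refine (add_le_add_left (key d ((t - 1) * (d + 1) - (d - e / 2)) a (by omega) fun γ => ?_) _).trans ?_
    · rw [show p - d = e by omega]; exact Nat.le_sub_of_add_le (L γ).2.1
    · rw [← Nat.cast_add, ← mul_add, add_assoc, Nat.sub_add_cancel (by omega), add_assoc, add_one_mul]

end H76.PR
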