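import Cfsg.Agent.H49.D8Spec
import Cfsg.Agent.H80.KFHS

/-! D8 tower (blueprints/D8.md): job IH. -/

set_option autoImplicit false

namespace H76.D8

open Cfsg Subgroup H98 H1.Gold

theorem hs_cls : ∃ a b : Spor.HS, ∀ x : Spor.HS, orderOf x = 2 →
    (IsConj a x ∧ Nat.card (cen1 x) = 7680) ∨ (IsConj b x ∧ Nat.card (cen1 x) = 2880) := by
  obtain ⟨c1, a, a1, a2⟩ := H80.KFHS.cca
  obtain ⟨c2, b, b1, b2⟩ := H80.KFHS.ccb
  rw [← a2, card_map_of_injective H79.RepHS.inj] at c1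
  rw [← b2, card_map_of_injective H79.RepHS.inj] at c2
  refine ⟨a, b, fun x hx => ?_⟩
  obtain ⟨t, ht, c⟩ := H80.KFHS.classes x hx
  have e : Nat.card (cen1 x) = Nat.card (cen1 t) := by
    obtain ⟨g, rfl⟩ := isConj_iff.1 c
    rw [← cj_cen1, card_cj]
  rcases ht with k | k
  · obtain rfl := H79.RepHS.inj (k.trans a1.symm)
    exact Or.inl ⟨c, e.trans c1⟩
  · obtain rfl := H79.RepHS.inj (k.trans b1.symm)
    exact Or.inr ⟨c, e.trans c2⟩

theorem jobIH : H49.D8.JobIH := by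
  obtain ⟨a, b, h⟩ := hs_cls
  refine ⟨fun x hx => ?_, fun x y hx hy n m => ?_⟩
  · have := orderOf_dvd_natCard (cen1 (x ^ 7)) (x := x) (mem_centralizer_singleton_iff.2
      (Commute.self_pow x 7))
    rcases h (x ^ 7) (by rw [orderOf_pow' _ (by decide), hx]; rfl) with e | e <;> rw [hx, e.2] at this <;> omega
  · have c1 := (h x hx).resolve_left fun e => n (by rw [e.2]; decide)
    have c2 := (h y hy).resolve_left fun e => m (by rw [e.2]; decide)
    exact ⟨c1.1.symm.trans c2.1, by rw [c1.2]; decide⟩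

end H76.D8
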