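import Cfsg.Agent.H76.SAFB

/-! STD-A (S3127): `JobFD`, `2`-subgroups of `Aut SL_(n+1)(F)`. -/

set_option autoImplicit false
set_option linter.unusedSectionVars false

namespace H76.SAFD

open H64.SG (O2 Syl Cz Cs Ns cjs Is2 Inv2 UF IsO2 fx mem_fx mem_Cz)
open Matrix H57 Subgroup H67.SA H76.SAFB

variable {n : ℕ} {F : Type} [Field F] [Finite F] [CharP F 2]

instance : Fact (Nat.Prime 2) := ⟨Nat.prime_two⟩

theorem conj_map {G : Type*} [Group G] (β : MulAut G) (u : G) :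
    β * MulAut.conj u * β⁻¹ = MulAut.conj (β u) := by
  ext g; simp

theorem cm_conj {G : Type*} [Group G] (β : MulAut G) (u : G) :
    cm β (MulAut.conj u) = MulAut.conj (β u * u⁻¹) := by
  rw [cm, conj_map, map_mul, map_inv]

theorem conj_cm {G : Type*} [Group G] (a b : G) :
    cm (MulAut.conj a) (MulAut.conj b) = MulAut.conj (cm a b) := by
  simp only [cm, map_mul, map_inv]

theorem syl_cU : H98.IsSyl 2 (cI (UU n F)) (cI ⊤) := (H64.SG.syl_iff.1 syl_UU).map _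

theorem mem_of_conj {H : Subgroup (SLn n F)} (hH : H ≤ UU n F) {a : SLn n F} (ha : Is2 a)
    (h : MulAut.conj a ∈ cI H) : a ∈ H := by
  obtain ⟨b, hb, e⟩ := mem_cI.1 h
  rwa [conj_inj ha (is2_of_UU (hH hb)) e]

theorem mem_cU (hn : 2 ≤ n) {D : Subgroup (Au n F)} (hD : IsPGroup 2 D) (hU : cI (UU n F) ≤ D)
    {β : Au n F} (hβ : β ∈ D) (h : out n F β = 1) : β ∈ cI (UU n F) := by
  obtain ⟨s, -, rfl⟩ := inner_of_out hn h (H64.SG.isPGroup_iff_is2.1 hD β hβ)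
  exact (syl_cU.eq_of_le (hD.to_inf_left (K := cI ⊤)) (le_inf hU (map_mono le_top)) inf_le_right).le
    ⟨hβ, mem_map_of_mem _ trivial⟩

theorem St_of_mem (hn : 2 ≤ n) {D : Subgroup (Au n F)} (hD : IsPGroup 2 D) (hU : cI (UU n F) ≤ D)
    {β : Au n F} (hβ : β ∈ D) : β ∈ St (UU n F) := mem_St_of_finite fun u hu =>
  mem_of_conj le_rfl ((is2_of_UU hu).map β.toMonoidHom) (mem_cU hn hD hU
    (conj_map β u ▸ mul_mem (mul_mem hβ (hU (mem_map_of_mem _ hu))) (inv_mem hβ)) (out_conj hn _))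

theorem entry_of_Z (hn : 2 ≤ n) {a b : SLn n F} (hb : b ∈ UU n F) (h : a * b⁻¹ ∈ ZZ n F)
    {i j : Fin (n + 1)} (hij : ¬ (i = 0 ∧ j = la n)) : a.1 i j = b.1 i j := by
  obtain ⟨c, e⟩ := mem_ZZ.1 h
  rw [mul_inv_eq_iff_eq_mul.1 e, val_mul, x_mul_apply (zero_ne_la (by omega))]
  split_ifs with hi
  · rw [(mem_UU.1 hb).2 _ j (Fin.lt_last_iff_ne_last.2 fun hj => hij ⟨hi, hj⟩), mul_zero, add_zero]
  · rw [add_zero]

theorem graph_false (hn : 2 ≤ n) {β : Au n F} (hβ : β ∈ St (UU n F)) (hg : (out n F β).2 ≠ 1)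
    {j : Fin (n + 1)} (h0 : 0 < j.val) (h1 : j.val < n) {c : F} (hc : c ≠ 0)
    (h : β (x 0 j c) * (x 0 j c)⁻¹ ∈ ZZ n F) : False := by
  have e : (0 : Fin (n + 1)) ≠ j := by rw [Ne, Fin.ext_iff]; simp; omega
  obtain ⟨u, hu, d, hd⟩ := fa_exU hn β hβ
  have := entry_of_Z hn (x_mem_UU (Fin.pos_iff_ne_zero.2 e.symm) c) h (i := 0) (j := j)
    (by rw [Fin.ext_iff (a := j)]; simp; omega)
  rw [x_apply_same e, hd, if_neg hg, conj_x_apply u (Fin.rev_injective.ne e.symm), if_neg e,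
    (mem_UU.1 (inv_mem hu)).2 _ j (by rw [Fin.lt_def]; simpa using h1), mul_zero, add_zero] at this
  exact hc this.symm

theorem ent0 (hn : 2 ≤ n) {y v : SLn n F} (hy : y ∈ UU n F) (hv : v ∈ UU n F) (h : cm y v ∈ ZZ n F)
    {i j : Fin (n + 1)} (hij : ¬ (i = 0 ∧ j = la n)) : (y.1 * v.1) i j = (v.1 * y.1) i j :=
  entry_of_Z hn (a := y * v) (mul_mem hv hy) (by simpa only [cm, _root_.mul_inv_rev, mul_assoc] using h) hij

theorem ent1 (hn : 2 ≤ n) {y : SLn n F} (hy : y ∈ UU n F) {a b : Fin (n + 1)} (hab : a.val < b.val)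
    {c : F} (hc : c ≠ 0) (h : cm y (x a b c) ∈ ZZ n F) :
    (∀ i : Fin (n + 1), i.val ≠ a.val → ¬ (i.val = 0 ∧ b.val = n) → y.1 i a = 0) ∧
      ∀ j : Fin (n + 1), j.val ≠ b.val → ¬ (a.val = 0 ∧ j.val = n) → y.1 b j = 0 := by
  have e : a ≠ b := (Fin.lt_def.2 hab).ne
  refine ⟨fun i hi h1 => ?_, fun j hj h1 => ?_⟩
  · have := ent0 hn hy (x_mem_UU hab c) h (i := i) (j := b)
      fun h => h1 ⟨congrArg Fin.val h.1, congrArg Fin.val h.2⟩
    simpa [mul_x_apply e, x_mul_apply e, Fin.ext_iff, hi, hc] using this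
  · have := ent0 hn hy (x_mem_UU hab c) h (i := a) (j := j)
      fun h => h1 ⟨congrArg Fin.val h.1, congrArg Fin.val h.2⟩
    simpa [mul_x_apply e, x_mul_apply e, Fin.ext_iff, hj, hc] using this

theorem key (hp : Par n F) (hC : FC n F) {β δ : Au n F} (hβ : β ∈ St (UU n F))
    (hin : (out n F β).2 = 1 → β ∈ cI (UU n F)) (hδ : δ ∈ St (UU n F)) (hg : (out n F δ).2 ≠ 1)
    {V : Subgroup (SLn n F)} (v1 : ∀ a ∈ UU n F, ∀ b ∈ UU n F, a ∈ V ∨ b ∈ V ∨ a * b ∈ V)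
    (v2 : ∀ a ∈ UU n F, ∀ b ∈ UU n F, cm a b ∈ V) (v3 : ∀ a ∈ UU n F, δ a * a⁻¹ ∈ V)
    (v4 : ∀ v ∈ V, v ∈ UU n F → β v * v⁻¹ ∈ ZZ n F) :
    ∃ y ∈ UU n F, β = MulAut.conj y ∧ ∀ u ∈ UU n F, cm y u ∈ ZZ n F := by
  have hn := hp.two_le
  have fin : ∀ k, k ≤ n → ∃ o : Fin (n + 1), o.val = k := fun k hk => ⟨⟨k, by omega⟩, rfl⟩
  have ne : ∀ {a b : Fin (n + 1)}, a.val ≠ b.val → a ≠ b := fun h e => h (congrArg _ e)
  have s1 : n ≤ 3 → ∀ a b : Fin (n + 1), a.val < b.val → ∃ c : F, c ≠ 0 ∧ x a b c ∈ V := fun h3 a b hab => by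
    obtain ⟨e, he⟩ : ∃ e : Fˣ, e ≠ 1 := by
      have : 1 < Nat.card Fˣ := by have := hp.four h3; rw [Nat.card_units]; omega
      have := Finite.one_lt_card_iff_nontrivial.1 this
      exact exists_ne 1
    rcases v1 _ (x_mem_UU hab 1) _ (x_mem_UU hab (e : F)) with h | h | h
    · exact ⟨1, one_ne_zero, h⟩
    · exact ⟨e, e.ne_zero, h⟩
    · exact ⟨1 + e, fun h0 => he (Units.ext ((CharTwo.add_eq_zero.1 h0).symm)), x_add a b (1 : F) e ▸ h⟩
  have s2 : ∀ a b : Fin (n + 1), a.val + 2 ≤ b.val → x a b 1 ∈ V := fun a b hab => by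
    obtain ⟨o, ho⟩ := fin (a.val + 1) (by omega)
    have := v2 _ (x_mem_UU (i := a) (j := o) (by rw [Fin.lt_def]; omega) 1) _
      (x_mem_UU (i := o) (j := b) (by rw [Fin.lt_def]; omega) 1)
    rwa [x_cm (ne (by omega)) (ne (by omega)) (ne (by omega)), mul_one] at this
  obtain ⟨o, ho⟩ := fin 1 (by omega)
  obtain ⟨t, ht⟩ := fin 2 (by omega)
  obtain ⟨p, hp'⟩ := fin (n - 1) (by omega)
  obtain ⟨r, hr⟩ := fin (n - 2) (by omega)
  have z0 : (0 : Fin (n + 1)).val = 0 := rfl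
  have zl : (la n).val = n := rfl
  by_cases hb : (out n F β).2 = 1
  swap
  · exfalso
    rcases Nat.lt_or_ge 3 n with h3 | h3
    · exact graph_false hn hβ hb (j := t) (by omega) (by omega) one_ne_zero
        (v4 _ (s2 _ _ (by omega)) (x_mem_UU (by rw [Fin.lt_def]; omega) _))
    · obtain ⟨c, hc, h⟩ := s1 h3 0 o (by omega)
      exact graph_false hn hβ hb (j := o) (by omega) (by omega) hc
        (v4 _ h (x_mem_UU (by rw [Fin.lt_def]; omega) _))
  obtain ⟨y, hy, rfl⟩ := mem_cI.1 (hin hb)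
  refine ⟨y, hy, rfl, (hC.z2 y hy).2 fun i j hij h1 => ?_⟩
  rw [Fin.lt_def] at hij
  have hj := j.2
  have w : ∀ {a b : Fin (n + 1)} {c : F}, a.val < b.val → c ≠ 0 → x a b c ∈ V → _ :=
    fun {a b c} hab hc h => ent1 hn hy hab hc (v4 _ h (x_mem_UU hab c))
  rcases Nat.lt_or_ge 3 n with h3 | h3
  swap
  · by_cases h4 : j.val = n
    · obtain ⟨c, hc, h⟩ := s1 h3 o i (by omega)
      exact (w (by omega) hc h).2 j (by omega) (by omega)
    by_cases h5 : i.val = 0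
    · obtain ⟨c, hc, h⟩ := s1 h3 j p (by omega)
      exact (w (by omega) hc h).1 i (by omega) (by omega)
    · obtain ⟨c, hc, h⟩ := s1 h3 j (la n) (by omega)
      exact (w (by omega) hc h).1 i (by omega) (by omega)
  have s3 : ∀ a b a' b' : Fin (n + 1), a.val < b.val → a'.val + b.val = n → b'.val + a.val = n →
      ∃ c : F, c ≠ 0 ∧ cm y (x a' b' c * x a b 1) ∈ ZZ n F ∧ x a' b' c * x a b 1 ∈ UU n F :=
    fun a b a' b' hab ha hb => by
      obtain rfl : a' = b.rev := Fin.ext (by rw [Fin.val_rev]; omega)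
      obtain rfl : b' = a.rev := Fin.ext (by rw [Fin.val_rev]; omega)
      obtain ⟨u, hu, d, hd⟩ := fa_exU hn δ hδ
      have h1 := v3 _ (x_mem_UU hab 1)
      rw [hd, if_neg hg, x_inv] at h1
      have h2 : b.rev < a.rev := by rw [Fin.lt_def]; omega
      have h3 := mul_mem (inv_mem (v2 _ hu _ (x_mem_UU h2
        (d b.rev * (out n F δ).1 1 * ((d a.rev)⁻¹ : Fˣ))))) h1
      have h4 := mul_mem (x_mem_UU (F := F) h2 (d b.rev * (out n F δ).1 1 * ((d a.rev)⁻¹ : Fˣ)))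
        (x_mem_UU hab 1)
      exact ⟨_, by simp, v4 _ (by convert h3 using 1; simp only [cm]; group) h4, h4⟩
  by_cases h4 : j.val + 2 ≤ n ∧ i.val ≠ 0
  · exact (w (b := la n) (by omega) one_ne_zero (s2 _ _ (by omega))).1 i (by omega) (by omega)
  by_cases h5 : j.val + 3 ≤ n
  · exact (w (b := p) (by omega) one_ne_zero (s2 _ _ (by omega))).1 i (by omega) (by omega)
  by_cases h6 : 2 ≤ i.val ∧ j.val ≠ n
  · exact (w (a := 0) (by omega) one_ne_zero (s2 _ _ (by omega))).2 j (by omega) (by omega)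
  by_cases h7 : 3 ≤ i.val
  · exact (w (a := o) (by omega) one_ne_zero (s2 _ _ (by omega))).2 j (by omega) (by omega)
  by_cases h8 : i.val = 1
  · obtain rfl : i = o := Fin.ext (by omega)
    obtain rfl : j = p := Fin.ext (by omega)
    obtain ⟨c, hc, h, hU⟩ := s3 0 i j (la n) (by omega) (by omega) (by omega)
    have := ent0 hn hy hU h (i := 0) (j := j) fun h => ne (by omega) h.2
    rw [val_mul, ← mul_assoc, mul_assoc (x _ _ _).1, mul_x_apply (ne (by omega)),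
      mul_x_apply (ne (by omega)), x_mul_apply (ne (by omega)), x_mul_apply (ne (by omega)),
      if_neg (ne (by omega)), if_neg (ne (by omega)), if_pos rfl, if_neg (ne (by omega))] at this
    simpa using this
  obtain ⟨c, hc, h, hU⟩ := s3 o t r p (by omega) (by omega) (by omega)
  by_cases h9 : i.val = 0
  · obtain rfl : i = 0 := Fin.ext (by omega)
    obtain rfl : j = r := Fin.ext (by omega)
    have := ent0 hn hy hU h (i := 0) (j := p) fun h => ne (by omega) h.2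
    rw [val_mul, ← mul_assoc, mul_assoc (x _ _ _).1, mul_x_apply (ne (by omega)),
      mul_x_apply (ne (by omega)), x_mul_apply (ne (by omega)), x_mul_apply (ne (by omega)),
      if_pos rfl, if_neg (ne (by omega)), if_neg (ne (by omega)), if_neg (ne (by omega))] at this
    simpa [hc] using this
  · obtain rfl : i = t := Fin.ext (by omega)
    obtain rfl : j = la n := Fin.ext (by omega)
    have := ent0 hn hy hU h (i := o) (j := la n) fun h => ne (by omega) h.1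
    rw [val_mul, ← mul_assoc, mul_assoc (x _ _ _).1, mul_x_apply (ne (by omega)),
      mul_x_apply (ne (by omega)), x_mul_apply (ne (by omega)), x_mul_apply (ne (by omega)),
      if_neg (ne (by omega)), if_neg (ne (by omega)), if_pos rfl, if_neg (ne (by omega))] at this
    simpa using this

theorem x_z2 (hC : FC n F) {a b : Fin (n + 1)} (hab : a.val < b.val) (h : a.val + n ≤ b.val + 1) :
    ∀ u ∈ UU n F, cm (x a b 1) u ∈ ZZ n F := (hC.z2 _ (x_mem_UU hab 1)).2 fun i j hij h1 => by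
  rw [x_apply (Fin.lt_def.2 hab).ne, if_neg hij.ne, if_neg (by simp only [Fin.ext_iff]; omega), add_zero]

theorem img (hn : 2 ≤ n) (hC : FC n F) (ψ : UU n F →* SLn n F) (inj : Function.Injective ψ)
    (hr : ∀ u, ψ u ∈ UU n F) (hz : ∀ u, u.1 ∈ ZZ n F → ψ u ∈ ZZ n F) :
    ∀ u, u.1 ∈ QQ n F → ψ u ∈ QQ n F := by
  have sj : ∀ v ∈ UU n F, ∃ u, ψ u = v := fun v hv => by
    obtain ⟨u, e⟩ := Finite.surjective_of_injective (f := ψ.codRestrict _ hr)
      (fun a b e => inj (congrArg Subtype.val e)) ⟨v, hv⟩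
    exact ⟨u, congrArg Subtype.val e⟩
  have k : ∀ N : Subgroup (SLn n F), UU n F ≤ Ns N → N ≤ Cs N → ∀ i j l : Fin (n + 1), i.val < j.val →
      j.val < l.val → (x i j 1 ∈ N ∧ j.val + n ≤ l.val + 1 ∨ x j l 1 ∈ N ∧ i.val + n ≤ j.val + 1) →
      ∀ u, u.1 ∈ N → ψ u ∈ QQ n F := fun N h1 h2 i j l hij hjl h u hu => by
    have nc : ψ ⟨_, x_mem_UU hij 1⟩ * ψ ⟨_, x_mem_UU hjl 1⟩ ≠ ψ ⟨_, x_mem_UU hjl 1⟩ * ψ ⟨_, x_mem_UU hij 1⟩ :=
      fun e => by
        rw [← map_mul, ← map_mul] at e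
        have := cm_eq_one.2 (congrArg Subtype.val (inj e))
        rw [x_cm (Fin.lt_def.2 hij).ne (Fin.lt_def.2 hjl).ne (Fin.lt_def.2 (hij.trans hjl)).ne,
          x_eq_one (Fin.lt_def.2 (hij.trans hjl)).ne, mul_one] at this
        exact one_ne_zero this
    have z2 : ∀ {a b : Fin (n + 1)} (hab : a.val < b.val), a.val + n ≤ b.val + 1 → ∀ v ∈ UU n F,
        cm (ψ ⟨_, x_mem_UU hab 1⟩) v ∈ ZZ n F := fun hab h v hv => by
      obtain ⟨w, rfl⟩ := sj v hv
      have := hz (cm ⟨_, x_mem_UU hab 1⟩ w) (x_z2 hC hab h w w.2)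
      simpa only [cm, map_mul, map_inv] using this
    have q := hC.qc ((N.subgroupOf (UU n F)).map ψ) (by rintro _ ⟨w, -, rfl⟩; exact hr w)
      (fun v hv => conj_mem_St.1 (mem_St_of_finite (by
        obtain ⟨w, rfl⟩ := sj v hv
        rintro _ ⟨a, ha, rfl⟩
        exact ⟨w * a * w⁻¹, (H98.conj_mem_of_mem_normalizer (h1 w.2) ha : w.1 * a.1 * w.1⁻¹ ∈ N),
          by simp⟩)))
      (by
        rintro _ ⟨a, ha, rfl⟩ _ ⟨b, hb, rfl⟩
        rw [← map_mul, ← map_mul]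
        exact congrArg ψ (Subtype.ext (h2 ha b hb)))
    rcases h with h | h
    · exact q _ (mem_map_of_mem ψ (x := ⟨_, x_mem_UU hij 1⟩) h.1) _ (hr _) (z2 hjl h.2) nc
        (mem_map_of_mem ψ hu)
    · exact q _ (mem_map_of_mem ψ (x := ⟨_, x_mem_UU hjl 1⟩) h.1) _ (hr _) (z2 hij h.2) nc.symm
        (mem_map_of_mem ψ hu)
  have n1 : UU n F ≤ Ns (Er n F) := (UU_le_P00.trans P00_le_Pr).trans Pr_le_Ns
  have n2 : UU n F ≤ Ns (Ec n F) := (UU_le_P00.trans P00_le_Pc).trans Pc_le_Ns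
  rintro ⟨u, hU⟩ hu
  obtain ⟨a, ha, b, hb, rfl⟩ := (H98.mem_sup_right_norm ((Ec_le_QQ.trans QQ_le_UU).trans n1)).1 hu
  have := mul_mem (k _ n1 (Row_le_Cs _) 0 ⟨1, by omega⟩ (la n) (by simp) (by simp; omega)
    (Or.inl ⟨x_mem_Row _ _ _, by simp; omega⟩) ⟨a, QQ_le_UU (Er_le_QQ ha)⟩ ha)
    (k _ n2 (Col_le_Cs _) 0 ⟨n - 1, by omega⟩ (la n) (by simp; omega) (by simp; omega)
    (Or.inr ⟨x_mem_Col _ _ _, by simp; omega⟩) ⟨b, QQ_le_UU (Ec_le_QQ hb)⟩ hb)
  rw [← map_mul] at this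
  exact this

theorem th (hp : Par n F) (hC : FC n F) (D D' : Subgroup (Au n F)) (hD : IsPGroup 2 D)
    (hD' : IsPGroup 2 D') (hU : cI (UU n F) ≤ D) (hU' : cI (UU n F) ≤ D')
    (hZ : ∀ β ∈ D, ∀ z ∈ ZZ n F, β z = z) (hZ' : ∀ β ∈ D', ∀ z ∈ ZZ n F, β z = z)
    (θ : Au n F → Au n F) (hm : ∀ a ∈ D', ∀ b ∈ D', θ (a * b) = θ a * θ b) (hb : Set.BijOn θ D' D)
    (hz : ∀ a ∈ cI (ZZ n F), θ a ∈ cI (ZZ n F)) : ∀ a ∈ cI (QQ n F), θ a ∈ cI (QQ n F) := by
  have hn := hp.two_le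
  let θh : D' →* Au n F := MonoidHom.mk' (fun a => θ a) fun a b => hm a a.2 b b.2
  have hcm : ∀ a ∈ D', ∀ b ∈ D', θ (cm a b) = cm (θ a) (θ b) := fun a ha b hb =>
    map_commutatorElement θh ⟨a, ha⟩ ⟨b, hb⟩
  have in1 : ∀ β ∈ D, (out n F β).2 = 1 → β ∈ cI (UU n F) := fun β h e =>
    mem_cU hn hD hU h (Prod.ext (fa_fz hn β (hZ β h)) e)
  have in2 : ∀ β ∈ D', (out n F β).2 = 1 → β ∈ cI (UU n F) := fun β h e =>
    mem_cU hn hD' hU' h (Prod.ext (fa_fz hn β (hZ' β h)) e)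
  have cj : ∀ u ∈ UU n F, MulAut.conj u ∈ D := fun u hu => hU (mem_map_of_mem _ hu)
  have cj' : ∀ u ∈ UU n F, MulAut.conj u ∈ D' := fun u hu => hU' (mem_map_of_mem _ hu)
  have main : ∀ a ∈ cI (UU n F), θ a ∈ cI (UU n F) := by
    by_contra! hc
    obtain ⟨a0, h0, h1⟩ := hc
    obtain ⟨u0, hu0, rfl⟩ := mem_cI.1 h0
    have hδ : θ (MulAut.conj u0) ∈ D := hb.mapsTo (hU' h0)
    have hg : (out n F (θ (MulAut.conj u0))).2 ≠ 1 := fun e => h1 (in1 _ hδ e)
    set U1 := ((cI (UU n F)).subgroupOf D').map θh with hU1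
    have m1 : ∀ a ∈ cI (UU n F), θ a ∈ U1 := fun a ha => ⟨⟨a, hU' ha⟩, ha, rfl⟩
    have i1 : ∀ a ∈ D, ∀ b ∈ D, a ∈ U1 ∨ b ∈ U1 ∨ a * b ∈ U1 := fun a ha0 b hb0 => by
      obtain ⟨a, ha, rfl⟩ := hb.surjOn ha0
      obtain ⟨b, hb', rfl⟩ := hb.surjOn hb0
      rcases z2_cases (out n F a).2 with e | e
      · exact Or.inl (m1 _ (in2 _ ha e))
      rcases z2_cases (out n F b).2 with e' | e'
      · exact Or.inr (Or.inl (m1 _ (in2 _ hb' e')))
      · refine Or.inr (Or.inr (hm a ha b hb' ▸ m1 _ (in2 _ (mul_mem ha hb') ?_)))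
        rw [map_mul, Prod.snd_mul, e, e', z2_mul_self]
    have i2 : ∀ a ∈ D, ∀ b ∈ D, cm a b ∈ U1 := fun a ha0 b hb0 => by
      obtain ⟨a, ha, rfl⟩ := hb.surjOn ha0
      obtain ⟨b, hb', rfl⟩ := hb.surjOn hb0
      exact hcm a ha b hb' ▸ m1 _ (mem_cU hn hD' hU' (mul_mem (mul_mem (mul_mem ha hb') (inv_mem ha))
        (inv_mem hb')) (out_cm a b))
    have i3 : ∀ a ∈ UU n F, ∀ b ∈ UU n F, cm a b ∈ ZZ n F → ∀ v ∈ UU n F, θ (MulAut.conj b) = MulAut.conj v →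
        θ (MulAut.conj a) v * v⁻¹ ∈ ZZ n F := fun a ha b hb' h v hv e => by
      refine mem_of_conj ZZ_le_UU (is2_of_UU (mul_mem ((St_of_mem hn hD hU (hb.mapsTo (cj' a ha)) v).1 hv)
        (inv_mem hv))) ?_
      rw [← cm_conj, ← e, ← hcm _ (cj' a ha) _ (cj' b hb'), conj_cm]
      exact hz _ (mem_map_of_mem _ h)
    let Y : Set (Au n F) := {β | ∃ y ∈ UU n F, β = MulAut.conj y ∧ ∀ u ∈ UU n F, cm y u ∈ ZZ n F}
    have y1 : Set.MapsTo θ Y Y := by
      rintro _ ⟨y, hy, rfl, h⟩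
      have hβ := hb.mapsTo (cj' y hy)
      refine key hp hC (St_of_mem hn hD hU hβ) (in1 _ hβ) (St_of_mem hn hD hU hδ) hg
        (V := U1.comap MulAut.conj) (fun a ha b hb' => ?_) (fun a ha b hb' => ?_) (fun a ha => ?_) ?_
      · simpa only [mem_comap, map_mul] using i1 _ (cj a ha) _ (cj b hb')
      · rw [mem_comap, ← conj_cm]; exact i2 _ (cj a ha) _ (cj b hb')
      · rw [mem_comap, ← cm_conj]; exact i2 _ hδ _ (cj a ha)
      · rintro v ⟨⟨a, ha'⟩, ha, e⟩ hv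
        obtain ⟨u, hu, rfl⟩ := mem_cI.1 ha
        exact i3 y hy u hu (h u hu) v hv e
    have y2 := ((Set.toFinite Y).injOn_iff_bijOn_of_mapsTo y1).1 (hb.injOn.mono (by
      rintro _ ⟨y, hy, rfl, -⟩; exact cj' y hy))
    have hp' : (0 : Fin (n + 1)).val < (⟨n - 1, by omega⟩ : Fin (n + 1)).val := by simp; omega
    obtain ⟨_, ⟨y, hy, rfl, h⟩, e⟩ := y2.surjOn ⟨_, x_mem_UU hp' 1, rfl, x_z2 hC hp' (by simp; omega)⟩
    refine graph_false hn (St_of_mem hn hD hU hδ) hg hp' (by simp; omega) one_ne_zero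
      (i3 u0 hu0 y hy ?_ _ (x_mem_UU hp' 1) e)
    convert inv_mem (h u0 hu0) using 1
    simp only [cm]; group
  have ex : ∀ u : UU n F, ∃ v ∈ UU n F, θ (MulAut.conj u.1) = MulAut.conj v := fun u =>
    mem_cI.1 (main _ (mem_map_of_mem _ u.2))
  choose ψ h1 h2 using ex
  let ψh : UU n F →* SLn n F := MonoidHom.mk' ψ fun a b => conj_inj (is2_of_UU (h1 _))
    (is2_of_UU (mul_mem (h1 a) (h1 b))) (by
      rw [map_mul, ← h2, ← h2, ← h2, ← hm _ (cj' _ a.2) _ (cj' _ b.2), ← map_mul]; rfl)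
  have := img hn hC ψh (fun a b e => Subtype.ext (conj_inj (is2_of_UU a.2) (is2_of_UU b.2)
    (hb.injOn (cj' _ a.2) (cj' _ b.2) (by rw [h2, h2]; exact congrArg _ e)))) h1
    fun u hu => mem_of_conj ZZ_le_UU (is2_of_UU (h1 u)) (h2 u ▸ hz _ (mem_map_of_mem _ hu))
  rintro _ ⟨u, hu, rfl⟩
  exact h2 ⟨u, QQ_le_UU hu⟩ ▸ mem_map_of_mem _ (this ⟨u, QQ_le_UU hu⟩ hu)

instance : Finite (RingAut F) := Finite.of_injective _ DFunLike.coe_injective

theorem card_split (B : Subgroup (Au n F)) :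
    Nat.card B = Nat.card ↥(B ⊓ (out n F).ker) * Nat.card (B.map (out n F)) := by
  rw [← relIndex_ker, inf_comm, ← inf_relIndex_right,
    ← Nat.card_congr (subgroupOfEquivOfLe (inf_le_right : (out n F).ker ⊓ B ≤ B)).toEquiv]
  exact (card_mul_index _).symm

theorem sb (hn : 2 ≤ n) (B : Subgroup (Au n F)) (hB : IsPGroup 2 B) :
    Nat.card B ≤ Nat.card F ^ (NN n + 1) := by
  rw [card_split, pow_succ]
  refine Nat.mul_le_mul ?_ ?_
  · refine (syl_cU.card_le hB.to_inf_left fun β h => ?_).trans ?_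
    · obtain ⟨s, -, rfl⟩ := inner_of_out hn h.2 (H64.SG.isPGroup_iff_is2.1 hB β h.1)
      exact mem_map_of_mem _ trivial
    · rw [← card_UU]; exact Nat.le_of_dvd Nat.card_pos (card_map_dvd _ _)
  · obtain ⟨f, h1, hf⟩ := exists_card_eq (F := F)
    cases nonempty_fintype F
    refine (Nat.le_of_dvd Nat.card_pos (card_subgroup_dvd_card _)).trans ?_
    rw [Nat.card_prod, card_ringAut_finite_field (p := 2) (f := f) (by rw [← hf, Nat.card_eq_fintype_card]),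
      hf, show Nat.card (Multiplicative (ZMod 2)) = 2 by simp]
    obtain ⟨f, rfl⟩ := Nat.exists_eq_add_of_le' h1
    rw [pow_succ]
    exact Nat.mul_le_mul_right _ Nat.lt_two_pow_self

theorem card_le_two {α : Type*} [Finite α] {s : Set α} (a b : α) (h : ∀ y ∈ s, y = a ∨ y = b) :
    Nat.card s ≤ 2 := by
  rw [Nat.card_coe_set_eq]
  exact (Set.ncard_le_ncard (t := {a, b}) h).trans ((Set.ncard_insert_le _ _).trans (by simp))

theorem er_or_ec {u : SLn 2 F} (hu : u ∈ UU 2 F) (h : u * u = 1) : u ∈ Er 2 F ∨ u ∈ Ec 2 F := by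
  obtain ⟨h1, h2⟩ := mem_UU.1 hu
  have h3 := congrFun (congrFun (sub_one_sq h) 0) 2
  rw [mul_apply, Fin.sum_univ_three] at h3
  have h4 : u.1 0 1 = 0 ∨ u.1 1 2 = 0 := by simpa [h1] using h3
  have a := h2 1 0 (by decide)
  have b := h2 2 0 (by decide)
  have c := h2 2 1 (by decide)
  rcases h4 with h4 | h4
  · refine Or.inr (mem_Col.2 ⟨h1, fun i j e e' => ?_⟩)
    fin_cases i <;> fin_cases j <;> first | assumption | exact absurd rfl e | exact absurd rfl e'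
  · refine Or.inl (mem_Row.2 ⟨h1, fun i j e e' => ?_⟩)
    fin_cases i <;> fin_cases j <;> first | assumption | exact absurd rfl e | exact absurd rfl e'

theorem si0 (hp : Par 2 F) (B : Subgroup (Au 2 F)) (hB : ∀ β ∈ B, β * β = 1) (hS : B ≤ St (UU 2 F))
    (hc : Nat.card F ^ 2 ≤ Nat.card B) : ∀ β ∈ B, out 2 F β = 1 := by
  have hA := jobFA 2 F hp
  have h4 := hp.four (by omega)
  set E := UU 2 F ⊓ B.comap MulAut.conj with hE
  have ab : ∀ α ∈ B, ∀ β ∈ B, α * β * α⁻¹ = β := fun α ha β hb => by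
    rw [inv_eq_of_mul_eq_one_right (hB α ha), mul_assoc, ← inv_eq_of_mul_eq_one_right (hB β hb), eq_comm,
      inv_eq_iff_mul_eq_one, inv_eq_of_mul_eq_one_right (hB β hb), ← hB _ (mul_mem hb ha)]
    simp only [mul_assoc]
  have e1 : ∀ u ∈ E, u * u = 1 := fun u hu => eq_one_of_center (conj_eq_one.1 (by
    rw [map_mul]; exact hB _ hu.2)) (is2_of_UU (mul_mem hu.1 hu.1))
  have e2 : ∀ β ∈ B, E ≤ fx β := fun β hβ u hu => mem_fx.2 (conj_inj (is2_of_UU ((hS hβ u).1 hu.1))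
    (is2_of_UU hu.1) (by rw [← conj_map]; exact ab β hβ _ hu.2))
  have c1 : Nat.card B ≤ Nat.card E * Nat.card (B.map (out 2 F)) := by
    rw [card_split B]
    refine Nat.mul_le_mul_right _ ((card_le_of_le (K := cI E) fun β h => ?_).trans
      (Nat.le_of_dvd Nat.card_pos (card_map_dvd _ _)))
    obtain ⟨s, hs, rfl⟩ := inner_of_out le_rfl h.2 (H64.SG.is2_of_sq (hB β h.1))
    exact mem_map_of_mem _ ⟨(H64.SG.syl_iff.1 syl_UU).le_of_le_normalizer' hs.zpowers le_top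
      (zpowers_le.2 (conj_mem_St.1 (hS h.1))) (mem_zpowers s), h.1⟩
  have sq : ∀ a ∈ B.map (out 2 F), a.1 * a.1 = 1 := by
    rintro _ ⟨β, hβ, rfl⟩
    rw [← Prod.fst_mul, ← map_mul, hB β hβ, map_one, Prod.fst_one]
  have cZ := card_ZZ (n := 2) (F := F) (by omega)
  have nz := fun β (hβ : β ∈ B) => (hA.nz β (hA.nu β (hS hβ)).1).2
  suffices h : (∃ β ∈ B, out 2 F β ≠ 1) → Nat.card E * Nat.card (B.map (out 2 F)) ≤ Nat.card F * 2 by
    by_contra! hc'
    have := h hc'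
    nlinarith
  rintro ⟨β, hβ, h1⟩
  by_cases hg : ∃ γ ∈ B, (out 2 F γ).2 ≠ 1
  · obtain ⟨γ, hγ, hg⟩ := hg
    have sw := ((nz γ hγ).resolve_left fun h => hg h.1).2
    have le : E ≤ ZZ 2 F := fun u hu => by
      rw [← Er_inf_Ec]
      have e : γ u = u := e2 γ hγ hu
      rcases er_or_ec hu.1 (e1 u hu) with h | h
      · exact ⟨h, e ▸ (sw.1 u).1 h⟩
      · exact ⟨e ▸ (sw.2 u).1 h, h⟩
    by_cases hf : ∃ α ∈ B, (out 2 F α).1 ≠ 1
    · obtain ⟨α, hα, hf⟩ := hf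
      have c2 : Nat.card (B.map (out 2 F)) ≤ 2 * 2 := by
        refine (Nat.card_le_card_of_injective (fun a : B.map (out 2 F) =>
          ((⟨a.1.1, sq a a.2⟩, a.1.2) : {τ : RingAut F | τ * τ = 1} × Multiplicative (ZMod 2)))
          fun a b e => Subtype.ext (Prod.ext (congrArg (·.1.1) e) (congrArg (·.2) e))).trans ?_
        rw [Nat.card_prod, show Nat.card (Multiplicative (ZMod 2)) = 2 by simp]
        exact Nat.mul_le_mul_right _ (card_le_two 1 _ fun τ h =>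
          out_sq_eq_one hf (sq _ (mem_map_of_mem _ hα)) h)
      have c3 : Nat.card E * 2 ≤ Nat.card F := by
        obtain ⟨k, hk⟩ := card_dvd_of_le le
        have : k ≠ 1 := fun e => hf (hA.fz α fun z hz => e2 α hα
          ((eq_of_le_of_card_ge le (by rw [hk, e, mul_one])).ge hz))
        have : k ≠ 0 := fun e => by rw [e, mul_zero] at hk; exact Nat.card_pos.ne' hk
        rw [← cZ, hk]
        exact Nat.mul_le_mul_left _ (by omega)
      nlinarith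
    · refine Nat.mul_le_mul (cZ ▸ card_le_of_le le) (card_le_two (s := (B.map (out 2 F) : Set (RingAut F × Multiplicative (ZMod 2))))
        (1, 1) (1, Multiplicative.ofAdd 1) ?_)
      rintro _ ⟨α, hα, rfl⟩
      have : (out 2 F α).1 = 1 := by by_contra h; exact hf ⟨α, hα, h⟩
      exact (z2_cases (out 2 F α).2).imp (Prod.ext this) (Prod.ext this)
  · push Not at hg
    have hf : (out 2 F β).1 ≠ 1 := fun e => h1 (Prod.ext e (hg β hβ))
    have st := ((nz β hβ).resolve_right fun h => h.1 (hg β hβ)).2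
    refine Nat.mul_le_mul ?_ (card_le_two (s := (B.map (out 2 F) : Set (RingAut F × Multiplicative (ZMod 2))))
      (1, 1) ((out 2 F β).1, 1) ?_)
    · have k : ∀ N : Subgroup (SLn 2 F), E ≤ N → ZZ 2 F ≤ N → Nat.card N = Nat.card F ^ 2 →
          ((∀ u ∈ N, β u = u) ∨ Nat.card F ≤ (fx β).relIndex N) → Nat.card E ≤ Nat.card F :=
        fun N a b c d => by
          have d := d.resolve_left fun h => hf (hA.fz β fun z hz => h z (b hz))
          have f := card_mul_index ((fx β).subgroupOf N)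
          have g : Nat.card E ≤ Nat.card ((fx β).subgroupOf N) :=
            Nat.card_le_card_of_injective (fun u => ⟨⟨u.1, a u.2⟩, e2 β hβ u.2⟩)
              fun u v e => Subtype.ext (congrArg (·.1.1) e)
          refine Nat.le_of_mul_le_mul_right ?_ (Nat.card_pos (α := F))
          rw [← pow_two, ← c, ← f]
          exact Nat.mul_le_mul g d
      by_cases h2 : E ≤ Er 2 F
      · exact k _ h2 ZZ_le_Er card_Er (hA.slr β st.1)
      refine k _ (fun u hu => ?_) ZZ_le_Ec card_Ec (hA.slc β st.2)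
      obtain ⟨v, hv, h3⟩ := SetLike.not_le_iff_exists.1 h2
      have h5 := (er_or_ec hv.1 (e1 v hv)).resolve_left h3
      refine (er_or_ec hu.1 (e1 u hu)).elim (fun h6 => ?_) id
      rcases er_or_ec (mul_mem hu hv).1 (e1 _ (mul_mem hu hv)) with h7 | h7
      · exact absurd ((Subgroup.mul_mem_cancel_left _ h6).1 h7) h3
      · exact (Subgroup.mul_mem_cancel_right _ h5).1 h7
    · rintro _ ⟨α, hα, rfl⟩
      exact (out_sq_eq_one hf (sq _ (mem_map_of_mem _ hβ)) (sq _ (mem_map_of_mem _ hα))).imp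
        (fun e => Prod.ext e (hg α hα)) fun e => Prod.ext e (hg α hα)

theorem si (hp : Par 2 F) (B : Subgroup (Au 2 F)) (hB : ∀ β ∈ B, β * β = 1)
    (hc : Nat.card F ^ 2 ≤ Nat.card B) : ∀ β ∈ B, out 2 F β = 1 := by
  have hN : ∀ α : Au 2 F, α ∈ Ns (cI (⊤ : Subgroup (SLn 2 F))) := fun α =>
    conj_mem_St.1 (mem_St_of_finite (by
      rintro _ ⟨s, -, rfl⟩
      exact ⟨α s, trivial, (conj_map α s).symm⟩))
  obtain ⟨T, hT, h1⟩ := H98.exists_isSyl_le (H := ⊤)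
    (H64.SG.isPGroup_iff_is2.2 fun β h => H64.SG.is2_of_sq (hB β h)) le_top
  obtain ⟨g, -, hg⟩ := (hT.inf_of_le_normalizer le_top fun α _ => hN α).exists_cj_eq syl_cU
  have := si0 hp (H98.cj g B) (by
      rintro _ ⟨β, hβ, rfl⟩
      rw [← map_mul, hB β hβ, map_one]) (fun β hβ => mem_St_of_finite fun u hu => by
      refine mem_of_conj le_rfl ((is2_of_UU hu).map β.toMonoidHom) ?_
      change MulAut.conj (β u) ∈ _
      rw [← conj_map]
      refine H98.conj_mem_of_mem_normalizer ?_ (mem_map_of_mem _ hu)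
      rw [← hg, ← H98.cj_normalizer]
      exact H98.cj_mono g (fun α hα => inf_normalizer_le_normalizer_inf ⟨le_normalizer (h1 hα), hN α⟩) hβ)
    (by rwa [H98.card_cj])
  exact fun β hβ => out_conj_eq g β ▸ this _ (H98.conj_mem_cj hβ)

theorem jobFD (hC : JobFC) : JobFD := fun n F _ _ _ hp =>
  ⟨th hp (hC n F hp), fun h => by subst h; exact si hp, sb hp.two_le⟩

end H76.SAFD
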