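/- S3275, chapter alpha, job PK3: derived groups of the 3-subgroups of `C(y)` over `P`. -/
import Cfsg.Agent.H48.DNASpec
import Cfsg.Agent.H48.Meta
import Cfsg.Agent.H98.JoinSylow
import Cfsg.Agent.H2.PrimeCore

set_option autoImplicit false

namespace H76.NAPK3

open Subgroup Cfsg H98 H48.DP H57.DPC H48.DP2 H26.DA
open scoped commutatorElement

universe u

theorem quo {X : Type*} [Group X] [Finite X] {K P R : Subgroup X} (sup : K ⊔ Ce K = ⊤)
    (rk : PRankLE 3 1 (Ce K)) (hP : IsSyl 3 P K) (hR : IsPGroup 3 R) (PR : P ≤ R) :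
    ⁅R, R⁆ ≤ ⁅P, P⁆ := by
  have : Fact (Nat.Prime 3) := ⟨Nat.prime_three⟩
  obtain ⟨S, hS, RS⟩ := exists_isSyl_le hR le_top
  have nK : ⊤ ≤ No K := sup.ge.trans (sup_le le_normalizer (centralizer_le_normalizer _))
  have nC : ⊤ ≤ No (Ce K) := sup.ge.trans (sup_le
    ((le_centralizer_iff.1 le_rfl).trans (centralizer_le_normalizer _)) le_normalizer)
  have e := hS.sup_inf_eq (SubN.of_normal le_top nK) (SubN.of_normal le_top nC)
  rw [sup, top_inf_eq, hP.eq_of_le (hS.isPGroup.to_le inf_le_right) (le_inf hP.le (PR.trans RS))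
    inf_le_left] at e
  have cy : IsCyclic ↥(Ce K ⊓ S) := (H48.isCyclic_iff_pRankLE_one (by decide)
    (hS.isPGroup.to_le inf_le_right)).2 (H48.pRankLE_of_le rk inf_le_left)
  have n : Ce K ⊓ S ≤ No P :=
    inf_le_left.trans ((centralizer_le hP.le).trans (centralizer_le_normalizer _))
  refine (commutator_mono RS RS).trans (commutator_le.2 fun a ha b hb => ?_)
  obtain ⟨p, hp, c, hc, rfl⟩ := (mem_sup_right_norm n).1 (e.le ha)
  obtain ⟨q, hq, d, hd, rfl⟩ := (mem_sup_right_norm n).1 (e.le hb)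
  have c1 : Commute q c := hc.1 q (hP.le hq)
  have c2 : Commute p d := hd.1 p (hP.le hp)
  have c3 : Commute d c :=
    congrArg Subtype.val (cy.isMulCommutative.is_comm.comm (⟨d, hd⟩ : ↥(Ce K ⊓ S)) ⟨c, hc⟩)
  have e2 : ⁅p * c, q * d⁆ = ⁅p, q⁆ := by
    calc ⁅p * c, q * d⁆ = p * (c * (q * d) * c⁻¹) * (p⁻¹ * d⁻¹) * q⁻¹ := by
          rw [commutatorElement_def]; group
      _ = _ := by
          rw [← (c1.mul_left c3).eq, mul_inv_cancel_right, c2.inv_inv.eq, commutatorElement_def]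
          group
  exact e2 ▸ commutator_mem_commutator hp hq

theorem job : JPK3.{u} := by
  intro G _ _ M Q P y z r K S h R hR RC PR
  have h3 := isPGroup_subgroupOf hR (C1 y)
  have key := quo h.sup h.rk h.fu.syl (h3.map (pm (C1 y))) (map_mono (subgroupOf_mono _ PR))
  rw [h.fu.der] at key
  have zR : (z : G) ∈ R :=
    PR (commutator_le_of_le le_rfl le_rfl (h.lt.der.ge (mem_zpowers _)))
  refine commutator_le.2 fun a ha b hb => ?_
  obtain ⟨k, hk⟩ := key (commutator_mem_commutator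
    (mem_map_of_mem _ (show (⟨a, RC ha⟩ : C1 y) ∈ R.subgroupOf _ from ha))
    (mem_map_of_mem _ (show (⟨b, RC hb⟩ : C1 y) ∈ R.subgroupOf _ from hb)))
  obtain ⟨n, hn⟩ := h3.exists_card_eq
  have bot : R.subgroupOf (C1 y) ⊓ pPrimeCore 3 (C1 y) = ⊥ :=
    (disjoint_of_coprime_natCard (hn ▸ (H2.coprime_card_pPrimeCore 3 _).symm.pow_left n)).eq_bot
  simp only [← map_zpow, ← map_commutatorElement] at hk
  have h1 := bot.le (mem_inf.2 ⟨mul_mem (inv_mem (zpow_mem (show z ∈ R.subgroupOf _ from zR) k))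
    (commutator_le_of_le le_rfl le_rfl (commutator_mem_commutator
      (show (⟨a, RC ha⟩ : C1 y) ∈ R.subgroupOf _ from ha)
      (show (⟨b, RC hb⟩ : C1 y) ∈ R.subgroupOf _ from hb))), QuotientGroup.eq.1 hk⟩)
  exact ⟨k, congrArg Subtype.val (inv_mul_eq_one.1 (mem_bot.1 h1))⟩

end H76.NAPK3
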