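import Cfsg.Agent.H76.O8A2a

/-! `JobA2` of `H47.O8Sp` (blueprint `LOCAL3C.md`, §5.3). -/

set_option autoImplicit false
set_option maxRecDepth 100000
set_option synthInstance.maxSize 1024
open Cfsg Subgroup H14 H98 H56.L3 H42.L3 H42.MC H26.MC H47.O8
open H47.MC (V Mat Nr Acts WC Coord)
open scoped Matrix

namespace H76.O8

universe u

variable {G : Type*} [Group G]

section S

variable [Finite G] {v : V → G} {J S B : Subgroup G} {q₁ q₂ g : G} (co : Coord v J)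
  (a1 : Acts v q₁ mQ1) (a2 : Acts v q₂ mQ2)
  (hS : ∀ g, g ∈ S ↔ ∃ (α β : Fin 3) (x : V), g = q₁ ^ α.val * q₂ ^ β.val * v x)
include co

omit [Finite G] in
theorem card_le_of {X : Subgroup G} (hX : X ≤ J) (p : V → Prop) [DecidablePred p]
    (h : ∀ x, v x ∈ X → p x) : Nat.card X ≤ Fintype.card {x // p x} := by
  choose f hf using fun a : X => (co.mem a).1 (hX a.2)
  rw [← Nat.card_eq_fintype_card]
  exact Nat.card_le_card_of_injective (fun a => ⟨f a, h _ (hf a ▸ a.2)⟩) fun a b e =>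
    Subtype.ext (by rw [← hf, ← hf, show f a = f b from congrArg Subtype.val e])

include a1 a2 hS

omit [Finite G] in
theorem acts_S (hg : g ∈ S) : ∃ α β : Fin 3, Acts v g (mQ1 ^ α.val * mQ2 ^ β.val) ∧
    (α = 0 ∧ β = 0 → g ∈ J) := by
  obtain ⟨α, β, x, rfl⟩ := (hS g).1 hg
  exact ⟨α, β, by simpa using (acts_mul (acts_mul (acts_pow a1 α.val) (acts_pow a2 β.val))
    (acts_J co (v_mem co x))), by rintro ⟨rfl, rfl⟩; simpa using v_mem co x⟩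

theorem S_nrJ : S ≤ Nr J := fun _ hg =>
  let ⟨_, _, h, _⟩ := acts_S co a1 a2 hS hg
  acts_nr co h

omit [Finite G] in
theorem S_cn : S ⊓ cn J ≤ J := fun g hg => by
  obtain ⟨α, β, h1, h2⟩ := acts_S co a1 a2 hS hg.1
  exact h2 ((by
    simp only [pow_Q1, pow_Q2, mul_eq]
    decide +kernel : ∀ α β : Fin 3, mQ1 ^ α.val * mQ2 ^ β.val = 1 → α = 0 ∧ β = 0) α β
    (acts_unique co h1 fun x => by
      rw [Matrix.one_mulVec, ← hg.2 _ (v_mem co x), mul_inv_cancel_right]))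

/-- `J` is the only abelian subgroup of order `81` of `S` -/
theorem ab81 (hB : B ≤ S) (hc : B ≤ cn B) (h81 : Nat.card B = 81) : B = J := by
  have hJ : J ≤ S := fun a ha => by
    obtain ⟨x, rfl⟩ := (co.mem a).1 ha
    exact (hS _).2 ⟨0, 0, x, by simp⟩
  by_cases h0 : B ≤ J
  · exact eq_of_le_of_card_ge h0 (by rw [h81, card_J co])
  exfalso
  obtain ⟨g, hg, h1⟩ := SetLike.not_le_iff_exists.1 h0
  obtain ⟨α, β, h2, h3⟩ := acts_S co a1 a2 hS (hB hg)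
  have c : ∀ x, v x ∈ B ⊓ J → B ⊔ J ≤ Ce (v x) := fun x hx =>
    sup_le (fun a ha => mem_Ce.2 (hc hx.1 a ha)) (J_le_Ce co x)
  have h4 := (card_le_of co (inf_le_right (a := B)) (fun x => (mQ1 ^ α.val * mQ2 ^ β.val) *ᵥ x = x)
    fun x hx => (acts_mem_Ce co h2).1 (c x hx (mem_sup_left hg))).trans ((by
      simp only [pow_Q1, pow_Q2, mul_eq, mulVec_eq]
      decide +kernel : ∀ α β : Fin 3, ¬ (α = 0 ∧ β = 0) →
        Fintype.card {x // (mQ1 ^ α.val * mQ2 ^ β.val) *ᵥ x = x} ≤ 9) α β (mt h3 h1))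
  have h5 := card_sup_inf (hB.trans (S_nrJ co a1 a2 hS))
  rw [h81, card_J co] at h5
  have h6 : Nat.card S ≤ 729 := (Nat.card_le_card_of_surjective
    (fun p : Fin 3 × Fin 3 × V => (⟨_, (hS _).2 ⟨p.1, p.2.1, p.2.2, rfl⟩⟩ : S)) fun a =>
      let ⟨α, β, x, e⟩ := (hS _).1 a.2
      ⟨(α, β, x), Subtype.ext e.symm⟩).trans (by simp)
  have h7 : B ⊔ J = S := eq_of_le_of_card_ge (sup_le hB hJ) (by nlinarith)
  have h8 := (card_le_of co (inf_le_right (a := B)) (fun x => mQ1 *ᵥ x = x ∧ mQ2 *ᵥ x = x)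
    fun x hx => ⟨(acts_mem_Ce co a1).1 (c x hx (h7.ge ((hS _).2 ⟨1, 0, 0, by simp [v_zero co]⟩))),
      (acts_mem_Ce co a2).1 (c x hx (h7.ge ((hS _).2 ⟨0, 1, 0, by simp [v_zero co]⟩)))⟩).trans
    (by decide +kernel : _ ≤ 3)
  rw [h7] at h5
  nlinarith

theorem cj_J (hg : cj g J ≤ S) : cj g J = J := ab81 co a1 a2 hS hg
  ((cj_mono g (J_le_cn co)).trans (cj_centralizer g _).le) (by rw [card_cj, card_J co])

theorem wc_of (syl : IsSyl 3 S ⊤) : WC J := fun P A hP h1 h2 h3 h4 => by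
  obtain ⟨k, -, hk⟩ := syl.exists_cj_le hP le_top
  rw [← cj_inj (g := k), cj_J co a1 a2 hS ((cj_mono k h1).trans hk)]
  exact ab81 co a1 a2 hS ((cj_mono k h2).trans hk)
    ((cj_mono k (show A ≤ cn A from fun a ha b hb => h3 b hb a ha)).trans (cj_centralizer k _).le)
    (by rw [card_cj, h4])

theorem cn_J (syl : IsSyl 3 S ⊤) (h3 : IsPGroup 3 (cn J)) : cn J ≤ J := by
  obtain ⟨k, -, hk⟩ := syl.exists_cj_le h3 le_top
  have e := cj_J co a1 a2 hS ((cj_mono k (J_le_cn co)).trans hk)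
  rw [cn, cj_centralizer, e] at hk
  exact (le_inf hk le_rfl).trans (S_cn co a1 a2 hS)

end S

namespace Pr

variable {Q : Subgroup G} {z t c₁ q₁ c₂ q₂ b i j g : G} {α β γ δ ε m : ZMod 3}
  (h : Pre Q z t c₁ q₁ c₂ q₂ b i j)

local notation "w" => ww z c₁ q₁ c₂ q₂

/-- the coordinates on `J` -/
def vv (z c₁ q₁ c₂ q₂ b : G) (m : ZMod 3) (x : V) : G :=
  ww z c₁ q₁ c₂ q₂ 0 0 (x 3) (-dot x vu) (dot x vb + (1 - m) * x 3) * pw b (dot x vz)

local notation "v" => vv z c₁ q₁ c₂ q₂ b m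

include h

theorem pw_w0 (k : ZMod 3) : pw b k * w 0 0 γ δ ε = w 0 0 γ δ ε * pw b k :=
  (Commute.pow_left (b_w0 h) _).eq

theorem v_add (hb : b ^ 3 = 1) (x y : V) : v (x + y) = v x * v y := by
  rw [vv, vv, vv, mul_assoc, ← mul_assoc (pw b _), pw_w0 h, mul_assoc, pw_add hb, ← mul_assoc,
    w_mul h]
  simp only [dot, Pi.add_apply]
  congr 2 <;> ring1

theorem v_conj {γ₀ δ₀ ε₀ : ZMod 3} (e : g * b * g⁻¹ = w 0 0 γ₀ δ₀ ε₀ * b) (x : V) :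
    g * v x * g⁻¹ = g * w 0 0 (x 3) (-dot x vu) (dot x vb + (1 - m) * x 3) * g⁻¹ *
      w 0 0 (dot x vz * γ₀) (dot x vz * δ₀) (dot x vz * ε₀) * pw b (dot x vz) := by
  have := w_pw h (α := 0) (β := 0) (γ := γ₀) (δ := δ₀) (ε := ε₀) (dot x vz)
  simp only [mul_zero, sub_zero, add_zero] at this
  rw [← this, mul_assoc _ (pw _ _), pw, pw, ← (show Commute _ b from (b_w0 h).symm).mul_pow, ← e,
    conj_pow, vv, pw]
  group

theorem q_w : q₁ * w α β γ δ ε * q₁⁻¹ = w α β γ δ (ε + γ) ∧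
    q₂ * w α β γ δ ε * q₂⁻¹ = w α β γ δ (ε - δ) := by
  have k : ∀ α' β', w α' β' 0 0 0 * w α β γ δ ε * (w α' β' 0 0 0)⁻¹ =
      w α β γ δ (ε + γ * α' - δ * β') := fun α' β' => by
    rw [w_inv h, w_mul h, w_mul h]
    congr 1 <;> ring1
  obtain ⟨e1, e2, -⟩ :=
    w_gen (z := z) (c₁ := c₁) (q₁ := q₁) (c₂ := c₂) (q₂ := q₂) (γ := 0) (δ := 0) (ε := 1)
  have k1 := k 1 0
  have k2 := k 0 1
  rw [e1] at k1
  rw [e2] at k2
  exact ⟨by simpa using k1, by simpa using k2⟩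

theorem v_T : Acts v t mT := fun x => by
  rw [v_conj h (γ₀ := 0) (δ₀ := 0) (ε₀ := 0) (by simp [h.tb, ww, pw_zero]), t_w h, w_mul h, vv]
  congr 2 <;> revert x m <;> decide +kernel

theorem v_1 (hl : q₁ * b * q₁⁻¹ = b * pw c₁ (-1) * pw z m) : Acts v q₁ mQ1 := fun x => by
  rw [v_conj h (γ₀ := -1) (δ₀ := 0) (ε₀ := m) (by
    rw [hl, ← b_w0 h]; simp [ww, pw_zero, mul_assoc]), (q_w h).1, w_mul h, vv]
  clear hl
  congr 2 <;> revert x m <;> decide +kernel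

theorem v_2 : Acts v q₂ mQ2 := fun x => by
  rw [v_conj h (γ₀ := 0) (δ₀ := -1) (ε₀ := -1) (by
    rw [h.qb2, ← b_w0 h]
    simp [ww, pw_zero, mul_assoc, pw_neg (z3 h), pw_neg (h.exp _ (gen_mem h).2.2.2.1), pw_one]),
    (q_w h).2, w_mul h, vv]
  congr 2 <;> revert x m <;> decide +kernel

omit h in
theorem v_zb : v vz = z ∧ v vb = b := by
  simp [vv, ww, pw_zero, pw_one, show dot vz vz = 0 by decide, show vz 3 = 0 from rfl,
    show dot vz vu = 0 by decide, show dot vz vb = 1 by decide, show dot vb vz = 1 by decide,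
    show vb 3 = 0 from rfl, show dot vb vu = 0 by decide, show dot vb vb = 0 by decide]

variable [Finite G]

theorem b_not : b ∉ Q := fun e => by
  obtain ⟨l, m, hl⟩ := h.qb1
  have := h.comm b e _ (w_mem h (α := 0) (β := 1) (γ := 0) (δ := 0) (ε := 0))
  rw [b_w h (l := l) (m := m) hl, w_inv h, w_mul h, w_Z h] at this
  simpa using this.2.2.2

theorem v_inj (hb : b ^ 3 = 1) {x : V} (e : v x = 1) : x = 0 := by
  have h1 : pw b (dot x vz) ∈ Q := by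
    rw [eq_inv_of_mul_eq_one_right e]
    exact inv_mem (w_mem h)
  have h2 : dot x vz = 0 := by
    by_contra e'
    refine b_not h ?_
    rw [← pw_one b, ← (by decide : ∀ k : ZMod 3, k ≠ 0 → k * k = 1) _ e', ← pw_mul hb]
    exact pow_mem h1 _
  rw [vv, h2, pw_zero, mul_one, ← (w_gen (γ := 0) (δ := 0) (ε := 0)).2.2.2.2.2, w_inj h] at e
  exact (by decide +kernel : ∀ (m : ZMod 3) (x : V), dot x vz = 0 → x 3 = 0 → -dot x vu = 0 →
    dot x vb + (1 - m) * x 3 = 0 → x = 0) m x h2 e.2.2.1 e.2.2.2.1 e.2.2.2.2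

omit h [Finite G] in
theorem v_w (γ δ ε : ZMod 3) : ∃ x, dot x vz = 0 ∧ x 3 = γ ∧ v x = w 0 0 γ δ ε := by
  obtain ⟨x, e1, e2, e3, e4⟩ := (by decide +kernel : ∀ m γ δ ε : ZMod 3, ∃ x : V, dot x vz = 0 ∧
    x 3 = γ ∧ -dot x vu = δ ∧ dot x vb + (1 - m) * x 3 = ε) m γ δ ε
  exact ⟨x, e1, e2, by rw [vv, e4, e1, e2, e3, pw_zero, mul_one]⟩

theorem nz (hy : g * z * g⁻¹ ∈ Q) (hz : g * z * g⁻¹ ∉ zpowers z) : ∃ d : Dat0 G, NZ d ∧ d.z = z ∧
    d.t = t ∧ d.Q = Q ∧ d.q1 = q₁ ∧ d.q2 = q₂ ∧ d.i = i ∧ d.j = j ∧ d.v vb = b := by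
  obtain ⟨l, m, hl⟩ : ∃ l m, q₁ * b * q₁⁻¹ = b * pw c₁ l * pw z m := h.qb1
  obtain ⟨rfl, hb, -, -, γ, δ, ε, h1, h2⟩ := ab h hl hy hz
  let f : Multiplicative V →* G := MonoidHom.mk' (fun x => vv z c₁ q₁ c₂ q₂ b m x.toAdd)
    fun x y => v_add h hb _ _
  have co : Coord (vv z c₁ q₁ c₂ q₂ b m) f.range := ⟨v_add h hb,
    show Function.Injective f from (injective_iff_map_eq_one f).2 fun _ e => v_inj h hb e,
    fun _ => Iff.rfl⟩
  obtain ⟨ez, eb⟩ := v_zb (z := z) (c₁ := c₁) (q₁ := q₁) (c₂ := c₂) (q₂ := q₂) (b := b) (m := m)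
  have a1 := v_1 h hl
  have a2 := v_2 h (m := m)
  have aT := v_T h (m := m)
  have mQ : ∀ g, g ∈ Q ↔ ∃ (α β : Fin 3) (x : V), dot x vz = 0 ∧
      g = q₁ ^ α.val * q₂ ^ β.val * vv z c₁ q₁ c₂ q₂ b m x := fun g => by
    have e : ∀ α β γ δ ε, w α β γ δ ε = pw q₁ α * pw q₂ β * w 0 0 γ δ ε := fun α β γ δ ε => by
      simp only [ww, pw_zero, one_mul, mul_assoc]
    refine (memQ h).trans ⟨fun ⟨α, β, γ, δ, ε, e'⟩ => ?_, fun ⟨α, β, x, h1, e'⟩ => ?_⟩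
    · obtain ⟨x, h1, -, h2⟩ := v_w (z := z) (c₁ := c₁) (q₁ := q₁) (c₂ := c₂) (q₂ := q₂) (b := b)
        (m := m) γ δ ε
      exact ⟨α, β, x, h1, by rw [e', e, h2]; rfl⟩
    · rw [vv, h1, pw_zero, mul_one] at e'
      exact ⟨α, β, _, _, _, e'.trans (e α β _ _ _).symm⟩
  have vQ : ∀ x, dot x vz = 0 → vv z c₁ q₁ c₂ q₂ b m x ∈ Q := fun x hx =>
    (mQ _).2 ⟨0, 0, x, hx, by simp⟩
  have eS : f.range ⊔ Q = Q ⊔ zpowers b := le_antisymm (sup_le (by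
    rintro _ ⟨x, rfl⟩
    exact mul_mem (mem_sup_left (w_mem h)) (mem_sup_right (pow_mem (mem_zpowers b) _)))
    le_sup_left) (sup_le le_sup_right (zpowers_le.2 (mem_sup_left (eb ▸ v_mem co vb))))
  have nJ : Q ≤ Nr f.range := fun g hg => by
    obtain ⟨α, β, x, -, rfl⟩ := (mQ g).1 hg
    exact mul_mem (mul_mem (pow_mem (acts_nr co a1) _) (pow_mem (acts_nr co a2) _))
      (le_normalizer (v_mem co x))
  have hS : ∀ g, g ∈ Q ⊔ zpowers b ↔ ∃ (α β : Fin 3) (x : V),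
      g = q₁ ^ α.val * q₂ ^ β.val * vv z c₁ q₁ c₂ q₂ b m x := fun g => by
    rw [← eS, sup_comm, mem_sup_left_norm nJ]
    constructor
    · rintro ⟨a, ha, j, hj, rfl⟩
      obtain ⟨α, β, x, -, rfl⟩ := (mQ a).1 ha
      obtain ⟨y, rfl⟩ := (co.mem j).1 hj
      exact ⟨α, β, x + y, by rw [co.add, mul_assoc]⟩
    · rintro ⟨α, β, x, rfl⟩
      exact ⟨_, mul_mem (pow_mem (gen_mem h).1 _) (pow_mem (gen_mem h).2.1 _), _, v_mem co x, rfl⟩
  have cJ : cn f.range ≤ f.range := cn_J co a1 a2 hS h.syl (isPGroup_iff_forall.2 fun k hk => by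
    have kz : k ∈ Nr Q := h.nQ (Ce_le_nr (mem_Ce.2 (hk z (ez ▸ v_mem co vz)).symm))
    have k3 : k ^ 3 ∈ zpowers z := h.cen fun q hq => by
      have h3 : k * q * k⁻¹ * q⁻¹ ∈ Q := mul_mem (conj_mem_of_mem_normalizer kz hq) (inv_mem hq)
      have h4 : k * q * k⁻¹ * q⁻¹ ∈ f.range := S_cn co a1 a2 hS ⟨mem_sup_left h3, by
        simpa [mul_assoc] using mul_mem hk (conj_mem_of_mem_normalizer
          (normalizer_le_normalizer_centralizer _ (nJ hq)) (inv_mem hk))⟩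
      have := H21.MC.pow_conj (inv_mul_cancel_right _ q).symm (hk _ h4).symm 3
      rw [h.exp _ h3, one_mul, mul_inv_eq_iff_eq_mul] at this
      exact this.symm
    exact ⟨2, by rw [sq, pow_mul, h.exp _ (zpowers_le.2 (gen_mem h).2.2.2.2 k3)]⟩)
  let d : Dat0 G := ⟨vv z c₁ q₁ c₂ q₂ b m, f.range, Q, t, q₁, q₂, i, j⟩
  have dz : d.z = z := ez
  refine ⟨d,
    { toCoord := co
      toQuat := (show d.v vb = b from eb).symm ▸ h.toQuat
      aT := aT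
      a1 := a1
      a2 := a2
      memQ := mQ
      expQ := h.exp
      nQ := dz.symm ▸ h.nQ
      cR := h.cR
      frat := fun g hg => ?_
      nR := dz.symm ▸ h.nR
      cJ := cJ
      wc := wc_of co a1 a2 hS h.syl
      syl := eS.symm ▸ h.syl
      nQ1 := dz.symm ▸ h.nQ1
      zq := fun x hx e => ?_
      ex := ?_
      real := dz.symm ▸ real h hy hz }, ez, rfl, rfl, rfl, rfl, rfl, rfl, eb⟩
  · obtain ⟨r, hr, h3⟩ := h.frat g (dz ▸ hg)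
    exact ⟨r, hr, cj_eq_self_iff.1 (cj_J co a1 a2 hS (cj_le_of_le (le_sup_left.trans eS.le) h3))⟩
  · obtain ⟨k, e⟩ := isConj_iff.1 e
    rw [dz] at e
    by_cases h3 : k * z * k⁻¹ ∈ zpowers z
    · rw [e, ← dz] at h3
      obtain ⟨a, h3⟩ := (mem_zp_v co).1 h3
      rw [← co.inj h3]
      clear h3
      revert a
      decide
    · obtain ⟨-, -, h4, h5, -⟩ := ab h hl (e ▸ vQ x hx) h3
      rw [e] at h4 h5
      exact (by decide +kernel : ∀ x : V, dot x vz = 0 → mQ1 *ᵥ x ≠ x → mT *ᵥ x ≠ x → nrm x = 0)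
        x hx (mt (acts_mem_Ce co a1).2 h4) (mt (acts_mem_Ce co aT).2 h5)
  · obtain ⟨x, h3, h4, h5⟩ := v_w (z := z) (c₁ := c₁) (q₁ := q₁) (c₂ := c₂) (q₂ := q₂) (b := b)
      (m := m) γ δ ε
    refine ⟨x, h3, ?_, ?_, dz.symm ▸ (show d.v x = _ from h5).symm ▸ h2⟩ <;> rintro rfl <;>
      exact h1 h4.symm

end Pr

/-- the strong form of `JobA2` -/
theorem jobA2' [Finite G] {Q : Subgroup G} {z t c₁ q₁ c₂ q₂ b i j x : G}
    (h : Pre Q z t c₁ q₁ c₂ q₂ b i j) (h1 : x * z * x⁻¹ ∈ Q) (h2 : x * z * x⁻¹ ∉ zpowers z) :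
    ∃ d : Dat0 G, NZ d ∧ d.z = z ∧ d.t = t ∧ d.Q = Q ∧ d.q1 = q₁ ∧ d.q2 = q₂ ∧ d.i = i ∧ d.j = j ∧
      d.v vb = b := Pr.nz h h1 h2

theorem jobA2 : JobA2.{u} := fun _ _ _ _ _ _ _ _ _ _ _ _ _ _ h h1 h2 =>
  (jobA2' h h1 h2).imp fun _ h => h.1

/-- the strong form of `JobA3` -/
theorem jobA3' [Finite G] {d : Dat0 G} (h : NZ d) : ∃ d' : Dat0 G, NZ2 d' ∧ d'.z = d.z ∧
    d'.t = d.t ∧ d'.Q = d.Q ∧ d'.J = d.J ∧ d'.q1 = d.q1 ∧ d'.q2 = d.q2 ∧ d'.i = d.i ∧ d'.j = d.j := by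
  obtain ⟨k, hk⟩ := sing_tw h
  have ez : (twD d k).z = d.z := congrArg d.v (tw_perp (by decide))
  have hs : ∀ x, IsConj (twD d k).z ((twD d k).v x) ↔ x ≠ 0 ∧ nrm x = 0 := ez ▸ hk
  exact ⟨twD d k, ⟨base_tw h.toBase k, hs, fun g hg =>
    act_iso (base_tw h.toBase k) (ez ▸ h.nQ1) hs hg⟩, ez, rfl, rfl, rfl, rfl, rfl, rfl, rfl⟩

end H76.O8
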