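import Cfsg.Agent.H71.Glue
set_option maxRecDepth 1000000
set_option Elab.async false
namespace H76.TcA1
open H71
noncomputable def nx_0 : ℕ := 0x1
noncomputable def nx_1 : ℕ := 0x10
noncomputable def nx_2 : ℕ := 0x11
noncomputable def nx_3 : ℕ := 0x12
noncomputable def nx_4 : ℕ := 0x5
noncomputable def nx : Net := .cons 4 nx_0 <| .cons 2 nx_1 <| .cons 1 nx_2 <| .cons 2 nx_3 <| .cons 4 nx_4 <| .nil
theorem vnx : Net.valid 7 nx = true := by decide +kernel
noncomputable def np_0 : ℕ := 0x2
noncomputable def np_1 : ℕ := 0x14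
noncomputable def np_2 : ℕ := 0x3
noncomputable def np_3 : ℕ := 0x1
noncomputable def np : Net := .cons 4 np_0 <| .cons 1 np_1 <| .cons 2 np_2 <| .cons 4 np_3 <| .nil
theorem vnp : Net.valid 7 np = true := by decide +kernel
noncomputable def nz : Net := .nil
theorem vnz : Net.valid 7 nz = true := by decide +kernel
noncomputable def na : Net := .nil
theorem vna : Net.valid 7 na = true := by decide +kernel
noncomputable def nb : Net := .nil
theorem vnb : Net.valid 7 nb = true := by decide +kernel
noncomputable def nc_0 : ℕ := 0x2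
noncomputable def nc_1 : ℕ := 0x12
noncomputable def nc_2 : ℕ := 0x2
noncomputable def nc : Net := .cons 4 nc_0 <| .cons 2 nc_1 <| .cons 4 nc_2 <| .nil
theorem vnc : Net.valid 7 nc = true := by decide +kernel
noncomputable def nd_0 : ℕ := 0x6
noncomputable def nd_1 : ℕ := 0x10
noncomputable def nd_2 : ℕ := 0x10
noncomputable def nd_3 : ℕ := 0x12
noncomputable def nd_4 : ℕ := 0x6
noncomputable def nd : Net := .cons 4 nd_0 <| .cons 2 nd_1 <| .cons 1 nd_2 <| .cons 2 nd_3 <| .cons 4 nd_4 <| .nil
theorem vnd : Net.valid 7 nd = true := by decide +kernel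
noncomputable def ns_0 : ℕ := 0x1
noncomputable def ns_1 : ℕ := 0x12
noncomputable def ns_2 : ℕ := 0x11
noncomputable def ns_3 : ℕ := 0x12
noncomputable def ns_4 : ℕ := 0x1
noncomputable def ns : Net := .cons 4 ns_0 <| .cons 2 ns_1 <| .cons 1 ns_2 <| .cons 2 ns_3 <| .cons 4 ns_4 <| .nil
theorem vns : Net.valid 7 ns = true := by decide +kernel
noncomputable def gensN : List Net := [nx, np, Net.nil, Net.nil]
noncomputable def invsN : List Net := [nz, na, nb, nc, nd, ns]
noncomputable def A : ℕ → ℕ → ℕ := mkA gensN invsN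
noncomputable def π : ℕ → Equiv.Perm ℕ := mkPi gensN invsN
theorem vG : ∀ r ∈ ([nx, np, Net.nil, Net.nil] : List Net), Net.valid 7 r = true := by
  intro r hr
  simp only [List.mem_cons, List.not_mem_nil, or_false] at hr
  rcases hr with rfl | rfl | rfl | rfl
  · exact vnx
  · exact vnp
  · rfl
  · rfl
theorem vI : ∀ r ∈ ([nz, na, nb, nc, nd, ns] : List Net), Net.valid 7 r = true := by
  intro r hr
  simp only [List.mem_cons, List.not_mem_nil, or_false] at hr
  rcases hr with rfl | rfl | rfl | rfl | rfl | rfl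
  · exact vnz
  · exact vna
  · exact vnb
  · exact vnc
  · exact vnd
  · exact vns
theorem env : Env 7 π A := env_mk vG vI
theorem hN : 7 ≤ 2 ^ 3 := by norm_num
theorem pinv : ∀ l, π (linv 8 l) = (π l)⁻¹ := mkPi_inv' hN rfl vI (by decide +kernel)
def R : List (List ℕ) := [[0,0,0],
  [8,9,8,9],
  [8,10,8,10],
  [8,11,8,11],
  [8,12,8,12],
  [8,1,8,0],
  [8,13,8,13],
  [9,10,9,10],
  [11,12,11,12],
  [9,11,9,11],
  [10,12,10,12],
  [9,12,9,12,8],
  [10,11,10,11,8],
  [0,9,1,10],
  [0,10,1,9,10],
  [0,11,1,12],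
  [0,12,1,11,12],
  [13,0,13,0],
  [13,9,13,9],
  [13,11,13,11],
  [2,2,2],
  [2,8,3,9],
  [2,9,3,9,8],
  [2,11,3,13],
  [2,13,3,11,13],
  [3,10,2,10],
  [12,2,12,2],
  [2,0,2,0,2,0,2,0]]
def RH : List (List ℕ) := []
def HL : List ℕ := [0,1,8,9,10,11,12,13]
def S : List ℕ := [0,1,2,3,8,9,10,11,12,13]
theorem relP : ∀ r ∈ R, evw π r = 1 := env.eq_one_of_allId hN (by decide +kernel)
def seeds : List (List ℕ) := [[3,1,2,0,2]]
noncomputable def pc0 : ℕ := 0x8800044200008800088e0000b800038e0000d800058e0000b00006800000f80005c10000d800054000011000050100011000054b0001100005cd0001100004420000f800050d0000f800068b0000f80004430000d800050c0000d800054d0000d80006830000d80003820000d00003830000b800058c0000b80005830000b80002c20000b00002c30000a80002820000a00002830000880002cb00008800038d0000880001c000007000028c00007000028b0000700001c10000580002cc00005800028100005800014000005000014100003800014c0000380001cd00003800000200002800014b00002800000300000000000d00000000000c00000000000b00000000000100000000000e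
noncomputable def pT : Tr := (.leaf pc0)
noncomputable def pJ0_0 : List ℕ := [0x2,1,1,1,1,0,0x2c0000800002800c006,0,0x3c0000400003800c00a,0x3c0000600002800c00e,0,0,0x17000050008012,0x5c0000c00005800c016,0,0x740001300005000c01a,0x1d00004c0000c00005001001e,0,0x8c0001000007000c022,0x2300004c00016000068010026,0,0,0,0,0x2f0000b000802a,0xbc0001a0000b000c00e,0,0,0x370000d000802a,0xdc0001f0000a800c00a,0xdc000210000a000c00e,0,0xfc000250000d000c006,0x3f0000940001f0000a001002e,0,0x114000270000b800c00a,0x45000094000360000ec010032,0x1140002300003c00002000028000140000a001c036,0xf40004a00012400c03a,0x10c0004a00011c00c03e,0xc80004e00010400c03a,0x390001400002d0000640002a00013000039000140020042,0xc4000520000dc00c046,0x940005400011800c04a,0x57000114008046]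
noncomputable def pJ0 : List ℕ := pJ0_0
def pspec : List ℕ := [344064,188420,188416,212997,5,122880,122884,131076,139269,131080,163845,196612,196616,221191,122882,139271,221186,253952,335872]
noncomputable def prules : List (List ℕ) := pspec.map (mkRule 8 ((R ++ RH) ++ trivRels 8 14))
theorem pk0 : chkFacts (look pT) 8 14 (maskL HL) prules pJ0 0 = true := by decide +kernel
theorem ps0 : chkSeed (look pT) 8 14 45 [3,1,2,0,2] 0xe0000880005800008c0000f005 = true := by decide +kernel
theorem seeds_mem {G : Type*} [Group G] {val : ℕ → G} {H : Subgroup G} (hv : ∀ l, val (linv 8 l) = (val l)⁻¹) (he : val 14 = 1)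
    (hR : ∀ r ∈ R ++ RH, evw val r = 1) (hH : ∀ l ∈ HL, val l ∈ H) : ∀ w ∈ seeds, evw val w ∈ H := by
  have P : PHyp val H 8 14 (maskL HL) prules := pHyp_mk hv he hR hH pspec
  have h0 := holds_start val H (look pT)
  have h1 := chkFacts_step (k' := 45) P h0 pk0 (by decide +kernel)
  intro w hw
  simp only [seeds, List.mem_cons, List.not_mem_nil, or_false] at hw
  rcases hw with rfl
  · exact chkSeed_sound P h1 ps0
def spec : List ℕ := [0,163840,172034,172038,188418,188422,204802,204806,212992,90112,90120,114690,131074,131078,196610,40960,40964,106498,106502,122882,122886,139264,188416,212994,196608]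
noncomputable def rules : List (List ℕ) := spec.map (mkRule 8 R)
noncomputable def hs : List (List ℕ) := HL.map (fun z => [z]) ++ seeds
noncomputable def D0 : ℕ := Nat.shiftLeft 1 0
noncomputable def K0 : List ℕ := List.replicate 14 0
def steps0_0 : List ℕ := [3,2,32771,49155,65539,81923,98307,114691,8,12,0,4,1,2,5,10,9,13,17,21,25,29,33,50,37,41,45,49,50,53,57,61,65,69,73,77,81,85,54,131083,10,89,10,93,10,97,10]
theorem run0 : tcRun A 8 0 rules hs (steps0_0) (finSt A S (ival 0 7)) D0 K0 = true := by decide +kernel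
theorem done {G : Type*} [Group G] {val : ℕ → G} {H : Subgroup G} (hv : ∀ l, val (linv 8 l) = (val l)⁻¹) (he : val 14 = 1)
    (hR : ∀ r ∈ R ++ RH, evw val r = 1) (hH : ∀ l ∈ HL, val l ∈ H) : TCDone val H π 0 S (ival 0 7) := by
  have T : TCHyp val H 7 π A 8 rules hs := tcHyp_mk env hv pinv (fun r hr => hR r (List.mem_append_left _ hr)) relP hH (seeds_mem hv he hR hH) spec
  have h0 : Inv val H π 0 D0 K0 := inv_init val H π 0 14
  exact tcRun_fin T h0 run0
end H76.TcA1
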