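import Cfsg.Agent.H71.Glue
set_option maxRecDepth 1000000
set_option Elab.async false
namespace H76.TcA2
open H71
noncomputable def nx_0 : ℕ := 0x80
noncomputable def nx_1 : ℕ := 0xe
noncomputable def nx_2 : ℕ := 0x2202
noncomputable def nx_3 : ℕ := 0x1114
noncomputable def nx_4 : ℕ := 0x22
noncomputable def nx_5 : ℕ := 0x90a
noncomputable def nx_6 : ℕ := 0x80
noncomputable def nx : Net := .cons 8 nx_0 <| .cons 4 nx_1 <| .cons 2 nx_2 <| .cons 1 nx_3 <| .cons 2 nx_4 <| .cons 4 nx_5 <| .cons 8 nx_6 <| .nil
theorem vnx : Net.valid 16 nx = true := by decide +kernel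
noncomputable def np_0 : ℕ := 0x98
noncomputable def np_1 : ℕ := 0x208
noncomputable def np_2 : ℕ := 0x2000
noncomputable def np_3 : ℕ := 0x4510
noncomputable def np_4 : ℕ := 0x3320
noncomputable def np_5 : ℕ := 0xc08
noncomputable def np_6 : ℕ := 0xd8
noncomputable def np : Net := .cons 8 np_0 <| .cons 4 np_1 <| .cons 2 np_2 <| .cons 1 np_3 <| .cons 2 np_4 <| .cons 4 np_5 <| .cons 8 np_6 <| .nil
theorem vnp : Net.valid 16 np = true := by decide +kernel
noncomputable def nq_0 : ℕ := 0x80
noncomputable def nq_1 : ℕ := 0x808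
noncomputable def nq_2 : ℕ := 0x22
noncomputable def nq_3 : ℕ := 0x14
noncomputable def nq_4 : ℕ := 0x303
noncomputable def nq_5 : ℕ := 0x108
noncomputable def nq_6 : ℕ := 0x80
noncomputable def nq : Net := .cons 8 nq_0 <| .cons 4 nq_1 <| .cons 2 nq_2 <| .cons 1 nq_3 <| .cons 2 nq_4 <| .cons 4 nq_5 <| .cons 8 nq_6 <| .nil
theorem vnq : Net.valid 16 nq = true := by decide +kernel
noncomputable def nz_0 : ℕ := 0x80
noncomputable def nz_1 : ℕ := 0xf00
noncomputable def nz_2 : ℕ := 0x80
noncomputable def nz : Net := .cons 8 nz_0 <| .cons 4 nz_1 <| .cons 8 nz_2 <| .nil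
theorem vnz : Net.valid 16 nz = true := by decide +kernel
noncomputable def na_0 : ℕ := 0x80
noncomputable def na_1 : ℕ := 0x8
noncomputable def na_2 : ℕ := 0x30
noncomputable def na_3 : ℕ := 0xa08
noncomputable def na_4 : ℕ := 0x80
noncomputable def na : Net := .cons 8 na_0 <| .cons 4 na_1 <| .cons 2 na_2 <| .cons 4 na_3 <| .cons 8 na_4 <| .nil
theorem vna : Net.valid 16 na = true := by decide +kernel
noncomputable def nb_0 : ℕ := 0x80
noncomputable def nb_1 : ℕ := 0x8
noncomputable def nb_2 : ℕ := 0x2
noncomputable def nb_3 : ℕ := 0x4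
noncomputable def nb_4 : ℕ := 0x22
noncomputable def nb_5 : ℕ := 0x908
noncomputable def nb_6 : ℕ := 0x80
noncomputable def nb : Net := .cons 8 nb_0 <| .cons 4 nb_1 <| .cons 2 nb_2 <| .cons 1 nb_3 <| .cons 2 nb_4 <| .cons 4 nb_5 <| .cons 8 nb_6 <| .nil
theorem vnb : Net.valid 16 nb = true := by decide +kernel
noncomputable def nc_0 : ℕ := 0x80
noncomputable def nc_1 : ℕ := 0x3300
noncomputable def nc_2 : ℕ := 0xa00
noncomputable def nc_3 : ℕ := 0x80
noncomputable def nc : Net := .cons 8 nc_0 <| .cons 2 nc_1 <| .cons 4 nc_2 <| .cons 8 nc_3 <| .nil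
theorem vnc : Net.valid 16 nc = true := by decide +kernel
noncomputable def nd_0 : ℕ := 0x80
noncomputable def nd_1 : ℕ := 0x5500
noncomputable def nd_2 : ℕ := 0x3300
noncomputable def nd_3 : ℕ := 0x900
noncomputable def nd_4 : ℕ := 0x80
noncomputable def nd : Net := .cons 8 nd_0 <| .cons 1 nd_1 <| .cons 2 nd_2 <| .cons 4 nd_3 <| .cons 8 nd_4 <| .nil
theorem vnd : Net.valid 16 nd = true := by decide +kernel
noncomputable def ns_0 : ℕ := 0x80
noncomputable def ns_1 : ℕ := 0x8
noncomputable def ns_2 : ℕ := 0x50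
noncomputable def ns_3 : ℕ := 0x2230
noncomputable def ns_4 : ℕ := 0xa08
noncomputable def ns_5 : ℕ := 0x80
noncomputable def ns : Net := .cons 8 ns_0 <| .cons 4 ns_1 <| .cons 1 ns_2 <| .cons 2 ns_3 <| .cons 4 ns_4 <| .cons 8 ns_5 <| .nil
theorem vns : Net.valid 16 ns = true := by decide +kernel
noncomputable def gensN : List Net := [nx, np, nq, Net.nil]
noncomputable def invsN : List Net := [nz, na, nb, nc, nd, ns]
noncomputable def A : ℕ → ℕ → ℕ := mkA gensN invsN
noncomputable def π : ℕ → Equiv.Perm ℕ := mkPi gensN invsN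
theorem vG : ∀ r ∈ ([nx, np, nq, Net.nil] : List Net), Net.valid 16 r = true := by
  intro r hr
  simp only [List.mem_cons, List.not_mem_nil, or_false] at hr
  rcases hr with rfl | rfl | rfl | rfl
  · exact vnx
  · exact vnp
  · exact vnq
  · rfl
theorem vI : ∀ r ∈ ([nz, na, nb, nc, nd, ns] : List Net), Net.valid 16 r = true := by
  intro r hr
  simp only [List.mem_cons, List.not_mem_nil, or_false] at hr
  rcases hr with rfl | rfl | rfl | rfl | rfl | rfl
  · exact vnz
  · exact vna
  · exact vnb
  · exact vnc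
  · exact vnd
  · exact vns
theorem env : Env 16 π A := env_mk vG vI
theorem hN : 16 ≤ 2 ^ 4 := by norm_num
theorem pinv : ∀ l, π (linv 8 l) = (π l)⁻¹ := mkPi_inv' hN rfl vI (by decide +kernel)
def R : List (List ℕ) := [[0,0,0],
  [8,9,8,9],
  [8,10,8,10],
  [8,11,8,11],
  [8,12,8,12],
  [8,1,8,0],
  [8,13,8,13],
  [9,10,9,10],
  [11,12,11,12],
  [9,11,9,11],
  [10,12,10,12],
  [9,12,9,12,8],
  [10,11,10,11,8],
  [0,9,1,10],
  [0,10,1,9,10],
  [0,11,1,12],
  [0,12,1,11,12],
  [13,0,13,0],
  [13,9,13,9],
  [13,11,13,11],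
  [2,2,2],
  [2,8,3,9],
  [2,9,3,9,8],
  [2,11,3,13],
  [2,13,3,11,13],
  [3,10,2,10],
  [12,2,12,2],
  [4,4,4],
  [4,8,5,11],
  [4,11,5,11,8],
  [4,9,5,13],
  [4,13,5,9,13],
  [5,12,4,12],
  [10,4,10,4],
  [3,5,2,4],
  [2,0,2,0,2,0,2,0],
  [4,0,4,0,4,0,4,0]]
def RH : List (List ℕ) := []
def HL : List ℕ := [0,1,2,3,8,9,10,11,12,13]
def S : List ℕ := [0,1,2,3,4,5,8,9,10,11,12,13]
theorem relP : ∀ r ∈ R, evw π r = 1 := env.eq_one_of_allId hN (by decide +kernel)
def seeds : List (List ℕ) := [[5,1,4,0,4],
  [5,1,3,0,2,0,4]]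
noncomputable def pc0 : ℕ := 0x1e0000a4a0001e0000a8d0001e0000ec50001e00007040001d80007050001b80009880001b8000dcd0001b8000dc90001b80007020001a80009480001a8000703000190000c4a000190000c450001900005c40001880005c500017000098b000170000acc0001700005c200015800094d00015800094b0001580005c300015000054400014800054500013000098d0001300009430001300005420001280005430001080005c900010800070d00010800084c0001080003c00000e000054a0000e000070b0000e00005490000e00007080000e00003c10000b800054d0000b80005cc0000b80005ca0000b80005410000b80002400000a800054b0000a80002410000780003c800007800024a0000780003cc0000780003cd0000780003cb00007800000400004800024d00004800024b00004800024300004800024c00004800024900004800000500000000000d00000000000c00000000000b00000000000a00000000000900000000000800000000000300000000000100000000000e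
noncomputable def pc1 : ℕ := 0x210001081000200000dc00001b8000d4000012800098100012800154e0002b0000ace0002d000154e0002a80016420002f00015830002d00015020003080014c300030800150b00030800158c000308000b800002f00014cc0002f000164b0002f0000b810002d00014cd0002d000150c0002d00016410002d0000ac00002c8000ac10002b000154d0002b00015410002b00009800002a80009810002a000094000029800094100010800084400010800120e00019000070e0001e0000c4e000188000ec0000228000c810001e0000a80000240000a41000240000a89000240000c8d000240000844000228000a4d000228000ec9000228000845000210000dcb00021000100c000210000842000200000d4d000200000843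
noncomputable def pT : Tr := (.node (.leaf pc0) (.leaf pc1))
noncomputable def pJ0_0 : List ℕ := [0x2,1,1,1,1,1,1,1,1,0,0x4c0001000004800c006,0x4c0000e00004800c00a,0x4c0000500004800c00e,0x130000180000c000048010012,0x1300004000008000048010016,0,0x7c0000600007800c01a,0x7c0000800007800c01e,0x7c0000e00007800c022,0x7c0000a00004800c026,0x2000007c0000c00007801002a,0,0xac000160000a800c02e,0,0x2f0000a8008032,0xbc000140000b800c036,0xbc0001a0000b800c03a,0xbc0001c0000a800c03e,0,0xe4000280000e000c042,0xe4000270000a800c046,0xe4000240000e000c02e,0x3900009c000140000a801004a,0,0x10c0002000010800c03a,0x10c000220000e000c03e,0x4300009c0002e0000c801004e,0,0,0x4d000128008052,0x1340002c00013000c056,0,0,0,0x15c0003700012800c05a,0x570000dc0002c00012801005e,0,0x1740003400015800c062,0x5d0000dc0004c000140010066,0,0,0x6500018800806a,0x1940003200018800c026,0,0x1ac0003d00012800c06e,0,0x1bc0003a0001b800c072,0x1bc0003e0001b800c056,0x700001bc0003d000130010076,0,0,0x790001d800806a,0x1e40003d00015000c01e,0x1e40004100014800c026,0,0x8100011c0003e000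1a801005e,0,0x2140004400020000c062,0x8500011c0006e0001c8010066,0,0x22c000470001d800c006,0x8b00011c0003d000148010016,0,0x2440004900019000c01e,0x9100011c000780001f401007a,0x2440004300007c000020000480002a00014801c07e,0x1fc0009600025400c082,0x23c0009600024c00c086,0x1a00009a00023400c082,0x7b000270000630000c4000540002600007b00027002008a,0x19c0009e0001e400c08e,0x11c000a000024800c092,0xa300024400808e,0,0,0,0,0xad0002a8008032,0x2b4000500002a800c03e,0,0,0xb50002c8008032,0x2d4000590002a000c03a,0x2d40005b00029800c03e,0,0x2f40005f0002c800c02e,0xbd00017c00059000298010096,0,0x30c000610002b000c03a,0xc300017c000b40002e401009a,0x30c0005d0000bc000180000a80004a00029801c09e,0x2ec000c800031c00c0a2,0x304000c800031400c0a6,0x2c0000cc0002fc00c0a2,0xb7000338000ab00013c000a8000328000b70003380200aa,0x2bc000d00002d400c0ae,0x168000d20002c400c092,0xd50002ac0080b2,0x1d4000d60001b000c0b6,0x20c000d80001c800c0ba,0x224000da00021800c0be]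
noncomputable def pJ0 : List ℕ := pJ0_0
def pspec : List ℕ := [417792,245764,262144,278530,237572,253956,229376,245760,262148,270341,237568,122884,5,106496,122880,139269,40962,106500,114692,114696,163845,188416,188420,196612,212997,196616,221189,172036,172032,180224,253960,294919,106498,139271,294914,344064,409600,131076,131080,286725,188418,212999,286720,311296,303104,40960,139264,122886]
noncomputable def prules : List (List ℕ) := pspec.map (mkRule 8 ((R ++ RH) ++ trivRels 8 14))
theorem pk0 : chkFacts (look pT) 8 14 (maskL HL) prules pJ0 0 = true := by decide +kernel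
theorem ps0 : chkSeed (look pT) 8 14 111 [5,1,4,0,4] 0x1e000108000a400010c0001f005 = true := by decide +kernel
theorem ps1 : chkSeed (look pT) 8 14 111 [5,1,3,0,2,0,4] 0x1e000108000840003740008500010c0001f007 = true := by decide +kernel
theorem seeds_mem {G : Type*} [Group G] {val : ℕ → G} {H : Subgroup G} (hv : ∀ l, val (linv 8 l) = (val l)⁻¹) (he : val 14 = 1)
    (hR : ∀ r ∈ R ++ RH, evw val r = 1) (hH : ∀ l ∈ HL, val l ∈ H) : ∀ w ∈ seeds, evw val w ∈ H := by
  have P : PHyp val H 8 14 (maskL HL) prules := pHyp_mk hv he hR hH pspec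
  have h0 := holds_start val H (look pT)
  have h1 := chkFacts_step (k' := 111) P h0 pk0 (by decide +kernel)
  intro w hw
  simp only [seeds, List.mem_cons, List.not_mem_nil, or_false] at hw
  rcases hw with rfl | rfl
  · exact chkSeed_sound P h1 ps0
  · exact chkSeed_sound P h1 ps1
def spec : List ℕ := [0,163840,221184,229378,229382,245762,245766,262146,262150,270336,278528,278532,98310,98312,114690,114694,131074,253954,40960,40964,106498,106502,122882,122886,139264,172034,172038,188418,188422,204802,204806,212992,90112,90120,196610,196614,245760,270338,278530,278534,237568,253952,40962,122880,139266,131072]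
noncomputable def rules : List (List ℕ) := spec.map (mkRule 8 R)
noncomputable def hs : List (List ℕ) := HL.map (fun z => [z]) ++ seeds
noncomputable def D0 : ℕ := Nat.shiftLeft 1 0
noncomputable def K0 : List ℕ := List.replicate 14 0
def steps0_0 : List ℕ := [3,2,32771,10,65539,81923,98307,114691,131075,147459,16,20,0,4,8,12,1,2,5,10,9,18,13,17,21,25,29,33,37,42,41,14,45,10,49,53,57,42,61,65,69,73,77,81,85,89,93,97,54,101,105,109,113,117,121,125,50,129,133,137,141,163851,18,145,18,149,18,153,22,157,18,161,18,165,18,180239,2,169,6,173,2,177,2,181,2]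
theorem run0 : tcRun A 8 0 rules hs (steps0_0) (finSt A S (ival 0 15)) D0 K0 = true := by decide +kernel
theorem done {G : Type*} [Group G] {val : ℕ → G} {H : Subgroup G} (hv : ∀ l, val (linv 8 l) = (val l)⁻¹) (he : val 14 = 1)
    (hR : ∀ r ∈ R ++ RH, evw val r = 1) (hH : ∀ l ∈ HL, val l ∈ H) : TCDone val H π 0 S (ival 0 15) := by
  have T : TCHyp val H 16 π A 8 rules hs := tcHyp_mk env hv pinv (fun r hr => hR r (List.mem_append_left _ hr)) relP hH (seeds_mem hv he hR hH) spec
  have h0 : Inv val H π 0 D0 K0 := inv_init val H π 0 14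
  exact tcRun_fin T h0 run0
end H76.TcA2
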