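import Cfsg.Agent.H71.Glue
set_option maxRecDepth 1000000
set_option Elab.async false
namespace H76.TcA3
open H71
noncomputable def nx_0 : ℕ := 0x16
noncomputable def nx_1 : ℕ := 0x1
noncomputable def nx_2 : ℕ := 0x101
noncomputable def nx_3 : ℕ := 0x1
noncomputable def nx_4 : ℕ := 0x21
noncomputable def nx_5 : ℕ := 0x16
noncomputable def nx : Net := .cons 5 nx_0 <| .cons 3 nx_1 <| .cons 1 nx_2 <| .cons 2 nx_3 <| .cons 3 nx_4 <| .cons 5 nx_5 <| .nil
theorem vnx : Net.valid 10 nx = true := by decide +kernel
noncomputable def np_0 : ℕ := 0x1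
noncomputable def np_1 : ℕ := 0x21
noncomputable def np_2 : ℕ := 0x21
noncomputable def np_3 : ℕ := 0x1
noncomputable def np : Net := .cons 3 np_0 <| .cons 1 np_1 <| .cons 2 np_2 <| .cons 3 np_3 <| .nil
theorem vnp : Net.valid 10 np = true := by decide +kernel
noncomputable def nq_0 : ℕ := 0x1
noncomputable def nq_1 : ℕ := 0x1
noncomputable def nq_2 : ℕ := 0x21
noncomputable def nq_3 : ℕ := 0x20
noncomputable def nq_4 : ℕ := 0x1
noncomputable def nq : Net := .cons 3 nq_0 <| .cons 2 nq_1 <| .cons 1 nq_2 <| .cons 2 nq_3 <| .cons 3 nq_4 <| .nil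
theorem vnq : Net.valid 10 nq = true := by decide +kernel
noncomputable def nt_0 : ℕ := 0x1
noncomputable def nt_1 : ℕ := 0x1
noncomputable def nt : Net := .cons 2 nt_0 <| .cons 1 nt_1 <| .nil
theorem vnt : Net.valid 10 nt = true := by decide +kernel
noncomputable def nz_0 : ℕ := 0x60
noncomputable def nz_1 : ℕ := 0x1
noncomputable def nz_2 : ℕ := 0x109
noncomputable def nz_3 : ℕ := 0x21
noncomputable def nz_4 : ℕ := 0x60
noncomputable def nz : Net := .cons 3 nz_0 <| .cons 2 nz_1 <| .cons 1 nz_2 <| .cons 2 nz_3 <| .cons 3 nz_4 <| .nil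
theorem vnz : Net.valid 10 nz = true := by decide +kernel
noncomputable def na_0 : ℕ := 0x1
noncomputable def na_1 : ℕ := 0x20
noncomputable def na_2 : ℕ := 0x20
noncomputable def na_3 : ℕ := 0x21
noncomputable def na_4 : ℕ := 0x23
noncomputable def na : Net := .cons 3 na_0 <| .cons 2 na_1 <| .cons 1 na_2 <| .cons 2 na_3 <| .cons 3 na_4 <| .nil
theorem vna : Net.valid 10 na = true := by decide +kernel
noncomputable def nb_0 : ℕ := 0xa
noncomputable def nb_1 : ℕ := 0x60
noncomputable def nb_2 : ℕ := 0x1
noncomputable def nb_3 : ℕ := 0x109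
noncomputable def nb_4 : ℕ := 0x21
noncomputable def nb_5 : ℕ := 0x60
noncomputable def nb_6 : ℕ := 0xa
noncomputable def nb : Net := .cons 5 nb_0 <| .cons 3 nb_1 <| .cons 2 nb_2 <| .cons 1 nb_3 <| .cons 2 nb_4 <| .cons 3 nb_5 <| .cons 5 nb_6 <| .nil
theorem vnb : Net.valid 10 nb = true := by decide +kernel
noncomputable def nc_0 : ℕ := 0x2
noncomputable def nc_1 : ℕ := 0x21
noncomputable def nc_2 : ℕ := 0x29
noncomputable def nc_3 : ℕ := 0x21
noncomputable def nc_4 : ℕ := 0x22
noncomputable def nc : Net := .cons 3 nc_0 <| .cons 2 nc_1 <| .cons 1 nc_2 <| .cons 2 nc_3 <| .cons 3 nc_4 <| .nil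
theorem vnc : Net.valid 10 nc = true := by decide +kernel
noncomputable def nd_0 : ℕ := 0x14
noncomputable def nd_1 : ℕ := 0x1
noncomputable def nd_2 : ℕ := 0x100
noncomputable def nd_3 : ℕ := 0x21
noncomputable def nd_4 : ℕ := 0x1
noncomputable def nd_5 : ℕ := 0x16
noncomputable def nd : Net := .cons 5 nd_0 <| .cons 3 nd_1 <| .cons 1 nd_2 <| .cons 2 nd_3 <| .cons 3 nd_4 <| .cons 5 nd_5 <| .nil
theorem vnd : Net.valid 10 nd = true := by decide +kernel
noncomputable def ns_0 : ℕ := 0x40
noncomputable def ns_1 : ℕ := 0x1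
noncomputable def ns_2 : ℕ := 0x109
noncomputable def ns_3 : ℕ := 0x21
noncomputable def ns_4 : ℕ := 0x40
noncomputable def ns : Net := .cons 3 ns_0 <| .cons 2 ns_1 <| .cons 1 ns_2 <| .cons 2 ns_3 <| .cons 3 ns_4 <| .nil
theorem vns : Net.valid 10 ns = true := by decide +kernel
noncomputable def gensN : List Net := [nx, np, nq, nt]
noncomputable def invsN : List Net := [nz, na, nb, nc, nd, ns]
noncomputable def A : ℕ → ℕ → ℕ := mkA gensN invsN
noncomputable def π : ℕ → Equiv.Perm ℕ := mkPi gensN invsN
theorem vG : ∀ r ∈ ([nx, np, nq, nt] : List Net), Net.valid 10 r = true := by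
  intro r hr
  simp only [List.mem_cons, List.not_mem_nil, or_false] at hr
  rcases hr with rfl | rfl | rfl | rfl
  · exact vnx
  · exact vnp
  · exact vnq
  · exact vnt
theorem vI : ∀ r ∈ ([nz, na, nb, nc, nd, ns] : List Net), Net.valid 10 r = true := by
  intro r hr
  simp only [List.mem_cons, List.not_mem_nil, or_false] at hr
  rcases hr with rfl | rfl | rfl | rfl | rfl | rfl
  · exact vnz
  · exact vna
  · exact vnb
  · exact vnc
  · exact vnd
  · exact vns
theorem env : Env 10 π A := env_mk vG vI
theorem hN : 10 ≤ 2 ^ 4 := by norm_num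
theorem pinv : ∀ l, π (linv 8 l) = (π l)⁻¹ := mkPi_inv' hN rfl vI (by decide +kernel)
def R : List (List ℕ) := [[0,0,0],
  [8,9,8,9],
  [8,10,8,10],
  [8,11,8,11],
  [8,12,8,12],
  [8,1,8,0],
  [8,13,8,13],
  [9,10,9,10],
  [11,12,11,12],
  [9,11,9,11],
  [10,12,10,12],
  [9,12,9,12,8],
  [10,11,10,11,8],
  [0,9,1,10],
  [0,10,1,9,10],
  [0,11,1,12],
  [0,12,1,11,12],
  [13,0,13,0],
  [13,9,13,9],
  [13,11,13,11],
  [2,2,2],
  [2,8,3,9],
  [2,9,3,9,8],
  [2,11,3,13],
  [2,13,3,11,13],
  [3,10,2,10],
  [12,2,12,2],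
  [4,4,4],
  [4,8,5,11],
  [4,11,5,11,8],
  [4,9,5,13],
  [4,13,5,9,13],
  [5,12,4,12],
  [10,4,10,4],
  [3,5,2,4],
  [2,0,2,0,2,0,2,0],
  [4,0,4,0,4,0,4,0],
  [6,6,6],
  [7,8,11,9,6,9,11,8],
  [7,8,12,10,6,10,12,8],
  [7,13,8,6,8,13],
  [8,6,8,6],
  [7,1,6,0],
  [6,9,2,5,9,7,8,9,2,5,9,8]]
def RH : List (List ℕ) := []
def HL : List ℕ := [0,1,2,3,4,5,8,9,10,11,12,13]
def S : List ℕ := [0,1,2,3,4,5,6,7,8,9,10,11,12,13]
theorem relP : ∀ r ∈ R, evw π r = 1 := env.eq_one_of_allId hN (by decide +kernel)
def seeds : List (List ℕ) := [[6,3,6]]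
noncomputable def pc0 : ℕ := 0x1180006c50001500004050001500004c30000800004c90000800003050000a0000449000150000b0e00014000040e00012800050e00017000030e0000b0000c44000080000c4d0001880008c9000188000583000188000408000170000503000170000b050001700004040001600004c300016000040500015000050b0001500003040001400004c90001400003050001280004490001280008c300012800030200011800040b0001180003030000f80006c00000f800030a0000f80006080000f800028c0000d800058d0000d80003090000d80005880000d800028b0000c000030c0000c00005800000c000028a0000b000030b0000b00002890000a00004c50000a000028400009800028500008800040300008800028200008000028300006000028d00006000028800006000028700006000000600005000028000005000000700000000000d00000000000c00000000000b00000000000a00000000000900000000000800000000000500000000000300000000000100000000000e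
noncomputable def pc1 : ℕ := 0x6000028200006000044e0000880004ce0000c000184e0002d80013ce0002d80013c70002d80013c6000260001247000378001549000378001248000378000c4a000358001ac70003580007c900035800198800035800060d0000c000198900033000058a0003300007cd00033000060000033000058100026000184d0003080012440003080016c30003080013c80003080004cc0001500016cc0002d800124b0002d80013050002d80012490002d80015480002d80004ca00024800154d0002a80013c50002a80007c30002a80013020002a80008ca0002a800044c0001180013cc00027800130b00027800124300027800060200027800130900027800044a00026000060500026000050a00026000040c0000a000124c0002480007c400024800040a0000f80007c70000c00006070000b00005860001500004480000880008c500015000044d0000980006c30000980008c80001880004cb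
noncomputable def pT : Tr := (.node (.leaf pc0) (.leaf pc1))
noncomputable def pJ0_0 : List ℕ := [0x2,1,1,1,1,1,1,1,1,1,0,0x540000200005000c006,0,0x1900005000800a,0x640000800005000c00e,0x640001200002000018000074014012,0,0,0x23000080008016,0,0,0x2900009800801a,0,0xb4000150000280000e0000200001400007001c01e,0,0xc4000170000b000c022,0xc400015000030000100000200001400007001c026,0,0xdc0001c0000b800c02a,0xdc0002c0000bc00c02e,0xdc0001e0000b800c032,0,0xfc0001c0000d000c036,0xfc000300000d400c03a,0xfc000170000d800c03e,0,0x11c0001f00008000c042,0,0x4b000118008016,0x12c0001d00008800c046,0,0x1440001f00009800c04a,0,0x1540001d0000a000c04e,0,0x1640002100009800c052,0,0x5d00016000801a,0x174000210000a000c056,0,0x18c000210000b000c05a,0x630000900004e00013401005e,0x210000780002e000190010062,0xb40001c0000640000a00001000007000028000180000740002c00019002c066,0x5d0001880006a0000bc01006a,0x12c0006c00018400c06e,0x1440006c00017400c072,0x1540006c00017c00c076,0x6e00013c00807a,0x70000144008076,0x7000014c00807a,0x7300016c00806e,0x73000164008076,0x1980006a00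00f000c07e,0x6a0000e000037000098010082,0x2000006300012000c02a,0x200000650000f000c086,0x7b0002000006800009001008a,0x860001f40006900019c01008e,0x1f40004800022000c092,0xe00003b0001180007f0000ec0001d0000680003a000210000270000b002c096,0xcc0008c0000c800c09a,0x1040008e00010000c09e,0,0x24c0007700010800c0a2,0xa40003e00025000c0a6,0,0x2640009200025800c03a,0x264000770000d000c0aa,0,0x27c0007400026800c0ae,0x27c000230000c000c0b2,0x27c0002500024800c0b6,0x9f000228000570002680100ba,0x1240009800029800c0be,0,0x2ac0009e0002a000c03a,0x2ac0002500026000c0c2,0x2ac000230000f800c0c6,0x2ac000890002a400c0aa,0x290000a70002b800c0ca,0,0x2dc000830002b000c0ce,0x2dc0007800024800c0ae,0x2dc0002a00026800c0d2,0xb700020c000490002480100ba,0x15c000970002f800c0be,0,0x30c000830002a400c036,0x30c0007a00030400c0c6,0x30c0002a00025c00c0d6,0x2f0000bb00032000c0da,0,0xcd0000c80080de,0x3340003c00011000c0e2,0xcd0000b4000300000cc0100e6,0x338000d300033000c0ea,0,0x35c0004000034000c0ee,0x35c000d500034400c0f2,0x35c00040000244000410003580140f6,0,0x37c0006300024800c0ce,0x37c000670002b000c0ae,0x280000b20002c4000da000374000d90003500009c0002b8000e200038402c0fa,0x2e4000b4000390000cb0003140140fe,0x2e4000ab000278000e60002dc000c200031401c102,0x39c000e800039c00c106,0x288000ea00031800c10a,0x278000ea0002dc00c10e,0x340003b4000c30003b8010112,0xf100008c00810a]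
noncomputable def pJ0 : List ℕ := pJ0_0
def pspec : List ℕ := [475136,344064,303109,335877,327684,163845,221189,311310,106498,319502,24582,73734,155654,32774,81926,122882,188420,172032,245764,229376,278530,278533,172038,180229,196612,352263,229382,376832,401408,393216,434176,245766,237572,188422,196617,253958,229380,352271,344069,335879,270340,262148,262146,57350,204806,204802,98308,65536,212996,212999,188416,16390,270343,262150,245760,4,139270,114697,106500,49158,147460,327682,352268,327688,319490,303105,385024,442368,458752]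
noncomputable def prules : List (List ℕ) := pspec.map (mkRule 8 ((R ++ RH) ++ trivRels 8 14))
theorem pk0 : chkFacts (look pT) 8 14 (maskL HL) prules pJ0 0 = true := by decide +kernel
theorem ps0 : chkSeed (look pT) 8 14 122 [6,3,6] 0x180003cc00015003 = true := by decide +kernel
theorem seeds_mem {G : Type*} [Group G] {val : ℕ → G} {H : Subgroup G} (hv : ∀ l, val (linv 8 l) = (val l)⁻¹) (he : val 14 = 1)
    (hR : ∀ r ∈ R ++ RH, evw val r = 1) (hH : ∀ l ∈ HL, val l ∈ H) : ∀ w ∈ seeds, evw val w ∈ H := by
  have P : PHyp val H 8 14 (maskL HL) prules := pHyp_mk hv he hR hH pspec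
  have h0 := holds_start val H (look pT)
  have h1 := chkFacts_step (k' := 122) P h0 pk0 (by decide +kernel)
  intro w hw
  simp only [seeds, List.mem_cons, List.not_mem_nil, or_false] at hw
  rcases hw with rfl
  · exact chkSeed_sound P h1 ps0
def spec : List ℕ := [303104,57344,335872,344066,344070,114688,327682,311300,311308,319492,319500,8192,16384,106496,147456,90114,98306,139264,172032,188416,204800,352262,229376,245760,262144,352256,352266,344064,344068]
noncomputable def rules : List (List ℕ) := spec.map (mkRule 8 R)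
noncomputable def hs : List (List ℕ) := HL.map (fun z => [z]) ++ seeds
noncomputable def D0 : ℕ := Nat.shiftLeft 1 0
noncomputable def K0 : List ℕ := List.replicate 14 0
def steps0_0 : List ℕ := [3,2,32771,10,65539,18,98307,114691,131075,147459,163843,180227,24,28,36,40,1,26,5,9,34,13,6,17,2,21,2,25,54,29,46,33,46,37,50,41,50,45,49,53,2,57,61,65,69,54,196615,14,73,10,77,10,81,14,85,22,89,18,93,18,97,22,101,26,105,30,109,30,113,26]
theorem run0 : tcRun A 8 0 rules hs (steps0_0) (finSt A S (ival 0 9)) D0 K0 = true := by decide +kernel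
theorem done {G : Type*} [Group G] {val : ℕ → G} {H : Subgroup G} (hv : ∀ l, val (linv 8 l) = (val l)⁻¹) (he : val 14 = 1)
    (hR : ∀ r ∈ R ++ RH, evw val r = 1) (hH : ∀ l ∈ HL, val l ∈ H) : TCDone val H π 0 S (ival 0 9) := by
  have T : TCHyp val H 10 π A 8 rules hs := tcHyp_mk env hv pinv (fun r hr => hR r (List.mem_append_left _ hr)) relP hH (seeds_mem hv he hR hH) spec
  have h0 : Inv val H π 0 D0 K0 := inv_init val H π 0 14
  exact tcRun_fin T h0 run0
end H76.TcA3
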