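import Cfsg.Agent.H71.Glue
set_option maxRecDepth 1000000
set_option Elab.async false
namespace H76.TcH1
open H71
noncomputable def nx_0 : ℕ := 0xf20e5b07200872e0cd76815e
noncomputable def nx_1 : ℕ := 0x7a5d15438fd4000000000000e5a46c1cc1e8
noncomputable def nx_2 : ℕ := 0x741ca0000000fb4b86000000e768e2000000a54cea
noncomputable def nx_3 : ℕ := 0x73c0000980008da000546000e660000fc0009b40000e8
noncomputable def nx_4 : ℕ := 0x802a02201803603800001800c01802000800202002a010
noncomputable def nx_5 : ℕ := 0x100000080100000102080000002182180100100004184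
noncomputable def nx_6 : ℕ := 0x1000040201040008200000009000041000000208000001
noncomputable def nx_7 : ℕ := 0x9001249241049049241041249241049208040209001041
noncomputable def nx_8 : ℕ := 0x241201009209208008000009008200001201048249041048
noncomputable def nx_9 : ℕ := 0x1c30421c10041010c61c11070031c21c70071c40c0005080
noncomputable def nx_10 : ℕ := 0x2c00000501500f01f02402b01f01e03201201902903a028
noncomputable def nx_11 : ℕ := 0x2b10000d5000d6300088e00039c0005b8000199000b80
noncomputable def nx_12 : ℕ := 0xb099fd0000002559b900000091480f000000df3f20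
noncomputable def nx_13 : ℕ := 0x2e714d6a4ada000000000000119be5794611
noncomputable def nx_14 : ℕ := 0x45b6900859b63955376ff713
noncomputable def nx : Net := .cons 96 nx_0 <| .cons 48 nx_1 <| .cons 24 nx_2 <| .cons 12 nx_3 <| .cons 6 nx_4 <| .cons 3 nx_5 <| .cons 2 nx_6 <| .cons 1 nx_7 <| .cons 2 nx_8 <| .cons 3 nx_9 <| .cons 6 nx_10 <| .cons 12 nx_11 <| .cons 24 nx_12 <| .cons 48 nx_13 <| .cons 96 nx_14 <| .nil
theorem vnx : Net.valid 192 nx = true := by decide +kernel
noncomputable def nz_0 : ℕ := 0xd2507fa711ba014fb9209c28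
noncomputable def nz_1 : ℕ := 0x55c91a5f804a0000000000003149c0d1d846
noncomputable def nz_2 : ℕ := 0xe99742000000b14eb00000000d2180000000f0190c
noncomputable def nz_3 : ℕ := 0x6280004fe000100000510000a3c000362000c42000010
noncomputable def nz_4 : ℕ := 0xc00800801e02000202c01001600401001e030010022016
noncomputable def nz_5 : ℕ := 0x2084180000180000000106082102004184106180006006
noncomputable def nz_6 : ℕ := 0x9208040208000008048201009048001000201200041008
noncomputable def nz_7 : ℕ := 0x209208041209201209249201049048009208209209241248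
noncomputable def nz_8 : ℕ := 0x248008009241209200041049048240248201008009040240
noncomputable def nz_9 : ℕ := 0x1c11870420460471051460c61470c5141081104083141081
noncomputable def nz_10 : ℕ := 0x901e01f02a03b01203300f01a01101c01802d02a00d022
noncomputable def nz_11 : ℕ := 0x6a2000ed5000f1600023000056700077d000545000180
noncomputable def nz_12 : ℕ := 0xbd162e000000cb7dfa0000006d3d00000000d00f75
noncomputable def nz_13 : ℕ := 0x8a5e7480ef0d0000000000000f58e091cee0
noncomputable def nz_14 : ℕ := 0xf0bd9b7c0c90733424580095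
noncomputable def nz : Net := .cons 96 nz_0 <| .cons 48 nz_1 <| .cons 24 nz_2 <| .cons 12 nz_3 <| .cons 6 nz_4 <| .cons 3 nz_5 <| .cons 2 nz_6 <| .cons 1 nz_7 <| .cons 2 nz_8 <| .cons 3 nz_9 <| .cons 6 nz_10 <| .cons 12 nz_11 <| .cons 24 nz_12 <| .cons 48 nz_13 <| .cons 96 nz_14 <| .nil
theorem vnz : Net.valid 192 nz = true := by decide +kernel
noncomputable def na_0 : ℕ := 0xe7e653a4154286b315aaa396
noncomputable def na_1 : ℕ := 0x599500e912c00000000000066a8a9ab6d4a
noncomputable def na_2 : ℕ := 0xa102e2000000ed844c0000007038c800000008d87a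
noncomputable def na_3 : ℕ := 0xa80000bfc00066000095e000d20000b900007380002b4
noncomputable def na_4 : ℕ := 0x1e01c03801802e03403e02403a02602a03402e00402802c
noncomputable def na_5 : ℕ := 0x2002102002004104004100002100104000102102080104
noncomputable def na_6 : ℕ := 0x201001008200208201001001208001201200008000040
noncomputable def na_7 : ℕ := 0x41209049248248208209009049248009241201208209241
noncomputable def na_8 : ℕ := 0x201041201049208209008200201008049208041049008208
noncomputable def na_9 : ℕ := 0xc01431460c21430851c21871c70c0086142140085003087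
noncomputable def na_10 : ℕ := 0x401202c00f02500e00701b01101c00500400c02a02002a
noncomputable def na_11 : ℕ := 0x727000563000d40000d730007e5000e89000d2b0008a1
noncomputable def na_12 : ℕ := 0xb8daef000000b5b0da000000fc95c0000000c162e7
noncomputable def na_13 : ℕ := 0x857c38113e6000000000000e8f7b7bf3467
noncomputable def na_14 : ℕ := 0x4a9937c0eea4794de2051c49
noncomputable def na : Net := .cons 96 na_0 <| .cons 48 na_1 <| .cons 24 na_2 <| .cons 12 na_3 <| .cons 6 na_4 <| .cons 3 na_5 <| .cons 2 na_6 <| .cons 1 na_7 <| .cons 2 na_8 <| .cons 3 na_9 <| .cons 6 na_10 <| .cons 12 na_11 <| .cons 24 na_12 <| .cons 48 na_13 <| .cons 96 na_14 <| .nil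
theorem vna : Net.valid 192 na = true := by decide +kernel
noncomputable def nb_0 : ℕ := 0x1b0026689d5bcbc814084400
noncomputable def nb_1 : ℕ := 0x1e03954f79200000000000004ad76fb060d0
noncomputable def nb_2 : ℕ := 0x956896000000529972000000188c3a000000bd0440
noncomputable def nb_3 : ℕ := 0x980005380007420009240009100005c0000898000834
noncomputable def nb_4 : ℕ := 0x1800802801003a02403002002000401002203e012010002
noncomputable def nb_5 : ℕ := 0x82000104184006084000102080000084080100004002082
noncomputable def nb_6 : ℕ := 0x248201008008200200200008009040000200040200200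
noncomputable def nb_7 : ℕ := 0x201248201209009201241241048249249208208048201208
noncomputable def nb_8 : ℕ := 0x48040240208001248240209200008041009008008248241
noncomputable def nb_9 : ℕ := 0xc41c10c61c40c10000811c71400c71870451071c4085005
noncomputable def nb_10 : ℕ := 0x2702402003801e00000000400702501100c02d001012012
noncomputable def nb_11 : ℕ := 0x80c0003660003f400011900024f000fe60007670007cb
noncomputable def nb_12 : ℕ := 0x167b01000000ececed000000e773c5000000bd0440
noncomputable def nb_13 : ℕ := 0xc1fc6a8006970000000000004ad76fb060d0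
noncomputable def nb_14 : ℕ := 0x1b0026689d5bcbc814084400
noncomputable def nb : Net := .cons 96 nb_0 <| .cons 48 nb_1 <| .cons 24 nb_2 <| .cons 12 nb_3 <| .cons 6 nb_4 <| .cons 3 nb_5 <| .cons 2 nb_6 <| .cons 1 nb_7 <| .cons 2 nb_8 <| .cons 3 nb_9 <| .cons 6 nb_10 <| .cons 12 nb_11 <| .cons 24 nb_12 <| .cons 48 nb_13 <| .cons 96 nb_14 <| .nil
theorem vnb : Net.valid 192 nb = true := by decide +kernel
noncomputable def nc_0 : ℕ := 0x489aa5bb27a0cd3715bdad42
noncomputable def nc_1 : ℕ := 0x13d935598208000000000000e9f549620032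
noncomputable def nc_2 : ℕ := 0x6e741200000063e49000000045be10000000fc8422
noncomputable def nc_3 : ℕ := 0x40e000640000f4000095400070600042e0001f8000c4c
noncomputable def nc_4 : ℕ := 0x12018026006020002002012038012028014012002020022
noncomputable def nc_5 : ℕ := 0x184180006084082004004180004084000002004004080100
noncomputable def nc_6 : ℕ := 0x1001208041008200201001200001000001000201048000
noncomputable def nc_7 : ℕ := 0x49049209241208240209209249209048209240201049248
noncomputable def nc_8 : ℕ := 0x200040048200249001000049241200009048048049001208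
noncomputable def nc_9 : ℕ := 0x450831020450031810020411820c5181006141085140040
noncomputable def nc_10 : ℕ := 0x2402b01502b02603201503d03c03c00a02b00602303902d
noncomputable def nc_11 : ℕ := 0x454000a86000e070003b30004210003820000bf0006ab
noncomputable def nc_12 : ℕ := 0xab336b000000fcc42200000013ede900000063e490
noncomputable def nc_13 : ℕ := 0xe9b54962403200000000000013d934598308
noncomputable def nc_14 : ℕ := 0xb7655a44d85f32c8ea4252bd
noncomputable def nc : Net := .cons 96 nc_0 <| .cons 48 nc_1 <| .cons 24 nc_2 <| .cons 12 nc_3 <| .cons 6 nc_4 <| .cons 3 nc_5 <| .cons 2 nc_6 <| .cons 1 nc_7 <| .cons 2 nc_8 <| .cons 3 nc_9 <| .cons 6 nc_10 <| .cons 12 nc_11 <| .cons 24 nc_12 <| .cons 48 nc_13 <| .cons 96 nc_14 <| .nil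
theorem vnc : Net.valid 192 nc = true := by decide +kernel
noncomputable def nd_0 : ℕ := 0xab41c9e32671c8e9117164b4
noncomputable def nd_1 : ℕ := 0xd33ba5713000000000000077eb3f4ea4a6
noncomputable def nd_2 : ℕ := 0xe9fcc4000000bc8d3000000022777c000000f599dc
noncomputable def nd_3 : ℕ := 0x4de000d28000912000910000920000d2a000480000100
noncomputable def nd_4 : ℕ := 0x602400402000a02000202003002a03c01802600400c
noncomputable def nd_5 : ℕ := 0x80080080182184106080104002000100184102000004
noncomputable def nd_6 : ℕ := 0x40001009008000048048009200201208009008201000240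
noncomputable def nd_7 : ℕ := 0x249041049048208248248209208241209249208241201241
noncomputable def nd_8 : ℕ := 0x248049200249040040249200041049009201201200009248
noncomputable def nd_9 : ℕ := 0x1041831841811440c6006180140042042000006041181001
noncomputable def nd_10 : ℕ := 0x1303702700b03b02600001602a00601a01703400a01302a
noncomputable def nd_11 : ℕ := 0xbe5000fd600051800099c000cea000795000b82000c0a
noncomputable def nd_12 : ℕ := 0x5a5fbf000000d3485c000000f0ce0a000000b29432
noncomputable def nd_13 : ℕ := 0x776abe46248e00000000000003d33ea4703c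
noncomputable def nd_14 : ℕ := 0x54be361cd98e3716ee8e9b4b
noncomputable def nd : Net := .cons 96 nd_0 <| .cons 48 nd_1 <| .cons 24 nd_2 <| .cons 12 nd_3 <| .cons 6 nd_4 <| .cons 3 nd_5 <| .cons 2 nd_6 <| .cons 1 nd_7 <| .cons 2 nd_8 <| .cons 3 nd_9 <| .cons 6 nd_10 <| .cons 12 nd_11 <| .cons 24 nd_12 <| .cons 48 nd_13 <| .cons 96 nd_14 <| .nil
theorem vnd : Net.valid 192 nd = true := by decide +kernel
noncomputable def ns_0 : ℕ := 0x854e5ffff733b33758504c40
noncomputable def ns_1 : ℕ := 0x6f010bc25494000000000000ba41447d19d2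
noncomputable def ns_2 : ℕ := 0xf17094000000d97d32000000c0080c0000007f1ef4
noncomputable def ns_3 : ℕ := 0x74400049c000c68000500000c70000cf8000480000556
noncomputable def ns_4 : ℕ := 0x1602002c00a03e00400c01401003802001801a03c02a030
noncomputable def ns_5 : ℕ := 0x80106082102104100004000100000080104100100102100
noncomputable def ns_6 : ℕ := 0x8208240041000200040240200001201000000041200000
noncomputable def ns_7 : ℕ := 0x49248248249240248240249201241209241048241208208
noncomputable def ns_8 : ℕ := 0x40009201201201009201008009209240201201000049209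
noncomputable def ns_9 : ℕ := 0x61471400c11c61070410000420030031400001850061c3
noncomputable def ns_10 : ℕ := 0x2601903b02b03903402702f03302002702b03000203103c
noncomputable def ns_11 : ℕ := 0xdf1000dcb000f7c0006640001700003c4000162000081
noncomputable def ns_12 : ℕ := 0xf9cdc7000000ea7356000000ea165a000000f8ea1b
noncomputable def ns_13 : ℕ := 0x84a484a11bc20000000000005bf1f0ea56c7
noncomputable def ns_14 : ℕ := 0x38318000004a4d48b02fb2b6
noncomputable def ns : Net := .cons 96 ns_0 <| .cons 48 ns_1 <| .cons 24 ns_2 <| .cons 12 ns_3 <| .cons 6 ns_4 <| .cons 3 ns_5 <| .cons 2 ns_6 <| .cons 1 ns_7 <| .cons 2 ns_8 <| .cons 3 ns_9 <| .cons 6 ns_10 <| .cons 12 ns_11 <| .cons 24 ns_12 <| .cons 48 ns_13 <| .cons 96 ns_14 <| .nil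
theorem vns : Net.valid 192 ns = true := by decide +kernel
noncomputable def gensN : List Net := [nx, Net.nil, Net.nil, Net.nil]
noncomputable def invsN : List Net := [nz, na, nb, nc, nd, ns]
noncomputable def A : ℕ → ℕ → ℕ := mkA gensN invsN
noncomputable def π : ℕ → Equiv.Perm ℕ := mkPi gensN invsN
theorem vG : ∀ r ∈ ([nx, Net.nil, Net.nil, Net.nil] : List Net), Net.valid 192 r = true := by
  intro r hr
  simp only [List.mem_cons, List.not_mem_nil, or_false] at hr
  rcases hr with rfl | rfl | rfl | rfl
  · exact vnx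
  · rfl
  · rfl
  · rfl
theorem vI : ∀ r ∈ ([nz, na, nb, nc, nd, ns] : List Net), Net.valid 192 r = true := by
  intro r hr
  simp only [List.mem_cons, List.not_mem_nil, or_false] at hr
  rcases hr with rfl | rfl | rfl | rfl | rfl | rfl
  · exact vnz
  · exact vna
  · exact vnb
  · exact vnc
  · exact vnd
  · exact vns
theorem env : Env 192 π A := env_mk vG vI
theorem hN : 192 ≤ 2 ^ 8 := by norm_num
theorem pinv : ∀ l, π (linv 8 l) = (π l)⁻¹ := mkPi_inv' hN rfl vI (by decide +kernel)
def R : List (List ℕ) := [[0,0,0],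
  [8,9,8,9],
  [8,10,8,10],
  [8,11,8,11],
  [8,12,8,12],
  [8,1,8,0],
  [8,13,8,13],
  [9,10,9,10],
  [11,12,11,12],
  [9,11,9,11],
  [10,12,10,12],
  [9,12,9,12,8],
  [10,11,10,11,8],
  [0,9,1,10],
  [0,10,1,9,10],
  [0,11,1,12],
  [0,12,1,11,12],
  [13,0,13,0],
  [13,9,13,9],
  [13,11,13,11]]
def RH : List (List ℕ) := []
def HL : List ℕ := []
def S : List ℕ := [0,1,8,9,10,11,12,13]
theorem relP : ∀ r ∈ R, evw π r = 1 := env.eq_one_of_allId hN (by decide +kernel)
def seeds : List (List ℕ) := []
theorem seeds_mem {G : Type*} [Group G] {val : ℕ → G} {H : Subgroup G} (hv : ∀ l, val (linv 8 l) = (val l)⁻¹) (he : val 14 = 1)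
    (hR : ∀ r ∈ R ++ RH, evw val r = 1) (hH : ∀ l ∈ HL, val l ∈ H) : ∀ w ∈ seeds, evw val w ∈ H := by simp [seeds]
def spec : List ℕ := [0,8192,16384,24576,32768,40962,49152,57344,65536,73728,81920,106496,122880,139266,147458,155650,90112,98304,114688,131072,106502,122886]
noncomputable def rules : List (List ℕ) := spec.map (mkRule 8 R)
noncomputable def hs : List (List ℕ) := HL.map (fun z => [z]) ++ seeds
noncomputable def D0 : ℕ := Nat.shiftLeft 1 0
noncomputable def K0 : List ℕ := List.replicate 14 0
def steps0_0 : List ℕ := [0,4,32,36,40,44,48,52,1,2,5,9,13,17,21,6,25,29,33,37,41,45,2,49,2,53,2,57,61,65,69,73,2,77,2,53,2,57,81,85]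
theorem run0 : tcRun A 8 0 rules hs (steps0_0) (finSt A S (ival 0 192)) D0 K0 = true := by decide +kernel
theorem done {G : Type*} [Group G] {val : ℕ → G} {H : Subgroup G} (hv : ∀ l, val (linv 8 l) = (val l)⁻¹) (he : val 14 = 1)
    (hR : ∀ r ∈ R ++ RH, evw val r = 1) (hH : ∀ l ∈ HL, val l ∈ H) : TCDone val H π 0 S (ival 0 192) := by
  have T : TCHyp val H 192 π A 8 rules hs := tcHyp_mk env hv pinv (fun r hr => hR r (List.mem_append_left _ hr)) relP hH (seeds_mem hv he hR hH) spec
  have h0 : Inv val H π 0 D0 K0 := inv_init val H π 0 14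
  exact tcRun_fin T h0 run0
end H76.TcH1
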