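import Cfsg.Agent.H71.Glue
set_option maxRecDepth 1000000
set_option Elab.async false
namespace H76.TcH2
open H71
noncomputable def nx_0 : ℕ := 0xb363edd30000af241a459338
noncomputable def nx_1 : ℕ := 0xfe2a6c0524140000000000001aa01accc028
noncomputable def nx_2 : ℕ := 0x51c5000000064adb40000000c02c80000009ec7aa
noncomputable def nx_3 : ℕ := 0xbcc00062a000c260006c6000148000ab2000acc000658
noncomputable def nx_4 : ℕ := 0x2e00402000203400001e00801c00a026028034020024028
noncomputable def nx_5 : ℕ := 0x180104180100006004000100000080004002186180104000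
noncomputable def nx_6 : ℕ := 0x8000008200200008040201248040208240200000200201
noncomputable def nx_7 : ℕ := 0x209249049201201049241249249048209248208049240209
noncomputable def nx_8 : ℕ := 0x49048208049001008001200240008201049001040241008
noncomputable def nx_9 : ℕ := 0x1430031430c30c20861841051c41c70450c70061c0101180
noncomputable def nx_10 : ℕ := 0x3600f03002803800700201a00403f03101f03d03a00c001
noncomputable def nx_11 : ℕ := 0xea60002ca0003f60006dc000e5b00007e0007d4000110
noncomputable def nx_12 : ℕ := 0x4f7b38000000635a23000000c2f37b000000b23379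
noncomputable def nx_13 : ℕ := 0x14a301cf2c16000000000000291e81135000
noncomputable def nx_14 : ℕ := 0x602205b263fb3f54a1e7ea88
noncomputable def nx : Net := .cons 96 nx_0 <| .cons 48 nx_1 <| .cons 24 nx_2 <| .cons 12 nx_3 <| .cons 6 nx_4 <| .cons 3 nx_5 <| .cons 2 nx_6 <| .cons 1 nx_7 <| .cons 2 nx_8 <| .cons 3 nx_9 <| .cons 6 nx_10 <| .cons 12 nx_11 <| .cons 24 nx_12 <| .cons 48 nx_13 <| .cons 96 nx_14 <| .nil
theorem vnx : Net.valid 192 nx = true := by decide +kernel
noncomputable def nz_0 : ℕ := 0x292600a0fa3f9a63633e8c6a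
noncomputable def nz_1 : ℕ := 0x9e84edfbf394000000000000076af71278fe
noncomputable def nz_2 : ℕ := 0x2824400000007ce72000000013d1c2000000cc0a78
noncomputable def nz_3 : ℕ := 0x4120002ca0005ae000b3200042800083c0009ce000684
noncomputable def nz_4 : ℕ := 0x2000a02202602e01602001003c02a03203e008036034038
noncomputable def nz_5 : ℕ := 0x84182000002180100102002002102006006184102100006
noncomputable def nz_6 : ℕ := 0x8008241000040040008049040008000001041041200041
noncomputable def nz_7 : ℕ := 0x208209249001248048049049248009248241049249200249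
noncomputable def nz_8 : ℕ := 0x1041040009208249201008241041008240240248049041
noncomputable def nz_9 : ℕ := 0x1421c40001451c00001c01410460c51040071c1083080007
noncomputable def nz_10 : ℕ := 0x1202b03503802300c03d00603602c02502503502302e026
noncomputable def nz_11 : ℕ := 0x21a000c4a000993000aa20000da0000470005a9000201
noncomputable def nz_12 : ℕ := 0x4612d20000005ff92c000000063562000000c24473
noncomputable def nz_13 : ℕ := 0x76af71278fe0000000000009e84edfbf394
noncomputable def nz_14 : ℕ := 0xd651ff5f05c065988cc17395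
noncomputable def nz : Net := .cons 96 nz_0 <| .cons 48 nz_1 <| .cons 24 nz_2 <| .cons 12 nz_3 <| .cons 6 nz_4 <| .cons 3 nz_5 <| .cons 2 nz_6 <| .cons 1 nz_7 <| .cons 2 nz_8 <| .cons 3 nz_9 <| .cons 6 nz_10 <| .cons 12 nz_11 <| .cons 24 nz_12 <| .cons 48 nz_13 <| .cons 96 nz_14 <| .nil
theorem vnz : Net.valid 192 nz = true := by decide +kernel
noncomputable def na_0 : ℕ := 0xebe081addeb9957fe102e180
noncomputable def na_1 : ℕ := 0x37dddabe3b36000000000000e022780b6c88
noncomputable def na_2 : ℕ := 0xacbd90000000816b88000000ad764a000000aa7d46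
noncomputable def na_3 : ℕ := 0xfe400001c000b700009c4000396000a50000a68000c90
noncomputable def na_4 : ℕ := 0x2200000000602400200402000200a01e02a02c004030028
noncomputable def na_5 : ℕ := 0x6102000004006000080000002000102180080000
noncomputable def na_6 : ℕ := 0x1001200040208008008241000048008001200049008
noncomputable def na_7 : ℕ := 0x1249241248040208009208249048249049249240249049
noncomputable def na_8 : ℕ := 0x240200200008240201048209200009041209208208208208
noncomputable def na_9 : ℕ := 0x861461850411c21061c40471c30861400061c1103083006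
noncomputable def na_10 : ℕ := 0x2203f00600001f00903201300100201d02803101e00102a
noncomputable def na_11 : ℕ := 0xfe4000fe300009f000e94000ae9000c87000196000241
noncomputable def na_12 : ℕ := 0xacbd900000005a0456000000ab4dc60000002db64e
noncomputable def na_13 : ℕ := 0x36dddabeabb60000000000001fdd87f49366
noncomputable def na_14 : ℕ := 0xebe081addeb9957fe102e180
noncomputable def na : Net := .cons 96 na_0 <| .cons 48 na_1 <| .cons 24 na_2 <| .cons 12 na_3 <| .cons 6 na_4 <| .cons 3 na_5 <| .cons 2 na_6 <| .cons 1 na_7 <| .cons 2 na_8 <| .cons 3 na_9 <| .cons 6 na_10 <| .cons 12 na_11 <| .cons 24 na_12 <| .cons 48 na_13 <| .cons 96 na_14 <| .nil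
theorem vna : Net.valid 192 na = true := by decide +kernel
noncomputable def nb_0 : ℕ := 0xc90b2a7c3068a6f990c16148
noncomputable def nb_1 : ℕ := 0xa35606e45cc8000000000000c5384c5255a8
noncomputable def nb_2 : ℕ := 0x9a5404000000c6a33600000077a286000000b8a230
noncomputable def nb_3 : ℕ := 0x8b200011400018a000c2c00052000029600018e000f44
noncomputable def nb_4 : ℕ := 0x3801001c00002802400c02000c00602000002201000e00e
noncomputable def nb_5 : ℕ := 0x100000084000186080186000084000000084106086084
noncomputable def nb_6 : ℕ := 0x40000009040001048001000009000241001001041200008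
noncomputable def nb_7 : ℕ := 0x240049009048001249201041209049241201209249208208
noncomputable def nb_8 : ℕ := 0x201200041248248041048041041008040249009008008249
noncomputable def nb_9 : ℕ := 0x1c60030401850870c10820051840c11831c1003000187047
noncomputable def nb_10 : ℕ := 0x3803003503501601d02201300302b01600e00500902a004
noncomputable def nb_11 : ℕ := 0x2a6000fe900078e000f930008a1000fd8000d36000782
noncomputable def nb_12 : ℕ := 0x8b5c140000003910c9000000b8d83e000000152004
noncomputable def nb_13 : ℕ := 0x835d064604cc0000000000003ac7b7a9a655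
noncomputable def nb_14 : ℕ := 0xc90b2a7c346aa6f990c16148
noncomputable def nb : Net := .cons 96 nb_0 <| .cons 48 nb_1 <| .cons 24 nb_2 <| .cons 12 nb_3 <| .cons 6 nb_4 <| .cons 3 nb_5 <| .cons 2 nb_6 <| .cons 1 nb_7 <| .cons 2 nb_8 <| .cons 3 nb_9 <| .cons 6 nb_10 <| .cons 12 nb_11 <| .cons 24 nb_12 <| .cons 48 nb_13 <| .cons 96 nb_14 <| .nil
theorem vnb : Net.valid 192 nb = true := by decide +kernel
noncomputable def nc_0 : ℕ := 0xf4d25446041fc23d213f5958
noncomputable def nc_1 : ℕ := 0xca19c1d88218000000000000209d71d8ee20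
noncomputable def nc_2 : ℕ := 0x1d0efa000000de7e40000000f5436c000000571290
noncomputable def nc_3 : ℕ := 0x13800012a000e6400082c000ccc0000da000eea000414
noncomputable def nc_4 : ℕ := 0x3002002000c00a02001200600003c00200601003a02a00e
noncomputable def nc_5 : ℕ := 0x2086184006184002082000182084186000106000000004
noncomputable def nc_6 : ℕ := 0x48200248208009008001201008000008201008200240
noncomputable def nc_7 : ℕ := 0x41248201249209009048209241208208249201049240248
noncomputable def nc_8 : ℕ := 0x209049008001009041249008209041201241049001241208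
noncomputable def nc_9 : ℕ := 0x1420450850c71040050c10c01411c11831811450c0040186
noncomputable def nc_10 : ℕ := 0x3c00003600602101501003a02003001800c01200601f031
noncomputable def nc_11 : ℕ := 0x3330000da000aeb000eea000ec700012a00082c000193
noncomputable def nc_12 : ℕ := 0xf5436c000000a8ed6f0000001d0efa0000002181bf
noncomputable def nc_13 : ℕ := 0x209d71d8ee20000000000000ca19c1d88218
noncomputable def nc_14 : ℕ := 0xb2dabb9fbe03dc2dec0a6a7
noncomputable def nc : Net := .cons 96 nc_0 <| .cons 48 nc_1 <| .cons 24 nc_2 <| .cons 12 nc_3 <| .cons 6 nc_4 <| .cons 3 nc_5 <| .cons 2 nc_6 <| .cons 1 nc_7 <| .cons 2 nc_8 <| .cons 3 nc_9 <| .cons 6 nc_10 <| .cons 12 nc_11 <| .cons 24 nc_12 <| .cons 48 nc_13 <| .cons 96 nc_14 <| .nil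
theorem vnc : Net.valid 192 nc = true := by decide +kernel
noncomputable def nd_0 : ℕ := 0x77850684befdab6505988e48
noncomputable def nd_1 : ℕ := 0xcba1eca036c0000000000000408679b39da2
noncomputable def nd_2 : ℕ := 0x7c57e80000009ab04800000094f1980000006ba3c8
noncomputable def nd_3 : ℕ := 0x44000058c000e0c0006f20007e00007000005aa000d24
noncomputable def nd_4 : ℕ := 0x2002003003c00a01e02a01e02200202203201000e012000
noncomputable def nd_5 : ℕ := 0x84002100004104006106080004080102104000186080180
noncomputable def nd_6 : ℕ := 0x1241200040001241201000201041209001001001009000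
noncomputable def nd_7 : ℕ := 0x49249241240009249241201209049249201241041209209
noncomputable def nd_8 : ℕ := 0x200248201208049201040240000009048041241040001208
noncomputable def nd_9 : ℕ := 0x1421c40800431c31c50060c3044146187040144085140041
noncomputable def nd_10 : ℕ := 0xb01900e03f03901400402003000401d03203601700e002
noncomputable def nd_11 : ℕ := 0x94c0005c8000167000985000eb90001170000ad000215
noncomputable def nd_12 : ℕ := 0xa28ddf0000003e0cac0000000347b3000000679322
noncomputable def nd_13 : ℕ := 0x58b52865b642000000000000bb5a86c4e67d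
noncomputable def nd_14 : ℕ := 0x738516841d4daa6105b08e4c
noncomputable def nd : Net := .cons 96 nd_0 <| .cons 48 nd_1 <| .cons 24 nd_2 <| .cons 12 nd_3 <| .cons 6 nd_4 <| .cons 3 nd_5 <| .cons 2 nd_6 <| .cons 1 nd_7 <| .cons 2 nd_8 <| .cons 3 nd_9 <| .cons 6 nd_10 <| .cons 12 nd_11 <| .cons 24 nd_12 <| .cons 48 nd_13 <| .cons 96 nd_14 <| .nil
theorem vnd : Net.valid 192 nd = true := by decide +kernel
noncomputable def ns_0 : ℕ := 0xbab8e3d2513825157e5e2b80
noncomputable def ns_1 : ℕ := 0x42eaee2e5c28000000000000028835fa38b2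
noncomputable def ns_2 : ℕ := 0x8e96c000000d3e804000000ef6898000000b07110
noncomputable def ns_3 : ℕ := 0xab4000f540002c2000238000a12000e9c00066c000ea4
noncomputable def ns_4 : ℕ := 0x2c00002401c02c008034006030020010004018004006000
noncomputable def ns_5 : ℕ := 0x184106080006004004002106086082080084000000102084
noncomputable def ns_6 : ℕ := 0x1001200008200001000041041001248001000048040001
noncomputable def ns_7 : ℕ := 0x209249241008241201248249249049248209240049048209
noncomputable def ns_8 : ℕ := 0x49041049000001209001008201008208041049000009048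
noncomputable def ns_9 : ℕ := 0x1811440850c21040451811411861411431c2181004142003
noncomputable def ns_10 : ℕ := 0xe02401300e01903e02b01c02600700b01800700203b01d
noncomputable def ns_11 : ℕ := 0x870004520005970005fe000fe700028c000d0100083d
noncomputable def ns_12 : ℕ := 0xb66a8e000000ab6a6400000008851200000087400b
noncomputable def ns_13 : ℕ := 0x458151b5ad5a000000000000028ed4cc5498
noncomputable def ns_14 : ℕ := 0xc3c62a2338c7ef818d6b043d
noncomputable def ns : Net := .cons 96 ns_0 <| .cons 48 ns_1 <| .cons 24 ns_2 <| .cons 12 ns_3 <| .cons 6 ns_4 <| .cons 3 ns_5 <| .cons 2 ns_6 <| .cons 1 ns_7 <| .cons 2 ns_8 <| .cons 3 ns_9 <| .cons 6 ns_10 <| .cons 12 ns_11 <| .cons 24 ns_12 <| .cons 48 ns_13 <| .cons 96 ns_14 <| .nil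
theorem vns : Net.valid 192 ns = true := by decide +kernel
noncomputable def gensN : List Net := [nx, Net.nil, Net.nil]
noncomputable def invsN : List Net := [nz, na, nb, nc, nd, ns]
noncomputable def A : ℕ → ℕ → ℕ := mkA gensN invsN
noncomputable def π : ℕ → Equiv.Perm ℕ := mkPi gensN invsN
theorem vG : ∀ r ∈ ([nx, Net.nil, Net.nil] : List Net), Net.valid 192 r = true := by
  intro r hr
  simp only [List.mem_cons, List.not_mem_nil, or_false] at hr
  rcases hr with rfl | rfl | rfl
  · exact vnx
  · rfl
  · rfl
theorem vI : ∀ r ∈ ([nz, na, nb, nc, nd, ns] : List Net), Net.valid 192 r = true := by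
  intro r hr
  simp only [List.mem_cons, List.not_mem_nil, or_false] at hr
  rcases hr with rfl | rfl | rfl | rfl | rfl | rfl
  · exact vnz
  · exact vna
  · exact vnb
  · exact vnc
  · exact vnd
  · exact vns
theorem env : Env 192 π A := env_mk vG vI
theorem hN : 192 ≤ 2 ^ 8 := by norm_num
theorem pinv : ∀ l, π (linv 6 l) = (π l)⁻¹ := mkPi_inv' hN rfl vI (by decide +kernel)
def R : List (List ℕ) := [[0,0,0],
  [6,7,6,7],
  [6,8,6,8],
  [6,9,6,9],
  [6,10,6,10],
  [6,1,6,0],
  [6,11,6,11],
  [7,8,7,8],
  [9,10,9,10],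
  [7,9,7,9],
  [8,10,8,10],
  [7,10,7,10,6],
  [8,9,8,9,6],
  [0,7,1,8],
  [0,8,1,7,8],
  [0,9,1,10],
  [0,10,1,9,10],
  [11,0,11,0],
  [11,7,11,7],
  [11,9,11,7,9,6]]
def RH : List (List ℕ) := []
def HL : List ℕ := []
def S : List ℕ := [0,1,6,7,8,9,10,11]
theorem relP : ∀ r ∈ R, evw π r = 1 := env.eq_one_of_allId hN (by decide +kernel)
def seeds : List (List ℕ) := []
theorem seeds_mem {G : Type*} [Group G] {val : ℕ → G} {H : Subgroup G} (hv : ∀ l, val (linv 6 l) = (val l)⁻¹) (he : val 12 = 1)
    (hR : ∀ r ∈ R ++ RH, evw val r = 1) (hH : ∀ l ∈ HL, val l ∈ H) : ∀ w ∈ seeds, evw val w ∈ H := by simp [seeds]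
def spec : List ℕ := [0,8192,16384,24576,32768,40962,49152,57344,65536,73728,81920,106496,122880,139266,147458,90112,98304,114688,131072,155650,155654,106502,122886]
noncomputable def rules : List (List ℕ) := spec.map (mkRule 6 R)
noncomputable def hs : List (List ℕ) := HL.map (fun z => [z]) ++ seeds
noncomputable def D0 : ℕ := Nat.shiftLeft 1 0
noncomputable def K0 : List ℕ := List.replicate 12 0
def steps0_0 : List ℕ := [0,4,24,28,32,36,40,44,1,2,5,9,13,17,21,6,25,29,33,37,41,45,2,49,2,53,2,57,61,65,69,2,73,2,77,81,53,2,85,89]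
theorem run0 : tcRun A 6 0 rules hs (steps0_0) (finSt A S (ival 0 192)) D0 K0 = true := by decide +kernel
theorem done {G : Type*} [Group G] {val : ℕ → G} {H : Subgroup G} (hv : ∀ l, val (linv 6 l) = (val l)⁻¹) (he : val 12 = 1)
    (hR : ∀ r ∈ R ++ RH, evw val r = 1) (hH : ∀ l ∈ HL, val l ∈ H) : TCDone val H π 0 S (ival 0 192) := by
  have T : TCHyp val H 192 π A 6 rules hs := tcHyp_mk env hv pinv (fun r hr => hR r (List.mem_append_left _ hr)) relP hH (seeds_mem hv he hR hH) spec
  have h0 : Inv val H π 0 D0 K0 := inv_init val H π 0 12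
  exact tcRun_fin T h0 run0
end H76.TcH2
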