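/- Tower KU, slot Dg: diagonal elements of a frame. -/
import Cfsg.Agent.H53.KUSpec
import Cfsg.Agent.H59.Para

set_option autoImplicit false

namespace H76.KUDg

open Cfsg H59 H53.WU H53.KU Module

variable {S : HS} {m : ℕ} (Φ : Fr S m)

theorem pp_sub (v : S.V) :
    Φ.Pp (v - ∑ i, S.B (Φ.f i) v • Φ.e i - ∑ i, S.B (Φ.e i) v • Φ.f i) := by
  constructor
  · intro j
    simp [map_sum, Φ.ee, Φ.ef]
  · intro j
    simp [map_sum, Φ.ff, Φ.fe]

theorem ext_frame {T T' : S.V →ₗ[S.F] S.V} (he : ∀ i, T (Φ.e i) = T' (Φ.e i))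
    (hf : ∀ i, T (Φ.f i) = T' (Φ.f i)) (hw : ∀ w, Φ.Pp w → T w = T' w) : T = T' := by
  ext v
  have h := hw _ (pp_sub Φ v)
  simp only [map_sub, map_sum, map_smul, he, hf] at h
  simpa using h

theorem even_of_triv (hn : S.n / 2 = m) (h : ∀ w, Φ.Pp w → w = 0) : ¬ Odd S.n := by
  have h1 : Submodule.span S.F (Set.range (Sum.elim Φ.e Φ.f)) = ⊤ := by
    refine eq_top_iff.2 fun v _ => ?_
    have h2 := h _ (pp_sub Φ v)
    rw [sub_sub, sub_eq_zero] at h2
    rw [h2]
    exact add_mem (Submodule.sum_mem _ fun i _ => Submodule.smul_mem _ _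
      (Submodule.subset_span ⟨Sum.inl i, rfl⟩)) (Submodule.sum_mem _ fun i _ => Submodule.smul_mem _ _
      (Submodule.subset_span ⟨Sum.inr i, rfl⟩))
  have h2 := finrank_range_le_card (R := S.F) (Sum.elim Φ.e Φ.f)
  rw [Set.finrank, h1, finrank_top] at h2
  simp only [Fintype.card_sum, Fintype.card_fin] at h2
  rintro ⟨k, hk⟩
  change finrank S.F S.V = _ at hk
  change finrank S.F S.V / 2 = _ at hn
  omega

theorem exists_hyp (a : Fin m → S.Fˣ) (s : Finset (Fin m)) :
    ∃ H ∈ isom S.B, LinearEquiv.det H = ∏ i ∈ s, a i * (a i ^ S.q)⁻¹ ∧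
      (∀ i, H (Φ.e i) = ((if i ∈ s then a i else 1 : S.Fˣ) : S.F) • Φ.e i) ∧
      (∀ i, H (Φ.f i) = ((if i ∈ s then (a i ^ S.q)⁻¹ else 1 : S.Fˣ) : S.F) • Φ.f i) ∧
      ∀ w, Φ.Pp w → H w = w := by
  induction s using Finset.induction_on with
  | empty => exact ⟨1, one_mem _, by simp, by simp, by simp, fun _ _ => rfl⟩
  | insert j s hj ih =>
    obtain ⟨H, hH, hd, he, hf, hw⟩ := ih
    obtain ⟨g, hg, gd, ga⟩ := S.h.exists_hypScale (Φ.ee j j) (Φ.ff j j) (by simp [Φ.ef]) (a j).ne_zero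
    refine ⟨H * g, mul_mem hH hg, ?_, fun i => ?_, fun i => ?_, fun w h => ?_⟩
    · rw [map_mul, hd, Finset.prod_insert hj, mul_comm]
      congr 1
      exact Units.ext (by rw [gd]; simp [frob_apply, div_eq_mul_inv])
    · rw [LinearEquiv.mul_apply, ga, Φ.ee, Φ.fe]
      by_cases h : j = i
      · subst h
        simp [he, hj, sub_smul]
      · simp [he, h, Ne.symm h]
    · rw [LinearEquiv.mul_apply, ga, Φ.ff, Φ.ef]
      by_cases h : j = i
      · subst h
        simp [hf, hj, sub_smul, frob_apply]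
      · simp [hf, h, Ne.symm h]
    · rw [LinearEquiv.mul_apply, ga, h.1, h.2]
      simp [hw w h]

theorem prod_eq (a : Fin m → S.Fˣ) :
    (∏ i, a i * (a i ^ S.q)⁻¹) * (∏ i, a i) ^ (S.q - 1) = 1 := by
  have h := S.two_le_q
  rw [Finset.prod_mul_distrib, Finset.prod_inv_distrib, Finset.prod_pow, mul_right_comm, ← pow_succ',
    show S.q - 1 + 1 = S.q by omega, mul_inv_cancel]

theorem norm_one (x : S.Fˣ) : frob S.hF ((x ^ (S.q - 1) : S.Fˣ) : S.F) * ((x ^ (S.q - 1) : S.Fˣ) : S.F) = 1 := by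
  have h := S.two_le_q
  rw [frob_apply, ← pow_succ, Units.val_pow_eq_pow_val, ← pow_mul]
  have h1 := FiniteField.pow_card_sub_one_eq_one (x : S.F) x.ne_zero
  rw [S.hF] at h1
  obtain ⟨r, hr⟩ : ∃ r, S.q = r + 1 := ⟨S.q - 1, by omega⟩
  rw [hr] at h1 ⊢
  rw [← h1]
  congr 1
  rw [Nat.add_sub_cancel, show (r + 1) ^ 2 = r * (r + 1 + 1) + 1 by ring, Nat.add_sub_cancel]

theorem jobDg (hP : JobPp) : JobDg := by
  intro S m Φ hn
  refine ⟨fun a ha => ?_, fun t a he hf => ⟨he, hf, ?_⟩⟩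
  · obtain ⟨H, hH, hd, he, hf, hw⟩ := exists_hyp Φ a Finset.univ
    simp only [Finset.mem_univ, if_true] at he hf
    by_cases h0 : ∀ w, Φ.Pp w → w = 0
    · have h1 := (mem_Tor.1 ha).resolve_left (even_of_triv Φ hn h0)
      have h2 := prod_eq a
      rw [h1, mul_one, ← hd] at h2
      exact ⟨⟨H, hH, h2⟩, he, hf, fun w h => by simp [h0 w h]⟩
    · push Not at h0
      obtain ⟨w, hw1, hw0⟩ := h0
      obtain ⟨-, h1, h2⟩ := hP S m Φ hn w hw1 hw0
      obtain ⟨r, hr, rd, rw'⟩ := S.h.exists_qrefl h1 (norm_one (∏ i, a i))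
      refine ⟨⟨H * r, mul_mem hH hr.1, ?_⟩, fun i => ?_, fun i => ?_, fun w' h => ?_⟩
      · change LinearEquiv.det (H * r) = 1
        rw [map_mul, hd, Units.ext rd, prod_eq]
      · change H (r _) = _
        rw [axisGrp_apply_of_perp hr (S.h.eq_zero_comm.1 (hw1.1 i)), he]
      · change H (r _) = _
        rw [axisGrp_apply_of_perp hr (S.h.eq_zero_comm.1 (hw1.2 i)), hf]
      · obtain ⟨c, rfl⟩ := h2 w' h
        change H (r _) = _
        rw [map_smul, rw', map_smul, map_smul, hw w hw1, smul_comm]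
  · intro w hw1
    by_cases hw0 : w = 0
    · simp [hw0]
    obtain ⟨H, hH, hd, he', hf', hw⟩ := exists_hyp Φ a Finset.univ
    simp only [Finset.mem_univ, if_true] at he' hf'
    obtain ⟨-, h1, h2⟩ := hP S m Φ hn w hw1 hw0
    have ht : Φ.Pp (t.1 w) := by
      constructor
      · intro i
        have := t.2.1 (Φ.e i) w
        rw [he, form_smul_left, hw1.1] at this
        exact (mul_eq_zero.1 this).resolve_left (S.h.conj_ne_zero (a i).ne_zero)
      · intro i
        have := t.2.1 (Φ.f i) w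
        rw [hf, form_smul_left, hw1.2] at this
        exact (mul_eq_zero.1 this).resolve_left (S.h.conj_ne_zero (Units.ne_zero _))
    obtain ⟨c, hc⟩ := h2 _ ht
    have hN : frob S.hF c * c = 1 := by
      have := t.2.1 w w
      rw [hc, form_smul_left, form_smul_right, ← mul_assoc] at this
      exact mul_right_cancel₀ h1 (this.trans (one_mul _).symm)
    obtain ⟨r, hr, rd, rw'⟩ := S.h.exists_qrefl h1 hN
    have key : t.1 = H * r := by
      refine LinearEquiv.toLinearMap_injective (ext_frame Φ (fun i => ?_) (fun i => ?_) fun w' h => ?_)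
      · change t.1 _ = H (r _)
        rw [axisGrp_apply_of_perp hr (S.h.eq_zero_comm.1 (hw1.1 i)), he, he']
      · change t.1 _ = H (r _)
        rw [axisGrp_apply_of_perp hr (S.h.eq_zero_comm.1 (hw1.2 i)), hf, hf']
      · obtain ⟨d, rfl⟩ := h2 w' h
        change t.1 _ = H (r _)
        rw [map_smul, map_smul, rw', map_smul, map_smul, hw w hw1, hc]
    have h3 : LinearEquiv.det t.1 = 1 := t.2.2
    rw [key, map_mul, hd, ← prod_eq a, mul_right_inj] at h3
    rw [hc, ← rd, h3]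

end H76.KUDg
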