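/- Tower KU, slot Up: the unipotent radical of a chamber consists of `p`-elements. -/
import Cfsg.Agent.H76.KUDg

set_option autoImplicit false

namespace H76.KUUp

open Cfsg H59 H53.WU H53.KU Module

theorem pow_eq_one {F V : Type} [Field F] [Fintype F] [AddCommGroup V] [Module F V] (g : V ≃ₗ[F] V) (k : ℕ)
    (h : ((g : Module.End F V) - 1) ^ k = 0) : g ^ (ringChar F ^ k) = 1 := by
  rcases subsingleton_or_nontrivial V with hV | hV
  · ext x
    exact Subsingleton.elim _ _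
  have hp : (ringChar F).Prime := CharP.char_is_prime F _
  have := Fact.mk hp
  have : CharP (Module.End F V) (ringChar F) :=
    charP_of_injective_algebraMap (FaithfulSMul.algebraMap_injective F _) _
  have h1 := sub_pow_char_pow_of_commute (p := ringChar F) (n := k)
    (Commute.one_right (g : Module.End F V))
  rw [pow_eq_zero_of_le (Nat.lt_pow_self hp.one_lt).le h, one_pow, eq_comm, sub_eq_zero] at h1
  ext x
  have := LinearMap.congr_fun h1 x
  simpa [Module.End.pow_apply, LinearEquiv.pow_apply] using this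

variable {S : HS} {m : ℕ} (Φ : Fr S m)

theorem W_zero {v : S.V} (hv : v ∈ Φ.W 0) : v = 0 := by
  simpa [Fr.W] using hv

theorem nil {g : S.V ≃ₗ[S.F] S.V} (hg : g ∈ isom S.B) (h1 : ∀ k, ∀ v ∈ Φ.W (k + 1), g v - v ∈ Φ.W k)
    (h2 : ∀ k, ∀ v ∈ Φ.W (k + 1), g⁻¹ v - v ∈ Φ.W k) (h3 : ∀ v ∈ perp S.B (Φ.W m), g v - v ∈ Φ.W m) :
    ((g : Module.End S.F S.V) - 1) ^ (m + 1 + m) = 0 := by
  set N : Module.End S.F S.V := (g : Module.End S.F S.V) - 1 with hN
  have hNv : ∀ v, N v = g v - v := fun v => rfl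
  have hA : ∀ k, ∀ v ∈ Φ.W k, (N ^ k) v = 0 := by
    intro k
    induction k with
    | zero => intro v hv; simp [W_zero Φ hv]
    | succ k ih =>
      intro v hv
      rw [pow_succ, Module.End.mul_apply]
      exact ih _ (h1 k v hv)
  have hB : ∀ k v, (N ^ k) v ∈ perp S.B (Φ.W k) := by
    intro k v
    induction k with
    | zero => intro x hx; simp [W_zero Φ hx]
    | succ k ih =>
      intro x hx
      have h4 := ih _ (h2 k x hx)
      rw [pow_succ', Module.End.mul_apply, hNv]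
      have h5 := hg (g⁻¹ x) ((N ^ k) v)
      rw [LinearEquiv.coe_inv, LinearEquiv.apply_symm_apply] at h5
      change S.B _ _ = 0 at h4 ⊢
      rw [map_sub, LinearMap.sub_apply, LinearEquiv.coe_inv] at h4
      rw [map_sub, h5, h4]
  ext v
  rw [pow_add, pow_succ, Module.End.mul_apply, Module.End.mul_apply]
  exact hA m _ (h3 _ (hB m v))

variable {Φ} in
theorem lower {u : S.G} (h : Φ.Ev u 1) (k : ℕ) (v : S.V) (hv : v ∈ Φ.W (k + 1)) : u.1 v - v ∈ Φ.W k := by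
  refine (Submodule.span_le (p := (Φ.W k).comap ((u.1 : Module.End S.F S.V) - 1))).2 ?_ hv
  rintro _ ⟨j, hj, rfl⟩
  have := Φ.W_mono (Nat.le_of_lt_succ hj) (h j)
  simpa using this

theorem dec {v : S.V} (hv : v ∈ perp S.B (Φ.W m)) : ∃ x ∈ Φ.W m, ∃ w, Φ.Pp w ∧ v = x + w := by
  have h := H76.KUDg.pp_sub Φ v
  have h1 : ∀ i, S.B (Φ.e i) v = 0 := fun i => hv _ (Φ.e_mem_W i.2)
  simp only [h1, zero_smul, Finset.sum_const_zero, sub_zero] at h
  exact ⟨_, Submodule.sum_mem _ fun i _ => Submodule.smul_mem _ _ (Φ.e_mem_W i.2), _, h,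
    (add_sub_cancel _ _).symm⟩

variable {Φ} in
theorem pp_W {w x : S.V} (hw : Φ.Pp w) {k : ℕ} (hx : x ∈ Φ.W k) : S.B x w = 0 :=
  (mem_perp_span.2 (by rintro _ ⟨i, -, rfl⟩; exact hw.1 i) : w ∈ perp S.B (Φ.W k)) x hx

variable {Φ} in
theorem W_W {x y : S.V} {k l : ℕ} (hx : x ∈ Φ.W k) (hy : y ∈ Φ.W l) : S.B x y = 0 :=
  (mem_perp_span.2 (by rintro _ ⟨i, -, rfl⟩; exact Φ.e_W i hy) : y ∈ perp S.B (Φ.W k)) x hx

theorem jobUp (hP : JobPp) : JobUp := by
  intro S m Φ hn u hu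
  have hu' : Φ.Ev u⁻¹ 1 := by simpa using hu.inv
  have hW : ∀ v ∈ Φ.W m, u.1 v - v ∈ Φ.W m := fun v hv => sub_mem (hu.map_W m hv) hv
  suffices h3 : ∀ v ∈ perp S.B (Φ.W m), u.1 v - v ∈ Φ.W m from
    ⟨_, Subtype.ext (pow_eq_one u.1 _ (nil Φ u.2.1 (lower hu) (lower hu') h3))⟩
  by_cases h0 : ∀ w, Φ.Pp w → w = 0
  · intro v hv
    obtain ⟨x, hx, w, hw, rfl⟩ := dec Φ hv
    rw [h0 w hw, add_zero]
    exact hW x hx
  push Not at h0
  obtain ⟨w, hw1, hw0⟩ := h0
  obtain ⟨-, h1, h2⟩ := hP S m Φ hn w hw1 hw0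
  have huw : u.1 w ∈ perp S.B (Φ.W m) := by
    intro x hx
    have h5 := u.2.1 ((u⁻¹).1 x) w
    rw [pp_W hw1 (hu'.map_W m hx), Subgroup.coe_inv, LinearEquiv.coe_inv,
      LinearEquiv.apply_symm_apply] at h5
    exact h5
  obtain ⟨x, hx, w', hw', hc⟩ := dec Φ huw
  obtain ⟨c, rfl⟩ := h2 w' hw'
  have hN : frob S.hF c * c = 1 := by
    have := u.2.1 w w
    rw [hc] at this
    simp only [map_add, LinearMap.add_apply, form_smul_left, form_smul_right, W_W hx hx, pp_W hw1 hx,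
      S.h.eq_zero_comm.1 (pp_W hw1 hx), mul_zero, zero_add] at this
    exact mul_right_cancel₀ h1 (by linear_combination this)
  have hc0 : c ≠ 0 := by rintro rfl; simp at hN
  obtain ⟨r, hr, rd, rw'⟩ := S.h.exists_qrefl h1 (l := c⁻¹) (by rw [map_inv₀, ← mul_inv, hN, inv_one])
  have hrW : ∀ {k : ℕ} {v : S.V}, v ∈ Φ.W k → r v = v := fun hv =>
    axisGrp_apply_of_perp hr (S.h.eq_zero_comm.1 (pp_W hw1 hv))
  have hrW' : ∀ {k : ℕ} {v : S.V}, v ∈ Φ.W k → r⁻¹ v = v := fun hv =>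
    axisGrp_apply_of_perp (inv_mem hr) (S.h.eq_zero_comm.1 (pp_W hw1 hv))
  have key := pow_eq_one (u.1 * r) _ (nil Φ (mul_mem u.2.1 hr.1) (fun k v hv => by
      rw [LinearEquiv.mul_apply, hrW hv]; exact lower hu k v hv) (fun k v hv => by
      rw [mul_inv_rev, LinearEquiv.mul_apply, ← Subgroup.coe_inv, hrW' (hu'.map_W _ hv)]
      exact lower hu' k v hv) fun v hv => by
      obtain ⟨y, hy, w', hw', rfl⟩ := dec Φ hv
      obtain ⟨d, rfl⟩ := h2 w' hw'
      rw [LinearEquiv.mul_apply, map_add, hrW hy, map_smul, rw', map_add, map_smul, map_smul, hc]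
      convert add_mem (hW y hy) (Submodule.smul_mem _ (d * c⁻¹) hx) using 1
      rw [smul_add, smul_smul c⁻¹ c, inv_mul_cancel₀ hc0]
      module)
  have h3 : LinearEquiv.det u.1 = 1 := u.2.2
  have h4 := congrArg (fun g => ((LinearEquiv.det g : S.Fˣ) : S.F)) key
  simp only [map_pow, map_mul, h3, one_mul, map_one, Units.val_pow_eq_pow_val, rd, Units.val_one] at h4
  have hp : (ringChar S.F).Prime := CharP.char_is_prime S.F _
  have := Fact.mk hp
  have h5 : c⁻¹ = 1 := by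
    have h6 := sub_pow_char_pow (p := ringChar S.F) (n := m + 1 + m) c⁻¹ 1
    rw [h4, one_pow, sub_self] at h6
    exact sub_eq_zero.1 (pow_eq_zero_iff (pow_pos hp.pos _).ne' |>.1 h6)
  rw [inv_eq_one.1 h5, one_smul] at hc
  intro v hv
  obtain ⟨y, hy, w', hw', rfl⟩ := dec Φ hv
  obtain ⟨d, rfl⟩ := h2 w' hw'
  rw [map_add, map_smul, hc]
  convert add_mem (hW y hy) (Submodule.smul_mem _ d hx) using 1
  module

end H76.KUUp
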