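import Cfsg.Agent.H54.YSSpec

/-! STD-SP endgame, slot GN: `Sp(q²)` is generated by two conjugates of `Sp(q)`. -/

set_option autoImplicit false
set_option linter.unusedSectionVars false

namespace H76.YSGN

open H64.SG (O2 Syl Cz Cs Ns cjs Is2 Inv2 IsO2 fx)
open Subgroup H67.SP H64.YE H54.YS
open H67.UA hiding Par Base FV FW
open H67.SA (cm St la)
open H86.SPI (hf_smul_right' ac_TT TT_conj EE_mul' EE_sq TT_mul hf_self hf_comm TT_add_smul ok)

section K

variable {n : ℕ} {K : Type} [Field K] [StarRing K] [TrivialStar K] [CharP K 2] [Finite K] [Par n K]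
  {A : Subgroup (XU n K)} {y w r z v : Vn n K}

theorem cj {g : XU n K} (hg : g ∈ A) (hy : TT y ∈ A) : TT (ac g y) ∈ A :=
  TT_conj g y ▸ A.mul_mem (A.mul_mem hg hy) (A.inv_mem hg)

theorem step1 (hw : ∀ s : K, TT (s • w) ∈ A) (hy : TT y ∈ A) (h : hf y w ≠ 0) (s : K) :
    TT (y + s • w) ∈ A := by
  obtain ⟨t, ht⟩ : IsSquare (s / hf y w) :=
    FiniteField.isSquare_of_char_two (ringChar.eq K 2) _
  have := cj (hw t) hy
  rw [ac_TT, hf_smul_right', smul_smul] at this
  have e : t * hf y w * t = s := by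
    rw [mul_right_comm, ← ht, div_mul_cancel₀ _ h]
  rwa [e] at this

theorem step2 (hw : ∀ s : K, TT (s • w) ∈ A) (hr : ∀ s : K, TT (s • r) ∈ A)
    (hwr : ∀ s : K, TT (s • (w + r)) ∈ A) (h0 : hf w r = 0) (hy : TT y ∈ A) (h : hf y r ≠ 0)
    (s : K) : TT (y + s • w) ∈ A := by
  by_cases h1 : hf y w = 0
  · have h2 := step1 hwr hy (by rw [hf_add_right, h1, zero_add]; exact h) s
    have h3 := step1 hr h2 (by
      rw [hf_add_left, hf_smul_left, hf_add_left, h0, hf_self, add_zero, mul_zero, add_zero]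
      exact h) s
    rwa [smul_add, add_assoc, add_assoc, v_add_self, add_zero] at h3
  · exact step1 hw hy h1 s

theorem TT_TT (h : hf v z = 0) : TT v * TT (v + z) = EE z v 1 := by
  rw [TT_mul (by rw [hf_add_right, hf_self, h, add_zero]), ← add_assoc, v_add_self, zero_add]
  have e : qq (v + z) v = qq v z := by
    have := EE_shift (1 : K) v z 0
    rw [one_smul, tr_eq_zero.2 (star_trivial _), add_zero, add_comm] at this
    rw [qq, this]; exact qq_comm z v
  rw [e, EE_mul' (hf_zero_left _) h, zero_add, hf_zero_right, add_zero, add_zero]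

theorem tri (h1 : hf v z = 0) (h2 : hf w z = 0) (h3 : hf w v = 0) (a1 : EE z v 1 ∈ A)
    (a2 : EE z w 1 ∈ A) (a3 : EE z (v + w) 1 ∈ A) : TT z ∈ A := by
  have h4 : hf (v + w) z = 0 := by rw [hf_add_left, h1, h2, add_zero]
  have := A.mul_mem (A.mul_mem a1 a2) a3
  rwa [EE_mul' h1 h2, EE_mul' h4 h4, v_add_self, h3, hf_self, CharTwo.add_self_eq_zero, add_zero,
    add_zero, zero_add] at this

theorem li0 (i : Fin (n + 1)) (hi : i ≠ 0) (h : v i ≠ 0) : Li (ev 0) v := fun a b e => by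
  have h1 := congrFun e i
  simp only [Pi.add_apply, Pi.smul_apply, smul_eq_mul, ev_apply, if_neg hi, mul_zero, zero_add,
    Pi.zero_apply] at h1
  have hb : b = 0 := (mul_eq_zero.1 h1).resolve_right h
  rw [hb, zero_smul, add_zero] at e
  exact ⟨(smul_eq_zero.1 e).resolve_right (ev_ne 0), hb⟩

end K

section Q

variable {F K : Type} [Field F] [Finite F] [Field K] [CharP K 2] [Finite K] (x : Qx F K)

theorem exists_c : ∃ c : K, x.σ c ≠ c := by
  by_contra h
  push Not at h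
  have h1 : Function.Surjective x.φ := fun a => (x.fix a).1 (h a)
  have h2 := Nat.card_le_card_of_surjective _ h1
  have h3 : 1 < Nat.card F := Finite.one_lt_card
  rw [x.card] at h2
  nlinarith

theorem dec {c : K} (hc : x.σ c ≠ c) (s : K) : ∃ a b : F, s = x.φ a + x.φ b * c := by
  have h2 : (2 : K) = 0 := CharTwo.two_eq_zero
  have hd : c + x.σ c ≠ 0 := fun e => hc (by linear_combination e - c * h2)
  obtain ⟨b, hb⟩ := (x.fix ((s + x.σ s) / (c + x.σ c))).1 (by
    rw [map_div₀, map_add, map_add, x.sq, x.sq, add_comm (x.σ s), add_comm (x.σ c)])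
  have hb' : x.φ b * (c + x.σ c) = s + x.σ s := by rw [hb, div_mul_cancel₀ _ hd]
  obtain ⟨a, ha⟩ := (x.fix (s + x.φ b * c)).1 (by
    rw [map_add, map_mul, (x.fix _).2 ⟨b, rfl⟩]
    linear_combination hb' + (x.σ s - x.φ b * c) * h2)
  exact ⟨a, b, by rw [ha]; linear_combination -(x.φ b * c) * h2⟩

end Q

section T

variable {n : ℕ} {F : Type} [Field F] [StarRing F] [TrivialStar F] [CharP F 2] [Finite F]
  {K : Type} [Field K] [StarRing K] [TrivialStar K] [CharP K 2] [Finite K] [p : Par n F] [Par n K]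
  [Base n F] [Base n K] (x : Qx F K)

theorem gen {c : K} (hc : x.σ c ≠ c) {A : Subgroup (XU n K)} (hA : ∀ g, iT n x g ∈ A)
    (h : TT (ev 1 + c • ev 0) ∈ A) : A = ⊤ := by
  have five := p.five
  have m1 := H54.SPF.m1 five
  have m2 := H54.SPF.m2 five
  have r0 : ∀ v, TT (vx n x v) ∈ A := fun v => iT_TT n x v ▸ hA _
  have r1 : ∀ u v : Vn n F, hf u v = 0 → Li u v → TT (vx n x v + c • vx n x u) ∈ A := by
    intro u v h0 hl
    obtain ⟨g, g0, g1⟩ := FW.w2 u v h0 hl
    have := cj (hA g) h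
    rwa [ac_add, ac_smul, ← vx_ev n x 0, ← vx_ev n x 1, ac_iT, ac_iT, g0, g1] at this
  have r2 : ∀ v : Vn n F, hf (ev 0) v = 0 → Li (ev 0) v → EE (c • ev 0) (vx n x v) 1 ∈ A := by
    intro v h0 hl
    have := A.mul_mem (r0 v) (r1 _ v h0 hl)
    rwa [TT_TT (by rw [hf_smul_right', hf_vx, hf_symm h0, map_zero, mul_zero]), vx_ev] at this
  have e1 : hf (ev 0 : Vn n F) (ev 1) = 0 := by rw [H54.SPF.hf_evv, if_neg (by simp; omega)]
  have e2 : hf (ev 0 : Vn n F) (ev 2) = 0 := by rw [H54.SPF.hf_evv, if_neg (by simp; omega)]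
  have e3 : hf (ev 2 : Vn n F) (ev 1) = 0 := by
    rw [H54.SPF.hf_evv, if_neg (by simp [m1, m2]; omega)]
  have n1 : (1 : Fin (n + 1)) ≠ 0 := fun e => by simp [Fin.ext_iff, m1] at e
  have n2 : (2 : Fin (n + 1)) ≠ 0 := fun e => by simp [Fin.ext_iff, m2] at e
  have n3 : (1 : Fin (n + 1)) ≠ 2 := fun e => by simp [Fin.ext_iff, m1, m2] at e
  have pz : ∀ v : Vn n F, hf (ev 0) v = 0 → hf (vx n x v) (c • ev 0) = 0 := fun v h0 => by
    rw [hf_smul_right', ← vx_ev n x 0, hf_vx, hf_symm h0, map_zero, mul_zero]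
  have r3 : TT (c • ev 0) ∈ A :=
    tri (pz _ e1) (pz _ e2) (by rw [hf_vx, e3, map_zero])
      (r2 _ e1 (li0 1 n1 (by simp [ev_apply]))) (r2 _ e2 (li0 2 n2 (by simp [ev_apply])))
      (vx_add n x _ _ ▸ r2 _ (by rw [hf_add_right, e1, e2, add_zero])
        (li0 1 n1 (by simp [ev_apply, n3])))
  have r4 : ∀ u : Vn n F, TT (c • vx n x u) ∈ A := by
    intro u
    by_cases hu : u = 0
    · rw [hu, vx_zero, smul_zero, H86.SPI.TT_zero]; exact A.one_mem
    · obtain ⟨g, g0⟩ := FW.w1 u hu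
      have := cj (hA g) r3
      rwa [ac_smul, ← vx_ev n x 0, ac_iT, g0] at this
  have r5 : ∀ (u : Vn n F) (s : K), TT (s • vx n x u) ∈ A := by
    intro u s
    obtain ⟨a, b, rfl⟩ := dec x hc s
    have := A.mul_mem (r0 (a • u)) (r4 (b • u))
    rwa [vx_smul, vx_smul, smul_smul, TT_add_smul, mul_comm c] at this
  refine FW.genT A fun y => ?_
  by_cases hy : y = 0
  · rw [hy, H86.SPI.TT_zero]; exact A.one_mem
  obtain ⟨i, hi⟩ := Function.ne_iff.1 hy
  choose α β hαβ using fun j => dec x hc (y j)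
  have st : ∀ (w : Vn n F) (z : Vn n K) (s : K), w i = 0 → TT z ∈ A → z i ≠ 0 →
      TT (z + s • vx n x w) ∈ A := fun w z s hw hz hz' =>
    step2 (r := vx n x (ev i.rev)) (r5 w) (r5 _) (vx_add n x _ _ ▸ r5 _)
      (by rw [hf_vx, hf_ev_right, Fin.rev_rev, hw, map_zero]) hz
      (by rwa [vx_ev, hf_ev_right, Fin.rev_rev]) s
  have a0 := r5 (ev i) (y i)
  have a1 := st (Function.update α i 0) _ 1 (by simp) a0 (by simpa [vx, ev_apply] using hi)
  have a2 := st (Function.update β i 0) _ c (by simp) a1 (by simpa [vx, ev_apply] using hi)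
  convert a2 using 2
  ext j
  by_cases hj : j = i
  · subst hj; simp [vx, ev_apply]
  · simp [vx, ev_apply, hj, hαβ j, mul_comm c]

end T

theorem jobGN : JobGN := by
  intro n F _ _ _ _ _ p _ _ _ _ K _ _ _ _ _ _ _ _ _ _ x
  have five := p.five
  have m1 := H54.SPF.m1 five
  obtain ⟨c, hc⟩ := exists_c x
  obtain ⟨d, hd⟩ := (x.fix (c + x.σ c)).1 (by rw [map_add, x.sq, add_comm])
  have e0 : ∀ (L : Type) [Field L] [StarRing L] [TrivialStar L] (s : L),
      hf (s • ev (1 : Fin (n + 1)).rev : Vn n L) (ev 0) = 0 := fun L _ _ _ s => by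
    rw [hf_smul_left, hf_ev, if_neg, mul_zero]
    rw [Fin.rev_rev]; intro e; simp [Fin.ext_iff, m1] at e
  refine ⟨EE (ev 0) (c • ev (1 : Fin (n + 1)).rev) 0, EE (ev 0) (d • ev (1 : Fin (n + 1)).rev) 0,
    ?_, gen x hc (fun g => mem_sup_left ⟨g, rfl⟩) ?_⟩
  · have s0 : ∀ i : Fin (n + 1), (fun j => x.σ ((ev i : Vn n K) j)) = ev i := fun i => funext fun j => by
      simp only [ev_apply]; split_ifs <;> simp
    have s1 : (fun j => x.σ ((c • ev (1 : Fin (n + 1)).rev : Vn n K) j)) =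
        x.σ c • ev (1 : Fin (n + 1)).rev := funext fun j => by
      simp only [Pi.smul_apply, smul_eq_mul, map_mul, ev_apply]; split_ifs <;> simp
    rw [FA.fs_EE _ _ _ _ (e0 K c), s0, s1, map_zero, inv_eq_of_mul_eq_one_right (EE_sq (e0 K _) 0),
      EE_mul' (e0 K _) (e0 K _), iT_EE n x (e0 F d), vx_ev, vx_smul, vx_ev, hd, map_zero,
      hf_smul_left, hf_smul_right', hf_self, add_smul]
    simp
  · have h1 : hf (ev 1 : Vn n K) (ev 0) = 0 := by rw [H54.SPF.hf_evv, if_neg (by simp; omega)]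
    have := mem_sup_right (S := (iT n x).range) (mem_map_of_mem
      (MulAut.conj (EE (ev 0) (c • ev (1 : Fin (n + 1)).rev) 0)).toMonoidHom
      (K := (iT n x).range) ⟨TT (ev 1), rfl⟩)
    simp only [MulEquiv.toMonoidHom_eq_coe, MonoidHom.coe_coe, MulAut.conj_apply] at this
    rwa [iT_TT, vx_ev, TT_conj, ac_EE_perp (ok (e0 K c) 0) h1, hf_smul_right', hf_ev, if_pos rfl,
      mul_one] at this

end H76.YSGN
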