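/- S3275, chapter U2F, job KK: the groups `T F`. -/
import Cfsg.Agent.H57.U2CSpec

set_option autoImplicit false

namespace H76.U2CKK

open Subgroup Cfsg H98 H48.DP H57.DPC H48.DP2 H57.U2C
open scoped commutatorElement

universe u

theorem kk : KK.{u} := by
  intro G _ _ T Q F h
  have : Fact (Nat.Prime 3) := ⟨Nat.prime_three⟩
  have one : ∀ {P : Subgroup G}, IsPGroup 2 P → ∀ {f : G}, f ∈ F → f ∈ P → f = 1 :=
    fun hP _ h1 h2 => disjoint_def.1 (IsPGroup.disjoint_of_ne 2 3 (by decide) _ F hP h.F3) h2 h1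
  have dq : ∀ {n : G}, n ∈ Q ⊔ F → ∃ f ∈ F, ∃ q ∈ Q, n = f * q := fun hn =>
    (mem_sup_left_norm h.FQ).1 (sup_comm Q F ▸ hn)
  have nf : ∀ k ∈ T ⊔ F, ∃ f ∈ F, ∃ t ∈ T, k = f * t := fun k hk => by
    obtain ⟨n, hn, t, ht, rfl⟩ := (mem_sup_right_norm h.TF).1
      (SetLike.le_def.1 (sup_le le_sup_right (le_sup_right.trans le_sup_left)) hk)
    obtain ⟨f, hf, q, hq, rfl⟩ := dq hn
    exact ⟨f, hf, q * t, mul_mem (h.le hq) ht, mul_assoc ..⟩
  have card : Nat.card ↥(T ⊔ F) = Nat.card T * Nat.card F := by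
    rw [mul_comm, ← Nat.card_prod]
    refine (Nat.card_eq_of_bijective (fun x : F × T => (⟨x.1 * x.2,
      mul_mem (mem_sup_right x.1.2) (mem_sup_left x.2.2)⟩ : ↥(T ⊔ F))) ⟨?_, fun k => ?_⟩).symm
    · rintro ⟨f, t⟩ ⟨f', t'⟩ e
      have e1 : (f : G) * t = f' * t' := congrArg Subtype.val e
      have e2 : (f' : G)⁻¹ * f = 1 := one h.T2 (mul_mem (inv_mem f'.2) f.2) (by
        rw [show (f' : G)⁻¹ * f = t' * (t : G)⁻¹ by
          rw [inv_mul_eq_iff_eq_mul, ← mul_assoc, ← e1, mul_inv_cancel_right]]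
        exact mul_mem t'.2 (inv_mem t.2))
      have e3 : (f' : G) = f := inv_mul_eq_one.1 e2
      rw [e3, mul_right_inj] at e1
      exact Prod.ext (Subtype.ext e3.symm) (Subtype.ext e1)
    · obtain ⟨f, hf, t, ht, e⟩ := nf k k.2
      exact ⟨(⟨f, hf⟩, ⟨t, ht⟩), Subtype.ext e.symm⟩
  refine ⟨nf, ⟨le_sup_left, h.T2, fun P hP h1 h2 => le_antisymm (fun g hg => ?_) h1⟩, card,
    le_antisymm (fun g hg => ?_) (le_inf h.le le_sup_left), fun N hN h3 => ?_,
    fun t ht h1 => ?_, fun t ht => ?_⟩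
  · obtain ⟨f, hf, t, ht, rfl⟩ := nf g (h2 hg)
    rwa [one hP hf ((mul_mem_cancel_right (h1 ht)).1 hg), one_mul]
  · obtain ⟨f, hf, q, hq, rfl⟩ := dq hg.2
    rwa [one h.T2 hf ((mul_mem_cancel_right (h.le hq)).1 hg.1), one_mul]
  · obtain ⟨a, ha⟩ := h.T2.exists_card_eq
    obtain ⟨b, hb⟩ := h.F3.exists_card_eq
    have h4 := card_dvd_of_le hN
    rw [card, ha, hb] at h4
    refine IsPGroup.of_card_dvd_pow (n := a) (Nat.Coprime.dvd_of_dvd_mul_right
      ((Nat.prime_three.coprime_iff_not_dvd.2 fun k => ?_).symm.pow_right b) h4)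
    obtain ⟨x, hx⟩ := exists_prime_orderOf_dvd_card' (G := N) 3 k
    exact h3 x x.2 (by rw [orderOf_coe, hx])
  · have nS : T ⊔ F ≤ No (stab (Q ⊔ F) Q) := le_normalizer_stab
      (sup_le h.TF (le_sup_right.trans le_normalizer)) (sup_le h.TQ h.FQ)
    refine le_pCoreOf (A := T ⊓ stab (Q ⊔ F) Q) (h.T2.to_le inf_le_left)
      (inf_le_left.trans le_sup_left) (sup_le (le_normalizer_inf le_normalizer
        (le_sup_left.trans nS)) fun f hf => mem_normalizer_fintype fun s hs =>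
          ⟨?_, conj_mem_of_mem_normalizer (nS (mem_sup_right hf)) hs.2⟩) ⟨ht, h.TQ ht, fun c hc => ?_⟩
    · have := mul_mem (h.le (hs.2.2 f (mem_sup_right hf))) hs.1
      rwa [commutatorElement_def, inv_mul_cancel_right] at this
    · obtain ⟨f, hf, q, hq, rfl⟩ := dq hc
      have := mul_mem (conj_mem_of_mem_normalizer (h.FQ hf)
        (mul_mem hq (conj_mem_of_mem_normalizer (h.TQ ht) (inv_mem hq)))) (h1 f hf)
      convert this using 1
      simp only [commutatorElement_def]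
      group
  have ex : ∀ f : F, ∃ g : F, (g : G)⁻¹ * (t * f * t⁻¹) ∈ Q := fun f => by
    obtain ⟨g, hg, q, hq, e⟩ := dq (conj_mem_of_mem_normalizer (h.TF ht) (mem_sup_right f.2))
    exact ⟨⟨g, hg⟩, by rwa [e, inv_mul_cancel_left]⟩
  choose g hg using ex
  have un : ∀ (a b : F) (x : G), (a : G)⁻¹ * x ∈ Q → (b : G)⁻¹ * x ∈ Q → a = b :=
    fun a b x h1 h2 => Subtype.ext (inv_mul_eq_one.1 (one h.T2 (mul_mem (inv_mem a.2) b.2)
      (h.le (by simpa [mul_assoc] using mul_mem h1 (inv_mem h2)))))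
  let ψ : F →* F := MonoidHom.mk' g fun a b => un _ _ _ (hg (a * b)) (by
    have := mul_mem (conj_mem_of_mem_normalizer' (h.FQ (g b).2) (hg a)) (hg b)
    convert this using 1
    simp only [Subgroup.coe_mul]
    group)
  have inj : Function.Injective ψ := (injective_iff_map_eq_one ψ).2 fun f hf => by
    have h1 := hg f
    rw [show g f = 1 from hf, OneMemClass.coe_one, inv_one, one_mul] at h1
    exact Subtype.ext (one h.T2 f.2 (by
      simpa [mul_assoc] using mul_mem (mul_mem (inv_mem ht) (h.le h1)) ht))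
  exact ⟨MulEquiv.ofBijective ψ (Finite.injective_iff_bijective.1 inj), hg⟩

end H76.U2CKK
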