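import Cfsg.Agent.H67.SWDef
import Cfsg.Agent.H84.SfSW

/-! STD-SP, wreath endgame: `JobSW`. -/

set_option autoImplicit false
set_option linter.unusedSectionVars false

namespace H76.SPWSW

open H64.SG (O2 Syl Cz Cs Ns cjs Is2 Inv2 fx mem_Cs mem_Cz mem_fx)
open H59.SO Subgroup Function H98
open H67.SW (WG)
open H84.SfW (ab_card map_le_Cz)
open H86.WR (card_comap_e)

universe u

variable {X : Type} [Group X] [Finite X] {G : Type u} [Group G] [Finite G] {e e₁ e₂ : X →* G}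
  {t : G} {U D A : Subgroup X} {β : MulAut X}

theorem card_le (wg : WG U D A) (hk : Injective e) {P : Subgroup G} (h2 : IsPGroup 2 P) :
    Nat.card ↥(P ⊓ e.range) ≤ Nat.card U := by
  rw [← card_comap_e hk]
  exact (H64.SG.syl_iff.1 wg.syl).card_le (isP_comap hk h2) le_top

theorem inner_sz (wg : WG U D A) {a : X} (h : MulAut.conj a * MulAut.conj a = 1) :
    ∃ P ≤ fx (MulAut.conj a), IsPGroup 2 P ∧
      (2 * Nat.card (Cfsg.Out X)) ^ 2 * Nat.card U < Nat.card P ^ 2 := by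
  rw [H64.SG.fx_conj]
  exact wg.sz a (wg.ns.cen _ (by rw [map_mul, h]))

theorem any_sz (wg : WG U D A) (h : β * β = 1) :
    ∃ P ≤ fx β, IsPGroup 2 P ∧ Nat.card U ≤ Nat.card P ^ 2 := by
  by_cases k : ∃ a, β = MulAut.conj a
  · obtain ⟨a, rfl⟩ := k
    obtain ⟨P, p1, p2, p3⟩ := inner_sz wg h
    have : Finite (Cfsg.Out X) := Finite.of_surjective _ (QuotientGroup.mk'_surjective _)
    have h0 : 0 < Nat.card (Cfsg.Out X) := Nat.card_pos
    exact ⟨P, p1, p2, (Nat.le_mul_of_pos_left _ (by positivity)).trans p3.le⟩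
  · exact (wg.ft β h (not_exists.1 k)).2

/-- Two commuting subgroups whose join is a large `2`-group. -/
theorem small (wg : WG U D A) {P Q : Subgroup X} (h2 : IsPGroup 2 ↥(P ⊔ Q))
    (hc : Nat.card U ≤ Nat.card ↥(P ⊔ Q)) (h : P ≤ Cs Q) :
    Nat.card P ^ 2 < Nat.card U ∨ Nat.card Q ^ 2 < Nat.card U := by
  obtain ⟨g, -, hg⟩ := (H64.SG.syl_iff.1 wg.syl).exists_le_cj h2 le_top
  replace hg : cj g⁻¹ (P ⊔ Q) ≤ U := cj_le_iff.2 (by rwa [inv_inv])
  have e1 : cj g⁻¹ (P ⊔ Q) = U := eq_of_le_of_card_ge hg (by rwa [card_cj])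
  rw [cj_sup] at e1
  have l1 : cj g⁻¹ P ≤ U := e1 ▸ le_sup_left
  have l2 : cj g⁻¹ Q ≤ U := e1 ▸ le_sup_right
  have key : ∀ R : Subgroup X, cj g⁻¹ R ≤ U → cj g⁻¹ R ≤ Cs U → Nat.card R ^ 2 < Nat.card U :=
    fun R r1 r2 => lt_of_le_of_lt (Nat.pow_le_pow_left
      ((card_cj g⁻¹ R).ge.trans (card_le_of_le (le_inf r1 r2))) 2) wg.zc
  exact (wg.ind _ l1 _ l2 e1.ge ((cj_mono _ h).trans (cj_centralizer _ _).le)).imp (key P l1)
    (key Q l2)

section SW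

variable (wg : WG U D A) (c : CW e t e₁ e₂) {e' : X →* G} {s : G} (h : CE e' s)
  {β₁ β₂ : MulAut X} (i1 : Ind e₁ s β₁) (i2 : Ind e₂ s β₂)
include wg c h i1 i2

theorem sw_inner (a : X) : β₁ ≠ MulAut.conj a := by
  rintro rfl
  obtain ⟨P₁, p1, p2, p3⟩ := inner_sz wg (i1.sq c.inj h.inv.1)
  obtain ⟨P₂, r1, r2, r3⟩ := any_sz wg (i2.sq c.inj₂ h.inv.1)
  have k := (ab_card h wg.ns le_rfl (sup_le (map_le_Cz i1 p1) (map_le_Cz i2 r1))
    (c.isP_sup p2 r2)).trans (Nat.mul_le_mul_left _ (card_le wg h.inj (c.isP_sup p2 r2)))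
  rw [c.card_sup wg.ns] at k
  have k2 := Nat.pow_le_pow_left k 2
  have u0 : 0 < Nat.card U := Nat.card_pos
  have k3 := Nat.mul_lt_mul_of_lt_of_le p3 r3 (u0.trans_le r3)
  rw [mul_pow] at k2
  exact k3.not_ge (k2.trans (le_of_eq (by ring)))

theorem sw_outer (k1 : ∀ a, β₁ ≠ MulAut.conj a) (k2 : ∀ a, β₂ ≠ MulAut.conj a) : False := by
  obtain ⟨f1, P₁, p1, p2, p3⟩ := wg.ft _ (i1.sq c.inj h.inv.1) k1
  obtain ⟨f2, P₂, r1, r2, r3⟩ := wg.ft _ (i2.sq c.inj₂ h.inv.1) k2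
  have a1 : P₁.map e₁ ≤ e'.range := (map_mono p1).trans (H4.SFAB.pf0 wg.a3 h.b0
    (map_le_Cz i1 le_rfl) (by rw [← map_commutator]; exact map_mono f1))
  have a2 : P₂.map e₂ ≤ e'.range := (map_mono r1).trans (H4.SFAB.pf0 wg.a3 h.b0
    (map_le_Cz i2 le_rfl) (by rw [← map_commutator]; exact map_mono f2))
  have b1 : Nat.card ((P₁.map e₁).comap e') = Nat.card P₁ := by
    rw [card_comap_e h.inj, inf_eq_left.2 a1, card_map_e c.inj]
  have b2 : Nat.card ((P₂.map e₂).comap e') = Nat.card P₂ := by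
    rw [card_comap_e h.inj, inf_eq_left.2 a2, card_map_e c.inj₂]
  have j : (P₁.map e₁).comap e' ⊔ (P₂.map e₂).comap e' = (P₁.map e₁ ⊔ P₂.map e₂).comap e' :=
    comap_sup_eq_of_le_range e' a1 a2
  have := small wg (P := (P₁.map e₁).comap e') (Q := (P₂.map e₂).comap e')
    (j ▸ isP_comap h.inj (c.isP_sup p2 r2)) (by
      rw [j, card_comap_e h.inj, inf_eq_left.2 (sup_le a1 a2), c.card_sup wg.ns]
      refine (Nat.pow_le_pow_iff_left two_ne_zero).1 ?_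
      rw [mul_pow, pow_two]
      exact Nat.mul_le_mul p3 r3)
    (fun a ha b hb => (e_comm_iff h.inj).1
      (c.le_Cs' (map_le_range _ _ ha) _ (map_le_range _ _ hb)))
  rw [b1, b2] at this
  omega

end SW

theorem jobSW : H67.SW.JobSW.{u} := by
  intro X _ _ U D A wg G _ _ e t h e₁ e₂ c s hs hc
  refine (((H67.SW.w0 X U D A wg G e t h e₁ e₂ c).pm s hs).resolve_left fun k => ?_).1
  obtain ⟨g, rfl⟩ := isConj_iff.1 hc
  obtain ⟨β₁, i1⟩ := exists_ind c.inj k.1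
  obtain ⟨β₂, i2⟩ := exists_ind c.inj₂ k.2
  exact sw_outer wg c (h.cje g) i1 i2 (sw_inner wg c (h.cje g) i1 i2)
    (sw_inner wg (c.symm h.inv.1) (h.cje g) i2 i1)

end H76.SPWSW
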