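import Cfsg.Agent.Base
import Cfsg.Agent.H46.Coprime
import Cfsg.Agent.H46.Nil
import Cfsg.Agent.H46.Quo
import Cfsg.Agent.H51.Api2

/-! Bender's lemma on invariant `q`-subgroups (S1481). -/

set_option autoImplicit false

namespace H76.BI

open Cfsg hiding pRank
open H46 Subgroup

universe u
variable {G : Type u} [Group G] [Finite G] {H M R Y : Subgroup G}

theorem inf_eq_bot (hM : M ≤ fittingOf H) (hCM : fittingOf H ⊓ Cent M ≤ M)
    (hR : Group.IsSolvable R) (hXR : H ⊓ Cent (fittingOf H) ≤ Nrm R) (hY : Y ≤ R)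
    (hMY : M ≤ Nrm Y) (hc : (Nat.card Y).Coprime (Nat.card (fittingOf H))) : H ⊓ Y = ⊥ := by
  set F := fittingOf H with hF
  have hFH : F ⊴ H := fittingOf_normalIn H
  have hMH : M ≤ H := hM.trans hFH.1
  have hYF : Y ⊓ F = ⊥ := inf_eq_bot_of_coprime' hc
  have h1 : H ⊓ Y ≤ Cent M := by
    rw [← H46.commutator_eq_bot_iff, eq_bot_iff, ← hYF]
    refine le_inf ((commutator_le_left' (nrm_inf (hMH.trans le_nrm_self) hMY)).trans inf_le_right) ?_
    exact (commutator_mono le_rfl hM).trans (commutator_le_right' (inf_le_left.trans hFH.2))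
  have h2 : H ⊓ Y ≤ Cent F := by
    have hMC : M ≤ F ⊓ Cent (H ⊓ Y) := le_inf hM (le_cent_symm h1)
    exact coprime_nil_faithful_cent_stab (fittingOf_nil H) (inf_le_left.trans hFH.2)
      (coprime_of_le hc inf_le_right le_rfl)
      (((inf_le_inf_left _ (cent_anti hMC)).trans hCM).trans hMC)
  have hW : (H ⊓ Cent F) ⊓ R ⊴ H ⊓ Cent F := normalIn_inf_of_nrm hXR
  have hWF : fittingOf ((H ⊓ Cent F) ⊓ R) ≤ F := hW.fittingOf_le.trans hFH.cent.fittingOf_le
  have h3 : (H ⊓ Cent F) ⊓ R ≤ F :=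
    ((le_inf le_rfl ((inf_le_left.trans inf_le_right).trans (cent_anti hWF))).trans
      (cent_fittingOf_le (sol_of_le hR inf_le_right))).trans hWF
  rw [eq_bot_iff, ← hYF]
  exact le_inf inf_le_right ((le_inf (le_inf inf_le_left h2) (inf_le_right.trans hY)).trans h3)

theorem exists_Z (hHmax : ∀ L : Subgroup G, IsLocalSubgroup L → H ≤ L → L = H)
    {r : ℕ} (hr : r.Prime) (hd : r ∣ Nat.card (fittingOf H)) :
    ∃ Z : Subgroup G, IsPGroup r Z ∧ Z ≤ fittingOf H ⊓ Cent (fittingOf H) ∧ Nrm Z = H := by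
  set F := fittingOf H with hF
  have hFH : F ⊴ H := fittingOf_normalIn H
  have h1 : Op r F ≠ ⊥ := fun e => by
    have := (nil_piCoreOf_hall {r} (fittingOf_nil H)).not_dvd hr
    rw [show piCoreOf {r} (fittingOf H) = ⊥ from e, relIndex_bot_left] at this
    exact this hd
  have h2 := nil_meet_zc (fittingOf_nil H) (piCoreOf_normalIn {r} F) h1
  have h3 : IsPGroup r ↥(Op r F ⊓ Zc F) := (isPGroup_Op hr F).to_inf_left
  exact ⟨_, h3, inf_le_right, hHmax _ ⟨r, _, hr, h3, h2, rfl⟩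
    (nrm_inf (nrm_piCoreOf _ hFH.2) (nrm_inf hFH.2 (nrm_cent hFH.2)))⟩

theorem le_core (hHmax : ∀ L : Subgroup G, IsLocalSubgroup L → H ≤ L → L = H)
    (hF2 : 2 ≤ (Nat.card (fittingOf H)).primeFactors.card)
    (hM : M ≤ fittingOf H) (hCM : fittingOf H ⊓ Cent M ≤ M)
    (hR : Group.IsSolvable R) (hMR : M ≤ Nrm R) (hXR : H ⊓ Cent (fittingOf H) ≤ Nrm R) (hY : Y ≤ R)
    (hMY : M ≤ Nrm Y) (hc : (Nat.card Y).Coprime (Nat.card (fittingOf H))) :
    Y ≤ piCoreOf (primesNotDvd (Nat.card (fittingOf H))) R := by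
  have hHY := inf_eq_bot hM hCM hR hXR hY hMY hc
  set F := fittingOf H with hF
  have hFH : F ⊴ H := fittingOf_normalIn H
  have hZM : F ⊓ Cent F ≤ M := (inf_le_inf_left _ (cent_anti hM)).trans hCM
  have hL : Group.IsSolvable ↥(R ⊔ M) := by
    have := nil_of_le_fittingOf hM
    exact sol_sup hMR hR inferInstance
  have key : ∀ s, s.Prime → s ∣ Nat.card F → Y ≤ Op' s (R ⊔ M) := by
    intro s hs hsd
    obtain ⟨r, hr, hrs⟩ := Finset.exists_mem_ne (s := (Nat.card F).primeFactors) hF2 s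
    have hrp := Nat.prime_of_mem_primeFactors hr
    obtain ⟨Zr, hr1, hr2, hr3⟩ := exists_Z hHmax hrp (Nat.dvd_of_mem_primeFactors hr)
    obtain ⟨Zs, hs1, hs2, hs3⟩ := exists_Z hHmax hs hsd
    have e1 : Zr ≤ Op' s ((R ⊔ M) ⊓ Cent Zs) := by
      refine le_piCoreOf ((isPi_of_isPGroup hrp hr1).mono ?_) ⟨le_inf
        ((hr2.trans hZM).trans le_sup_right) ((hr2.trans inf_le_right).trans
          (cent_anti (hs2.trans inf_le_left))), ?_⟩
      · rintro _ rfl; exact hrs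
      · rw [hr3, ← hs3]; exact inf_le_right.trans (cent_le_nrm _)
    have e2 := e1.trans (H51.p'core_cent_le hs hL ((hs2.trans hZM).trans le_sup_right) hs1)
    have e3 : ⁅Y, Zr⁆ = Y := by
      refine coprime_commutator_eq_self ((hr2.trans hZM).trans hMY)
        (coprime_of_le hc.symm (hr2.trans inf_le_left) le_rfl) (Or.inr (sol_of_le hR hY)) ?_
      rw [eq_bot_iff, ← hHY, ← hr3]
      exact le_inf (inf_le_right.trans (cent_le_nrm _)) inf_le_left
    rw [← e3]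
    exact (commutator_mono le_rfl e2).trans
      (commutator_le_right' ((hY.trans le_sup_left).trans (le_nrm_piCoreOf _ _)))
  let K : Subgroup G := R ⊓ ⨅ s : {s : ℕ // s.Prime ∧ s ∣ Nat.card F}, Op' s.1 (R ⊔ M)
  have hYK : Y ≤ K := le_inf hY (le_iInf fun s => key s.1 s.2.1 s.2.2)
  refine hYK.trans (le_piCoreOf (fun t ht htd => ⟨ht, fun htF => ?_⟩) ⟨inf_le_left, ?_⟩)
  · have : K ≤ Op' t (R ⊔ M) := inf_le_right.trans (iInf_le _ (⟨t, ht, htF⟩ :
      {s : ℕ // s.Prime ∧ s ∣ Nat.card F}))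
    exact isPi_piCoreOf _ _ t ht (htd.trans (card_dvd_of_le this)) rfl
  · refine nrm_inf le_nrm_self fun g hg => mem_nrm_of_cj_le (le_iInf fun s => ?_)
    have : g ∈ Nrm (Op' s.1 (R ⊔ M)) := le_nrm_piCoreOf _ _ (mem_sup_left hg)
    rw [← cj_of_mem_nrm this]
    exact map_mono (iInf_le _ s)

theorem result (hHmax : ∀ L : Subgroup G, IsLocalSubgroup L → H ≤ L → L = H)
    (hF2 : 2 ≤ (Nat.card (fittingOf H)).primeFactors.card)
    (hM : M ≤ fittingOf H) (hCM : fittingOf H ⊓ Cent M ≤ M)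
    (hR : Group.IsSolvable R) (hMR : M ≤ Nrm R) (hXR : H ⊓ Cent (fittingOf H) ≤ Nrm R)
    {q : ℕ} (hqp : q.Prime) (hq : ¬ q ∣ Nat.card (fittingOf H)) :
    ∃! Q : Subgroup G, Q ∈ maxInvSubgroups R M {q} ∧
      (∀ Q' : Subgroup G, Q' ∈ maxInvSubgroups R M {q} →
        Q' ≤ piCoreOf (primesNotDvd (Nat.card (fittingOf H))) R ∧
        ¬ q ∣ Q'.relIndex (piCoreOf (primesNotDvd (Nat.card (fittingOf H))) R)) := by
  set K := piCoreOf (primesNotDvd (Nat.card (fittingOf H))) R with hK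
  have hKR : K ≤ R := piCoreOf_le _ _
  have hMK : M ≤ Nrm K := nrm_piCoreOf _ hMR
  have hKc : (Nat.card K).Coprime (Nat.card (fittingOf H)) :=
    Nat.coprime_of_dvd fun t ht h1 => (isPi_piCoreOf _ R t ht h1).2
  have hMKc := coprime_of_le hKc.symm hM le_rfl
  have hs : SolOr M K := Or.inr (sol_of_le hR hKR)
  have hC : K ⊓ Cent M = ⊥ := by
    obtain ⟨r, hr⟩ := Finset.card_pos.1 (lt_of_lt_of_le (by norm_num) hF2)
    obtain ⟨Z, -, h2, h3⟩ := exists_Z hHmax (Nat.prime_of_mem_primeFactors hr)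
      (Nat.dvd_of_mem_primeFactors hr)
    rw [eq_bot_iff, ← inf_eq_bot hM hCM hR hXR hKR hMK hKc, ← h3]
    exact le_inf (inf_le_right.trans ((cent_anti (h2.trans ((inf_le_inf_left _
      (cent_anti hM)).trans hCM))).trans (cent_le_nrm _))) inf_le_left
  obtain ⟨P, hP, hMP⟩ := coprime_Sylow_exists hqp hMK hMKc hs
  have hle : ∀ Y ∈ invSubgroups R M {q}, Y ≤ P := by
    rintro Y ⟨h1, h2, h3⟩
    have hYK : Y ≤ K := le_core hHmax hF2 hM hCM hR hMR hXR h1 h3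
      (Nat.coprime_of_dvd fun t ht h4 h5 => hq (by rw [← show t = q from h2 t ht h4]; exact h5))
    obtain ⟨P', hP', hMP', hYP⟩ := coprime_Sylow_subset hqp hMK hMKc hs hYK
      (IsPi.isPGroup h2 hqp) h3
    obtain ⟨c, hc, e⟩ := coprime_Sylow_trans hqp hMK hMKc hs hP hMP hP' hMP'
    rw [hC, mem_bot] at hc
    rw [hc, cj_one] at e
    exact e ▸ hYP
  have hPi : P ∈ invSubgroups R M {q} := ⟨hP.1.trans hKR, hP.2.1, hMP⟩
  have huniq : ∀ Q ∈ maxInvSubgroups R M {q}, Q = P := fun Q hQ =>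
    (hQ.2 P hPi (hle Q hQ.1)).symm
  refine ⟨P, ⟨⟨hPi, fun Y hY h => le_antisymm (hle Y hY) h⟩, fun Q' hQ' => ?_⟩,
    fun Q hQ => huniq Q hQ.1⟩
  rw [huniq Q' hQ']
  exact ⟨hP.1, hP.not_dvd hqp⟩

end H76.BI
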