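/- Tower DG, job NF: the case that `A` fixes no point. -/
import Cfsg.Agent.H20.DGSpec

set_option autoImplicit false

namespace H76.DGNF

open Subgroup MulAction Cfsg H98 H20.DG

universe u v

theorem card_inf {G : Type*} [Group G] (A H : Subgroup G) :
    Nat.card ↥(A ⊓ H) * H.relIndex A = Nat.card A := by
  have := relIndex_mul_relIndex ⊥ (A ⊓ H) A bot_le inf_le_left
  rwa [relIndex_bot_left, relIndex_bot_left, inf_relIndex_left] at this

theorem jobNF : JobNF.{u, v} := by
  intro G Ω _ _ _ _ p q P A O h b w nf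
  have : Fact p.Prime := ⟨h.pp⟩
  have p1 := h.pp.one_lt
  have orb : Orb Ω A p := fun a => by
    by_cases ha : a ∈ O
    · exact b.inO a ha
    obtain ⟨n, hn⟩ := b.el.isPGroup.index ((stabilizer G a).subgroupOf A)
    have h1 := relIndex_le_of_le_right (H := stabilizer G a) b.le (by rw [b.out a ha]; omega)
    rw [b.out a ha] at h1
    change (stabilizer G a).relIndex A = _ at hn
    refine le_antisymm h1 ?_
    rw [hn]
    refine Nat.le_self_pow (fun e => nf a (relIndex_eq_one.1 ?_)) p
    rw [hn, e, pow_zero]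
  have cP : Nat.card A * p = Nat.card P := by
    have := card_inf P A
    rwa [inf_eq_right.2 b.le, b.idx] at this
  have cA : ∀ a : Ω, Nat.card ↥(A ⊓ stabilizer G a) * p = Nat.card A := fun a => by
    have := card_inf A (stabilizer G a)
    rwa [orb a] at this
  refine ⟨orb, fun g S hS h1 h2 => ?_, ?_⟩
  · obtain ⟨k, -, hk⟩ := b.syl.exists_cj_le hS le_top
    have key : ∀ x : G, cj x A ≤ P → cj x A = A := fun x hx =>
      eq_of_le_of_card_ge (w _ hx (b.el.cj x) (by rw [card_cj, ← cP]; nlinarith)) (card_cj x A).ge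
    have e1 := key k ((cj_mono k h1).trans hk)
    have e2 := key (k * g) (cj_cj k g A ▸ (cj_mono k h2).trans hk)
    exact cj_inj.1 ((cj_cj k g A).trans (e2.trans e1.symm))
  obtain ⟨d, hd⟩ := b.ne
  have key : ∀ a : Ω, ∃ g : G, cj g (A ⊓ stabilizer G a) = A ⊓ stabilizer G d := fun a => by
    obtain ⟨g, hg⟩ := h.trans a d
    obtain ⟨k, -, hk⟩ := (b.sylo d hd).exists_cj_le
      (((b.el.mono (inf_le_left (b := stabilizer G a))).cj g).isPGroup)
      ((cj_mono g inf_le_right).trans (by rw [cj_stab, hg]))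
    rw [cj_cj] at hk
    refine ⟨k * g, eq_of_le_of_card_ge (le_inf (w _ (hk.trans inf_le_left)
      ((b.el.mono inf_le_left).cj _) ?_) (hk.trans inf_le_right)) ?_⟩
    · rw [card_cj, ← cP, ← cA a]
      exact le_of_eq (by ring)
    · rw [card_cj]
      exact (Nat.eq_of_mul_eq_mul_right h.pp.pos ((cA d).trans (cA a).symm)).le
  intro a c
  obtain ⟨g, hg⟩ := key a
  obtain ⟨k, hk⟩ := key c
  exact ⟨k⁻¹ * g, by rw [← cj_cj, hg, ← hk, cj_inv_cj]⟩

end H76.DGNF
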