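import Cfsg.Agent.H76.F4AB
import Cfsg.Agent.H26.McM3a

/-! `JobCO` of `blueprints/PSF4B.md`. -/

set_option autoImplicit false
set_option linter.unusedSectionVars false
set_option maxRecDepth 100000
set_option synthInstance.maxSize 2048

open Cfsg Subgroup H42.L3 H7.PS H84.PS
open H98 hiding stab
open H56.L3 (Ce Nz)
open H47.MC (V Mat Nr Acts WC)
open H47.O8 (dot nrm vz vb vy vu mQ1 mC mT act mulVec_eq)
open H28.PS (HD HA WCQ AA SL3 Side)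
open H28.F4 (Pre Mid Four Sim)
open scoped Matrix

namespace H76.F4

universe u

theorem gram3 : ∀ p q r s t u : ZMod 3, p + q + r + 2 * (s + t + u) = 0 →
    p + q + r + 2 * (s - t - u) = 0 → p + q + r + 2 * (-s + t - u) = 0 →
    p + q + r + 2 * (-s - t + u) = 0 → s = 0 ∧ t = 0 ∧ u = 0 ∧ p + q + r = 0 := by decide +kernel

theorem gram4 : ∀ p q r s : ZMod 3, p + q + r = 0 → p + q + s = 0 → p + r + s = 0 →
    q + r + s = 0 → q = p ∧ r = p ∧ s = p := by decide +kernel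

/-- a matrix preserving the singular vectors is a similitude -/
theorem gram {M : Mat} (h : ∀ x, x ≠ 0 → nrm x = 0 → nrm (M *ᵥ x) = 0) :
    ∃ μ : ZMod 3, (∀ x, nrm (M *ᵥ x) = μ * nrm x) ∧ Mᵀ * M = μ • 1 := by
  obtain ⟨Γ, hΓ⟩ : ∃ Γ : Mat, Γ = Mᵀ * M := ⟨_, rfl⟩
  have s : ∀ i j, Γ j i = Γ i j := fun i j => by
    simp only [hΓ, Matrix.mul_apply, Matrix.transpose_apply, Fin.sum_univ_four]; ring
  have e : ∀ x, nrm (M *ᵥ x) = x 0 * x 0 * Γ 0 0 + x 1 * x 1 * Γ 1 1 + x 2 * x 2 * Γ 2 2 +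
      x 3 * x 3 * Γ 3 3 + 2 * (x 0 * x 1 * Γ 0 1 + x 0 * x 2 * Γ 0 2 + x 0 * x 3 * Γ 0 3 +
        x 1 * x 2 * Γ 1 2 + x 1 * x 3 * Γ 1 3 + x 2 * x 3 * Γ 2 3) := fun x => by
    simp only [hΓ, H47.O8.nrm, dot, mulVec_eq, act, Matrix.mul_apply, Matrix.transpose_apply,
      Fin.sum_univ_four]
    ring
  have k : ∀ a b c d : ZMod 3, (![a, b, c, d] : V) ≠ 0 → nrm ![a, b, c, d] = 0 →
      a * a * Γ 0 0 + b * b * Γ 1 1 + c * c * Γ 2 2 + d * d * Γ 3 3 + 2 * (a * b * Γ 0 1 +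
        a * c * Γ 0 2 + a * d * Γ 0 3 + b * c * Γ 1 2 + b * d * Γ 1 3 + c * d * Γ 2 3) = 0 :=
    fun a b c d h1 h2 => (e ![a, b, c, d]).symm.trans (h _ h1 h2)
  obtain ⟨a1, a2, a3, a4⟩ := gram3 (Γ 0 0) (Γ 1 1) (Γ 2 2) (Γ 0 1) (Γ 0 2) (Γ 1 2)
    (by linear_combination k 1 1 1 0 (by decide) (by decide))
    (by linear_combination k 1 1 (-1) 0 (by decide) (by decide))
    (by linear_combination k 1 (-1) 1 0 (by decide) (by decide))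
    (by linear_combination k (-1) 1 1 0 (by decide) (by decide))
  obtain ⟨-, b2, b3, b4⟩ := gram3 (Γ 0 0) (Γ 1 1) (Γ 3 3) (Γ 0 1) (Γ 0 3) (Γ 1 3)
    (by linear_combination k 1 1 0 1 (by decide) (by decide))
    (by linear_combination k 1 1 0 (-1) (by decide) (by decide))
    (by linear_combination k 1 (-1) 0 1 (by decide) (by decide))
    (by linear_combination k (-1) 1 0 1 (by decide) (by decide))
  obtain ⟨-, -, c3, c4⟩ := gram3 (Γ 0 0) (Γ 2 2) (Γ 3 3) (Γ 0 2) (Γ 0 3) (Γ 2 3)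
    (by linear_combination k 1 0 1 1 (by decide) (by decide))
    (by linear_combination k 1 0 1 (-1) (by decide) (by decide))
    (by linear_combination k 1 0 (-1) 1 (by decide) (by decide))
    (by linear_combination k (-1) 0 1 1 (by decide) (by decide))
  obtain ⟨d1, d2, d3⟩ := gram4 (Γ 0 0) (Γ 1 1) (Γ 2 2) (Γ 3 3) a4 b4 c4
    (by linear_combination k 0 1 1 1 (by decide) (by decide) - 2 * a3 - 2 * b3 - 2 * c3)
  refine ⟨Γ 0 0, fun x => ?_, ?_⟩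
  · rw [e, a1, a2, a3, b2, b3, c3, d1, d2, d3, H47.O8.nrm, dot]; ring
  · rw [← hΓ]
    ext i j
    fin_cases i <;> fin_cases j <;>
      simp [a1, a2, a3, b2, b3, c3, d1, d2, d3, s 0 1, s 0 2, s 0 3, s 1 2, s 1 3, s 2 3]

/-- the change of coordinates -/
def TT (α β i : ZMod 3) : Mat := !![1 - β * i, 1 - β * i, -1 - β * i, 0; -β, -β, -β, 0;
  β * α, β * α, β * α, 1; -1 + β * α, 1 + β * α, β * α, 0]

/-- the conjugates of `z` in the old coordinates -/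
def chi (α β i k e a c : ZMod 3) : Prop :=
  (e = 0 ∧ (a = 0 ∧ c = 0 ∧ k ≠ 0 ∨ a ≠ 0 ∧ c ≠ 0)) ∨
    e ≠ 0 ∧ e * k + β * (e * a) * (e * a) - α * (e * a) - β * (e * c) * (e * c) + α * (e * c) = i

instance (α β i k e a c : ZMod 3) : Decidable (chi α β i k e a c) :=
  inferInstanceAs (Decidable (_ ∨ _))

theorem TT_dec : ∀ α β i : ZMod 3, β ≠ 0 → act (TT α β i) vz = ![1, 0, 0, 0] ∧
    act (TT α β i) vy = ![0, 0, 1, 0] ∧ act (TT α β i) vu = ![0, 0, 0, 1] ∧ ∀ x y : V,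
    y = act (TT α β i) x → (y = 0 → x = 0) ∧
    (chi (β * (α - β) + 1) β i (y 0) (y 1) (y 2) (y 3) ↔ x ≠ 0 ∧ nrm x = 0) ∧
    ![y 0 + y 1 * (α - β) + y 2, y 1, y 1 * β + y 2, y 3] = act (TT α β i) (act mQ1 x) ∧
    ![y 0 + y 1 * (β - α) - y 3, y 1, y 2, y 1 * β + y 3] = act (TT α β i) (act H47.O8.mQ2 x) ∧
    ![y 0, y 1, y 1 * α - y 2, y 3] = act (TT α β i) (act mC x) ∧
    ![y 0, y 1, y 2, y 1 * α - y 3] = act (TT α β i) (act mT x) := by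
  simp only [forall_eq]
  decide +kernel

section Fin

variable {P : ZMod 3 → ZMod 3 → ZMod 3 → ZMod 3 → Prop} {α α' β β' γ γ' i : ZMod 3}
  (q1 : ∀ k e a c, P (k + e * γ + a) e (e * β + a) c ↔ P k e a c)
  (r1 : ∀ k e a c, P k e (e * α - a) c ↔ P k e a c)
  (r2 : ∀ k e a c, P k e a (e * α' - c) ↔ P k e a c)
  (ng : ∀ k e a c, P k e a c → P (-k) (-e) (-a) (-c))
include q1 r1 r2 ng

theorem fin0 (p0 : P 1 0 0 0) (p1 : P 0 0 1 1) (n0 : ¬ P 0 0 0 0) (n1 : ∀ k a, P k 0 a 0 → a = 0)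
    (n2 : ∀ k c, P k 0 0 c → c = 0) (k a c : ZMod 3) :
    P k 0 a c ↔ a = 0 ∧ c = 0 ∧ k ≠ 0 ∨ a ≠ 0 ∧ c ≠ 0 := by
  have t : ∀ k, P k 0 1 1 → P (k + 1) 0 1 1 := fun k e => by simpa using (q1 k 0 1 1).2 e
  have t1 : ∀ k, P k 0 1 1 := fun k => by
    rcases (by decide : ∀ k : ZMod 3, k = 0 ∨ k = 0 + 1 ∨ k = 0 + 1 + 1) k with rfl | rfl | rfl
    exacts [p1, t _ p1, t _ (t _ p1)]
  have t2 : ∀ k c, P k 0 1 c → P k 0 (-1) c := fun k c e => by simpa using (r1 k 0 1 c).2 e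
  have t3 : ∀ k, P k 0 1 (-1) := fun k => by simpa using (r2 k 0 1 1).2 (t1 k)
  refine ⟨fun e => ?_, ?_⟩
  · by_cases h1 : a = 0
    · obtain rfl := n2 k c (h1 ▸ e)
      exact .inl ⟨h1, rfl, fun h2 => n0 (by rwa [h1, h2] at e)⟩
    · exact .inr ⟨h1, fun h2 => h1 (n1 k a (h2 ▸ e))⟩
  · rintro (⟨rfl, rfl, e⟩ | ⟨e1, e2⟩)
    · rcases (u3 k).resolve_left e with rfl | rfl
      exacts [p0, by simpa using ng _ _ _ _ p0]
    · rcases (u3 a).resolve_left e1 with rfl | rfl <;> rcases (u3 c).resolve_left e2 with rfl | rfl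
      exacts [t1 k, t3 k, t2 _ _ (t1 k), t2 _ _ (t3 k)]

theorem fin1 (q2 : ∀ k e a c, P (k + e * γ' - c) e a (e * β' + c) ↔ P k e a c) (n : β ≠ 0)
    (n' : β' ≠ 0) (h0 : ∀ k a c, P k 0 a c ↔ a = 0 ∧ c = 0 ∧ k ≠ 0 ∨ a ≠ 0 ∧ c ≠ 0)
    (h1 : ∀ k j, P k 1 j j ↔ k = i) : α' = α ∧ β' = β ∧ γ = α - β ∧ γ' = β - α ∧
      ∀ k e a c, P k e a c ↔ chi (β * γ + 1) β i k e a c := by
  have t : ∀ k a c, P k 1 a c ↔ chi (β * γ + 1) β i k 1 a c := fun k a c => by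
    rcases (by decide +kernel : ∀ a c β : ZMod 3, β ≠ 0 → c = a ∨ c = 1 * β + a ∨
      c = 1 * β + (1 * β + a)) a c β n with rfl | rfl | rfl
    · rw [h1]; revert n; generalize β = β; generalize γ = γ; generalize i = i
      revert k c β γ i; decide +kernel
    · rw [← q1, h1]; revert n; generalize β = β; generalize γ = γ; generalize i = i
      revert k a β γ i; decide +kernel
    · rw [← q1, ← q1, h1]; revert n; generalize β = β; generalize γ = γ; generalize i = i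
      revert k a β γ i; decide +kernel
  have e1 : γ = α - β := (by decide +kernel : ∀ α β γ i : ZMod 3, β ≠ 0 →
    (∀ k a, chi (β * γ + 1) β i k 1 (1 * α - a) 0 ↔ chi (β * γ + 1) β i k 1 a 0) → γ = α - β)
    α β γ i n fun k a => by rw [← t, ← t, r1]
  have e2 : γ = α' - β := (by decide +kernel : ∀ α β γ i : ZMod 3, β ≠ 0 →
    (∀ k c, chi (β * γ + 1) β i k 1 0 (1 * α - c) ↔ chi (β * γ + 1) β i k 1 0 c) → γ = α - β)
    α' β γ i n fun k a => by rw [← t, ← t, r2]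
  have e3 := (by decide +kernel : ∀ β γ β' γ' i : ZMod 3, β ≠ 0 → β' ≠ 0 →
    (∀ k c, chi (β * γ + 1) β i (k + 1 * γ' - c) 1 0 (1 * β' + c) ↔ chi (β * γ + 1) β i k 1 0 c) →
      β' = β ∧ γ' = -γ) β γ β' γ' i n n' fun k a => by rw [← t, ← t, q2]
  refine ⟨by linear_combination e1 - e2, e3.1, e1, by linear_combination e3.2 - e1, fun k e a c => ?_⟩
  rcases u3 e with rfl | rfl | rfl
  · simp [h0, chi]
  · exact t k a c
  · refine (Iff.intro (fun e => by simpa using ng _ _ _ _ e) fun e => by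
      simpa using ng _ _ _ _ e).trans ((t (-k) (-a) (-c)).trans ?_)
    simp [chi]

end Fin

variable {G : Type*} [Group G] [Finite G] {D : HD G} {z g x y b c1 c2 q r1 r2 : G} {J : Subgroup G}

theorem conj_iff : IsConj z (g * x * g⁻¹) ↔ IsConj z x :=
  ⟨fun e => e.trans (isConj_iff.2 ⟨g, rfl⟩).symm, fun e => e.trans (isConj_iff.2 ⟨g, rfl⟩)⟩

theorem conj_inv' (e : IsConj x y) : IsConj x⁻¹ y⁻¹ := by
  obtain ⟨g, rfl⟩ := isConj_iff.1 e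
  exact isConj_iff.2 ⟨g, conj_inv.symm⟩

theorem mov' {Q l m} (h : Co z Q l m) (hc : x ∈ Q) (n : x ∉ zpowers z) (k : ZMod 3) :
    ∃ q ∈ Q, om (l q) (l x) = k ∧ q * x * q⁻¹ = zp z k * x := by
  obtain ⟨q, hq, e⟩ := mov h hc n k
  exact ⟨q, hq, zp_inj h.ord (mul_right_cancel ((h.conj_eq hq hc).symm.trans e)), e⟩

theorem r_neg {Q Q' R l m} (ho : orderOf z = 3) (s : Side z Q Q' R l m) (hc : x ∈ Q)
    (n : x ∉ zpowers z) (hr : g ∈ R) (e : g * x * g⁻¹ = x⁻¹) : m g * m g = 1 ∧ g * g = 1 := by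
  have h := co_of_side ho s
  have N := (s.R_le hr).1
  have k := (by decide +kernel : ∀ A : SL3, A ^ 4 = 1 → ∀ v : V2, v ≠ 0 → A.1 *ᵥ v = -v → A * A = 1)
    (m g) (by rw [← h.m_pow N, s.R_four g hr, h.m_one]) _ (lne h hc n) (by
      rw [← h.act g N x hc, e, h.l_inv hc])
  exact ⟨k, s.R_inj _ (mul_mem hr hr) ((h.m_mul _ N _ N).trans k)⟩

theorem sim {v : V → G} (co' : H47.MC.Coord v J) (sing : ∀ x, IsConj z (v x) ↔ x ≠ 0 ∧ nrm x = 0)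
    (hg : g ∈ Nr J) : ∃ M, Sim M ∧ Acts v g M := by
  obtain ⟨M, hM⟩ := H26.MC.exists_acts co' hg
  have k : ∀ x, M *ᵥ x ≠ 0 ∧ nrm (M *ᵥ x) = 0 ↔ x ≠ 0 ∧ nrm x = 0 := fun x => by
    rw [← sing, ← sing]
    exact hM x ▸ conj_iff
  obtain ⟨μ, e1, e2⟩ := gram fun x h1 h2 => ((k x).2 ⟨h1, h2⟩).2
  refine ⟨M, ?_, hM⟩
  rcases u3 μ with rfl | rfl | rfl
  · refine absurd ((k vy).1 ⟨fun e => ?_, by rw [e1, zero_mul]⟩).2 (by decide)
    have := hM vy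
    rw [e, H42.MC.v_zero co', conj_eq_one_iff, H42.MC.v_eq_one co'] at this
    exact absurd this (by decide)
  · exact .inl (e2.trans (one_smul _ _))
  · exact .inr (e2.trans (neg_one_smul _ _))

section W

variable (h : HA D) (p : Pt D c1 c2) (bJ : b ∈ JJ D c1 c2) {k1 k2 k3 a1 a2 d1 d3 : ZMod 3}
include h p bJ

local notation "w" => ww D b c1 c2

theorem conj_c1 (hg : g ∈ N0 D) (s : D.m1 g * D.m1 g = 1) : g * b * g⁻¹ ∈ Ce c1 := by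
  have m := (co1 h).conj_mem (inv_mem hg.1) p.m1
  have := QJ h p (mem_sup_left m) (Q1J h p m (mem_Ce.2 (((co1 h).comm_iff m p.m1).2 (by
    rw [(co1 h).act _ (inv_mem hg.1) _ p.m1, (co1 h).m_inv hg.1]
    exact (by decide +kernel : ∀ A : SL3, A * A = 1 → ∀ v, om (A⁻¹.1 *ᵥ v) v = 0) _ s _)))) bJ
  simpa [mul_assoc] using conj_mem_Ce this g

variable (bQ : b ∉ D.Q) (b3 : b ^ 3 = 1)
include bQ b3

theorem w_b (k e a c : ZMod 3) : w k e a c * b⁻¹ = w k (e - 1) a c := by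
  nth_rewrite 2 [← zp_one (z := b)]
  rw [← (w_gen (D := D) (c1 := c1) (c2 := c2) (k := 0) (i := 0) (j := 0)).2.1, w_inv h p bQ b3 bJ,
    w_mul h p bQ b3 bJ]
  simp [sub_eq_add_neg]

theorem conj_b (hJ : JJ D c1 c2 = closure {D.z, c1, c2, b}) (hg : g ∈ N0 D)
    (s1 : D.m1 g * D.m1 g = 1) (s2 : D.m2 g * D.m2 g = 1) : ∃ k a c, g * b * g⁻¹ = w k 1 a c := by
  have N := JN h p bJ
  obtain ⟨k, e, a, c, hw⟩ := (w_mem h p bQ b3 bJ).1 (hJ.le (mem_cnA.2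
    ⟨mul_mem (mul_mem hg.1.1 N.1.1) (inv_mem hg.1.1), conj_c1 h p bJ hg s1,
      conj_c1 (swA h) p.sw (swj bJ) (swN hg) s2⟩))
  have t : ∀ A : SL3, A * A = 1 → ∀ B, A * B * A⁻¹ * B⁻¹ = 1 := by decide +kernel
  have m := mul_mem (mul_mem hg N) (inv_mem hg)
  have := h.ker _ (mul_mem m (inv_mem N)) (by
    rw [m1_mul h m (inv_mem N), m1_mul h (mul_mem hg N) (inv_mem hg), m1_mul h hg N,
      (co1 h).m_inv hg.1, (co1 h).m_inv N.1, t _ s1]) (by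
    rw [m2_mul h m (inv_mem N), m2_mul h (mul_mem hg N) (inv_mem hg), m2_mul h hg N,
      (co2 h).m_inv (n2 hg), (co2 h).m_inv (n2 N), t _ s2])
  rw [hw, w_b h p bJ bQ b3] at this
  exact ⟨k, a, c, sub_eq_zero.1 (w_Q h p bQ b3 bJ this) ▸ hw⟩

theorem conj_w (e0 : g ∈ Ce D.z) (e1 : g * b * g⁻¹ = w k1 1 a1 d1) (e2 : g * c1 * g⁻¹ = w k2 0 a2 0)
    (e3 : g * c2 * g⁻¹ = w k3 0 0 d3) (k e a c : ZMod 3) : g * w k e a c * g⁻¹ =
      w (k + e * k1 + a * k2 + c * k3) e (e * a1 + a * a2) (e * d1 + c * d3) := by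
  rw [ww, ← conj_mul, ← conj_mul, ← conj_mul, zp_conj e0, zp_cj, zp_cj, zp_cj, e1, e2, e3,
    ← (w_gen (b := b) (c1 := c1) (c2 := c2) (e := 0) (i := 0) (j := 0)).1]
  simp [w_zp h p bQ b3 bJ, w_mul h p bQ b3 bJ]

theorem invol (e0 : g ∈ Ce D.z) (e1 : g * b * g⁻¹ = w k1 1 a1 d1) (e2 : g * c1 * g⁻¹ = w 0 0 a2 0)
    (e3 : g * c2 * g⁻¹ = w 0 0 0 d3) (e : g * g = 1) :
    k1 = 0 ∧ a1 + a1 * a2 = 0 ∧ d1 + d1 * d3 = 0 := by
  have := conj_w h p bJ bQ b3 e0 e1 e2 e3 k1 1 a1 d1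
  rw [← e1, show g * (g * b * g⁻¹) * g⁻¹ = g * g * b * (g * g)⁻¹ by group, e, one_mul, inv_one,
    mul_one] at this
  nth_rewrite 1 [← zp_one (z := b)] at this
  rw [← (w_gen (D := D) (c1 := c1) (c2 := c2) (k := 0) (i := 0) (j := 0)).2.1] at this
  obtain ⟨t1, -, t2, t3⟩ := w_inj h p bQ b3 bJ this
  exact ⟨(by decide : ∀ k : ZMod 3, k + k = 0 → k = 0) _ (by linear_combination -t1),
    by linear_combination -t2, by linear_combination -t3⟩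

theorem q_b (hq : q ∈ D.Q) (e : q * b * q⁻¹ = w k1 1 a1 d1) :
    a1 • D.l1 c1 = L1 D q + (D.m1 b).1 *ᵥ -L1 D q ∧ d1 • D.l2 c2 = L2 D q + (D.m2 b).1 *ᵥ -L2 D q := by
  have N := JN h p bJ
  have e' : q * (b * q⁻¹ * b⁻¹) = w k1 0 a1 d1 := by
    rw [← mul_assoc, ← mul_assoc, e, w_b h p bJ bQ b3, sub_self]
  obtain ⟨-, e1, e2⟩ := w_Q0 h p (b := b) (k := k1) (i := a1) (j := d1)
  rw [← e1, ← e2, ← e', L1_mul h hq (nrQ h N (inv_mem hq)), L2_mul h hq (nrQ h N (inv_mem hq)),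
    L1_act h N (inv_mem hq), L2_act h N (inv_mem hq), L1_inv h hq, L2_inv h hq]
  exact ⟨rfl, rfl⟩

end W

set_option maxHeartbeats 1000000 in
theorem jobCO : H28.F4.JobCO.{u} := fun G _ _ D c1 c2 b r1 r2 J h P => by
  have p : Pt D c1 c2 := ⟨P.m1, P.m2, P.n1, P.n2⟩
  obtain rfl : J = JJ D c1 c2 := P.cen.trans (Subgroup.ext fun x => and_assoc.trans mem_cnA.symm)
  have bJ : b ∈ JJ D c1 c2 := P.eq.ge (subset_closure (by simp))
  have bQ := P.bQ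
  have b3 := P.cube
  have N := JN h p bJ
  have co := coord h p bQ b3 bJ
  rw [← P.eq] at co
  obtain ⟨g0, g1, g2, g3, g4⟩ := w_gen (D := D) (b := b) (c1 := c1) (c2 := c2) (k := 1) (e := 1)
    (i := 1) (j := 1)
  rw [zp_one] at g0 g1 g2 g3
  have u1 := lne (co1 h) p.m1 p.n1
  have u2 := lne (co2 h) p.m2 p.n2
  have t4 : ∀ A : SL3, A ^ 3 = 1 → A ^ 4 = 1 → A = 1 := by decide +kernel
  have nb1 : D.m1 b ≠ 1 := fun e => bQ (h.ker b N e (t4 _ (m3 (co2 h) (n2 N) (n := 1) b3)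
    ((P.diag b N).1 (by rw [e, one_pow]))))
  have nb2 : D.m2 b ≠ 1 := fun e => bQ (h.ker b N (t4 _ (m3 (co1 h) N.1 (n := 1) b3)
    ((P.diag b N).2 (by rw [e, one_pow]))) e)
  have t : ∀ A : SL3, A ≠ 1 → ∀ u : V2, u ≠ 0 → A.1 *ᵥ u = u → ∀ v,
    (0 : ZMod 3) • u = v + A.1 *ᵥ -v → om v u = 0 := by decide +kernel
  have cb := fun {g} => conj_b h p bJ bQ b3 P.eq (g := g)
  have wi : ∀ k e a c, (ww D b c1 c2 k e a c)⁻¹ = _ := fun _ _ _ _ => w_inv h p bQ b3 bJ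
  have wm : ∀ k e a c k' e' a' c', ww D b c1 c2 k e a c * ww D b c1 c2 k' e' a' c' = _ :=
    fun _ _ _ _ _ _ _ _ => w_mul h p bQ b3 bJ
  -- the involutions
  obtain ⟨s1, s1'⟩ := r_neg h.ord h.s1 p.m1 p.n1 P.r1m P.i1
  obtain ⟨s2, s2'⟩ := r_neg h.ord h.s2 p.m2 p.n2 P.r2m P.i2
  have R1 := h.s1.R_le P.r1m
  have R2 := h.s2.R_le P.r2m
  obtain ⟨k, α, c, e1⟩ := cb (H17.PS.R_N h h.s1 P.r1m) s1 (by rw [(co2 h).m_cn R1.2, one_mul])
  have e2 : r1 * c1 * r1⁻¹ = ww D b c1 c2 0 0 (-1) 0 := by rw [P.i1, ← g2, wi]; simp [g2]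
  have e3 : r1 * c2 * r1⁻¹ = ww D b c1 c2 0 0 0 1 := by rw [g3, ← R1.2 c2 p.m2, mul_inv_cancel_right]
  obtain ⟨rfl, -, e4⟩ := invol h p bJ bQ b3 R1.1.1 e1 e2 e3 s1'
  obtain rfl := (by decide : ∀ c : ZMod 3, c + c * 1 = 0 → c = 0) c e4
  have hr1 : ∀ k e a c, r1 * ww D b c1 c2 k e a c * r1⁻¹ = ww D b c1 c2 k e (e * α - a) c :=
    fun k e a c => by simpa [sub_eq_add_neg] using conj_w h p bJ bQ b3 R1.1.1 e1 e2 e3 k e a c
  clear e1 e2 e3 e4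
  obtain ⟨k, c, α', e1⟩ := cb (swN (H17.PS.R_N (swA h) h.s2 P.r2m))
    (by rw [(co1 h).m_cn R2.2, one_mul]) s2
  have e2 : r2 * c1 * r2⁻¹ = ww D b c1 c2 0 0 1 0 := by rw [g2, ← R2.2 c1 p.m1, mul_inv_cancel_right]
  have e3 : r2 * c2 * r2⁻¹ = ww D b c1 c2 0 0 0 (-1) := by rw [P.i2, ← g3, wi]; simp [g3]
  obtain ⟨rfl, e4, -⟩ := invol h p bJ bQ b3 R2.1.1 e1 e2 e3 s2'
  obtain rfl := (by decide : ∀ c : ZMod 3, c + c * 1 = 0 → c = 0) c e4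
  have hr2 : ∀ k e a c, r2 * ww D b c1 c2 k e a c * r2⁻¹ = ww D b c1 c2 k e a (e * α' - c) :=
    fun k e a c => by simpa [sub_eq_add_neg] using conj_w h p bJ bQ b3 R2.1.1 e1 e2 e3 k e a c
  clear e1 e2 e3 e4
  -- the elements of order three
  obtain ⟨q1, m1, o1, e2⟩ := mov' (co1 h) p.m1 p.n1 1
  have Q1 : q1 ∈ D.Q := mem_sup_left m1
  obtain ⟨γ, β, c, e1⟩ := cb (QN h Q1) (by rw [mQ h Q1, one_mul]) (by rw [mQ2 h Q1, one_mul])
  obtain ⟨e4, e5⟩ := q_b h p bJ bQ b3 Q1 e1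
  obtain rfl : c = 0 := by simpa [L2_Q1 h m1, u2] using e5
  have nβ : β ≠ 0 := fun e => by
    have := t _ nb1 _ u1 (fix_of_comm (co1 h) N.1 p.m1 (mem_Ce.1 (mem_cnA.1 bJ).2.1).symm) _ (e ▸ e4)
    rw [L1_Q1 h m1, o1] at this
    exact one_ne_zero this
  have hq1 : ∀ k e a c, q1 * ww D b c1 c2 k e a c * q1⁻¹ =
      ww D b c1 c2 (k + e * γ + a) e (e * β + a) c := fun k e a c => by
    simpa using conj_w h p bJ bQ b3 (QN h Q1).1.1 e1 (k2 := 1) (a2 := 1) (k3 := 0) (d3 := 1)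
      (by rw [e2]; simp [ww, zp_zero, zp_one]) (by rw [g3, QQ h m1 p.m2, mul_inv_cancel_right]) k e a c
  clear e1 e2 e4 e5
  obtain ⟨q2, m2, o2, e3⟩ := mov' (co2 h) p.m2 p.n2 (-1)
  have Q2 : q2 ∈ D.Q := mem_sup_right m2
  obtain ⟨γ', c, β', e1⟩ := cb (QN h Q2) (by rw [mQ h Q2, one_mul]) (by rw [mQ2 h Q2, one_mul])
  obtain ⟨e4, e5⟩ := q_b h p bJ bQ b3 Q2 e1
  obtain rfl : c = 0 := by simpa [L1_Q2 h m2, u1] using e4
  have nβ' : β' ≠ 0 := fun e => by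
    have := t _ nb2 _ u2 (fix_of_comm (co2 h) (n2 N) p.m2 (mem_Ce.1 (mem_cnA.1 bJ).2.2).symm) _
      (e ▸ e5)
    rw [L2_Q2 h m2, o2] at this
    exact absurd this (by decide)
  have hq2 : ∀ k e a c, q2 * ww D b c1 c2 k e a c * q2⁻¹ =
      ww D b c1 c2 (k + e * γ' - c) e a (e * β' + c) := fun k e a c => by
    simpa [sub_eq_add_neg] using conj_w h p bJ bQ b3 (QN h Q2).1.1 e1 (k2 := 0) (a2 := 1) (k3 := -1)
      (d3 := 1) (by rw [g2, ← QQ h p.m1 m2, mul_inv_cancel_right])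
      (by rw [e3]; simp [ww, zp_zero, zp_one]) k e a c
  clear e1 e3 e4 e5
  -- the conjugates of `z`
  obtain ⟨g, ey, zQ', bQ'⟩ := P.ex
  have gy : ww D b c1 c2 0 0 1 1 = c1 * c2 := by simp [ww, zp_zero, zp_one]
  have p1 : IsConj D.z (ww D b c1 c2 0 0 1 1) := isConj_iff.2 ⟨g, ey.trans gy.symm⟩
  have i1 : ∀ k e a c, IsConj D.z _ ↔ IsConj D.z (ww D b c1 c2 k e a c) := fun k e a c =>
    hq1 k e a c ▸ conj_iff
  have i2 : ∀ k e a c, IsConj D.z _ ↔ IsConj D.z (ww D b c1 c2 k e a c) := fun k e a c =>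
    hq2 k e a c ▸ conj_iff
  have j1 : ∀ k e a c, IsConj D.z _ ↔ IsConj D.z (ww D b c1 c2 k e a c) := fun k e a c =>
    hr1 k e a c ▸ conj_iff
  have j2 : ∀ k e a c, IsConj D.z _ ↔ IsConj D.z (ww D b c1 c2 k e a c) := fun k e a c =>
    hr2 k e a c ▸ conj_iff
  have ng : ∀ k e a c, IsConj D.z (ww D b c1 c2 k e a c) →
      IsConj D.z (ww D b c1 c2 (-k) (-e) (-a) (-c)) := fun k e a c e' => by
    have := (j2 _ _ _ _).2 ((j1 _ _ _ _).2 p1)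
    rw [← wi]
    refine (this.trans ?_).trans (conj_inv' e')
    simpa [wi] using (conj_inv' p1).symm
  have h0 := fin0 (P := fun k e a c => IsConj D.z (ww D b c1 c2 k e a c)) i1 j1 j2 ng
    (by rw [g0]) p1 (by
      rw [g4, isConj_one_left]
      exact fun e => by simpa [e] using h.ord)
    (fun k a e => (w_z h p bQ b3 bJ (P.nz _ (.inl (mem_Q1 h (w_Q0 h p).1
      ((w_Q0 h p).2.2.trans (zero_smul _ _)))) e)).2.1)
    (fun k c e => (w_z h p bQ b3 bJ (P.nz _ (.inr (mem_Q1 (swA h) (swq (w_Q0 h p).1)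
      ((w_Q0 h p).2.1.trans (zero_smul _ _)))) e)).2.2)
  obtain ⟨i, h1⟩ : ∃ i, ∀ k j, IsConj D.z (ww D b c1 c2 k 1 j j) ↔ k = i := by
    obtain ⟨m0, m1, m2⟩ := c_mem h p
    obtain ⟨n, hn, e⟩ := H42.MC.wc2 co P.wc (g := g) (zpowers_le.2 m0) (by
      rw [cj_zp, ey]; exact zpowers_le.2 (mul_mem m1 m2))
    have ez : n⁻¹ * g ∈ Ce D.z := mem_Ce.2 (e _ (mem_zpowers _)).symm
    have e0 : n⁻¹ * (c1 * c2) * n⁻¹⁻¹ = D.z := Eq.trans (by rw [← ey]; group) (mem_Ce'.1 ez)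
    have k : ∀ x ∈ JJ D c1 c2, g⁻¹ * x * g ∈ D.Q → ∃ k a c,
        n⁻¹ * x * n⁻¹⁻¹ = ww D b c1 c2 k 0 a c := fun x hx hx' => by
      obtain ⟨k, e, a, c, hw⟩ := (w_mem h p bQ b3 bJ).1
        (P.eq.le (conj_mem_of_mem_normalizer (inv_mem hn) hx))
      have nq : n⁻¹ * g ∈ nr D.Q := cj_eq_self_iff.1 (by
        rw [cj_sup]
        rcases h.swap _ (Ce_le_nr ez) with k | k <;> rw [k.1, k.2]
        exact sup_comm _ _)
      have := conj_mem_of_mem_normalizer nq hx'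
      rw [show n⁻¹ * g * (g⁻¹ * x * g) * (n⁻¹ * g)⁻¹ = n⁻¹ * x * n⁻¹⁻¹ by group, hw] at this
      exact ⟨k, a, c, w_Q h p bQ b3 bJ this ▸ hw⟩
    obtain ⟨k1, a1, d1, f1⟩ := k _ m0 zQ'
    obtain ⟨k2, a2, d2, f2⟩ := k _ bJ bQ'
    have f : ∀ k j, n⁻¹ * ww D b c1 c2 k 1 j j * n⁻¹⁻¹ =
        ww D b c1 c2 (k * k1 + k2 + j) 0 (k * a1 + a2) (k * d1 + d2) := fun k j => by
      have : ww D b c1 c2 k 1 j j = zp D.z k * b * zp (c1 * c2) j := by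
        rw [← gy, w_zp h p bQ b3 bJ]
        nth_rewrite 2 [← g1]
        rw [← (w_gen (b := b) (c1 := c1) (c2 := c2) (e := 0) (i := 0) (j := 0)).1, wm, wm]
        simp
      rw [this, ← conj_mul, ← conj_mul, zp_cj, zp_cj, e0, f1, f2,
        ← (w_gen (b := b) (c1 := c1) (c2 := c2) (e := 0) (i := 0) (j := 0)).1, w_zp h p bQ b3 bJ, wm,
        wm]
      simp
    have y0 : ∀ x, n⁻¹ * x * n⁻¹⁻¹ ∈ zpowers D.z → x ∈ zpowers (c1 * c2) := fun x hx => by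
      rwa [← e0, ← cj_zp, conj_mem_cj_iff] at hx
    have wz : ∀ k, ww D b c1 c2 k 0 0 0 ∈ zpowers D.z := fun k => by simp [ww, zp_zero, zp_mem]
    obtain ⟨i, hi⟩ := (by decide +kernel : ∀ a c : ZMod 3, a ≠ 0 ∧ c ≠ 0 → ∀ a' c' : ZMod 3,
      (∀ k, ¬ (k * a + a' = 0 ∧ k * c + c' = 0)) → ∃ i, ∀ k,
        ¬ (k * a + a' = 0 ∧ k * c + c' = 0) ∧ (k * a + a' ≠ 0 ∧ k * c + c' ≠ 0 ↔ k = i)) a1 d1
      (((h0 k1 a1 d1).1 (f1 ▸ conj_iff.2 (IsConj.refl _))).resolve_left (by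
        rintro ⟨rfl, rfl, -⟩
        exact (pair_cj h (ey ▸ mul_mem_sup p.m1 p.m2) fun k => u1 ((L1_eq h p.m1 p.m2).symm.trans
          (L1_z h (ey ▸ k)))).symm.ne (show D.z ∈ zpowers (g * D.z * g⁻¹) by
            rw [ey]; exact y0 _ (f1 ▸ wz k1)))) a2 d2 fun k e =>
      one_ne_zero (w_Q h p bQ b3 bJ (zpowers_le.2 (mul_mem_sup p.m1 p.m2)
        (y0 (ww D b c1 c2 k 1 0 0) (by rw [f, e.1, e.2]; exact wz _))))
    exact ⟨i, fun k j => by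
      rw [← conj_iff (g := n⁻¹), f, h0, ← (hi k).2]
      exact or_iff_right fun e => (hi k).1 ⟨e.1, e.2.1⟩⟩
  obtain ⟨rfl, rfl, rfl, rfl, h2⟩ := fin1 (P := fun k e a c => IsConj D.z (ww D b c1 c2 k e a c))
    i1 j1 j2 ng i2 nβ nβ' h0 h1
  obtain ⟨t0, t1, t2, t3⟩ := TT_dec α' β' i nβ
  have t3 := fun x => t3 x _ rfl
  simp only [← mulVec_eq] at t0 t1 t2 t3
  have inj : Function.Injective (TT α' β' i *ᵥ ·) := fun x y e => sub_eq_zero.1 ((t3 _).1 (by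
    rw [Matrix.mulVec_sub, sub_eq_zero]; exact e))
  set u : V → G := fun x : V => ww D b c1 c2 (x 0) (x 1) (x 2) (x 3) with hu
  have co' : H47.MC.Coord (fun x => u (TT α' β' i *ᵥ x)) (JJ D c1 c2) :=
    ⟨fun x y => by rw [Matrix.mulVec_add, co.add], co.inj.comp inj, fun g => (co.mem g).trans
      (Finite.injective_iff_surjective.1 inj).exists⟩
  have sing : ∀ x, IsConj D.z (u (TT α' β' i *ᵥ x)) ↔ x ≠ 0 ∧ nrm x = 0 := fun x =>
    (h2 _ _ _ _).trans (t3 x).2.1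
  have v0 : u (TT α' β' i *ᵥ vz) = D.z := (congrArg u t0).trans g0
  have v1 : u (TT α' β' i *ᵥ vy) = c1 := (congrArg u t1).trans g2
  have v2 : u (TT α' β' i *ᵥ vu) = c2 := (congrArg u t2).trans g3
  exact ⟨_, q1, q2, r1, r2, ⟨h, co', v0, v1.symm ▸ p.m1, v2.symm ▸ p.m2, P.diag, fun g => sim co' sing,
    by simp only [v1, v2]; exact P.cen.ge, P.wc, P.syl, sing⟩, m1, m2, P.r1m, P.r2m, s1', s2',
    fun x => (hq1 _ _ _ _).trans (congrArg u (t3 x).2.2.1),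
    fun x => (hq2 _ _ _ _).trans (congrArg u (t3 x).2.2.2.1),
    fun x => (hr1 _ _ _ _).trans (congrArg u (t3 x).2.2.2.2.1),
    fun x => (hr2 _ _ _ _).trans (congrArg u (t3 x).2.2.2.2.2)⟩

end H76.F4
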