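/- Tower FE, job Ed: a full edge. -/
import Cfsg.Agent.H14.FESpec
import Cfsg.Agent.H14.Tight

set_option autoImplicit false

namespace H76.FEEd

open Cfsg Subgroup MulAction H14 H98 H1.Gold H31.S2 H14.GC H14.FE

universe u

theorem jobEd : JobEd.{u} := by
  intro G _ _ K hK g hg d hd d2 dn
  set Q := cen K with hQ
  have te : IsTightlyEmbedded Q := hK.std.2.1
  obtain ⟨T, hT, dT⟩ := exists_isSyl_le (H := cj g Q ⊓ nor Q) d2.isPGroup (zpowers_le.2 ⟨hd, dn⟩)
  have T1 : T ≠ ⊥ := fun e => d2.1 (mem_bot.1 (e ▸ dT (mem_zpowers d)))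
  have ev : Even (Nat.card ↥(cj g Q ⊓ nor Q)) := by
    rw [even_iff_two_dvd]
    by_contra h
    exact T1 (hT.eq_bot_iff.2 h)
  have hT2 : IsSyl 2 T (cj g Q) := by
    refine isSyl_of_not_dvd_relIndex (hT.le.trans inf_le_left) hT.isPGroup ?_
    rw [← relIndex_mul_relIndex T _ _ hT.le inf_le_left]
    exact fun h => ((Nat.prime_two.dvd_mul).1 h).elim hT.not_dvd_relIndex (hK.full g hg ev)
  obtain ⟨S, hS, TS⟩ := exists_isSyl_le hT.isPGroup (le_sup_right : T ≤ Q ⊔ T)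
  obtain ⟨-, h2, -, ⟨e⟩⟩ := te_structure te hg T1 hT hS TS
  obtain ⟨R0, hR0⟩ := exists_isSyl 2 Q
  refine ⟨_, T, te, hK.four, hg, hR0.of_card_ge
    (hS.isPGroup.to_le (inf_le_left.trans inf_le_left)) inf_le_right ?_, hT2,
    hT.le.trans inf_le_right, fun r hr t ht => ?_, ⟨e⟩⟩
  · rw [Nat.card_congr e.toEquiv, ← card_cj g R0]
    exact hT2.card_le (hR0.cj g).isPGroup (hR0.cj g).le
  · have := commutator_mem_commutator ht hr
    rw [h2, mem_bot, commutatorElement_eq_one_iff_mul_comm] at this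
    exact this.symm

end H76.FEEd
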