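/- Tower FE, job SE1: a strongly embedded subgroup of a core-free group normalises a Sylow
`2`-subgroup that is elementary or a Suzuki `2`-group. -/
import Cfsg.Agent.H14.FESpec
import Cfsg.Agent.H82.Hub
import Cfsg.Agent.H99.BenderB
import Cfsg.Agent.S1132

set_option autoImplicit false

namespace H76.FESE1

open Cfsg Subgroup MulAction H14 H98 H1.Gold H31.S2 H14.GC H14.FE

universe u

theorem sz_equiv {P P' : Type*} [Group P] [Group P'] (e : P ≃* P') (h : IsSuzukiTwoGroup P) :
    IsSuzukiTwoGroup P' := by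
  obtain ⟨h1, h2, ⟨a, b, h3⟩, ⟨x, y, h4, h5, h6, h7, h8⟩, K, hK, h9⟩ := h
  refine ⟨Finite.of_equiv _ e.toEquiv, h2.of_equiv e, ⟨e a, e b, fun h => h3 (e.injective ?_)⟩,
    ⟨e x, e y, fun h => h4 (e.injective h), fun h => h5 (by simpa using h), by rw [← map_mul, h6, map_one],
      fun h => h7 (by simpa using h), by rw [← map_mul, h8, map_one]⟩,
    K.map (MulAut.congr e).toMonoidHom,
    isCyclic_of_surjective _ (K.equivMapOfInjective _ (MulAut.congr e).injective).surjective,
    fun x y x1 xx y1 yy => ?_⟩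
  · rw [map_mul, map_mul, h]
  obtain ⟨k, hk, hu⟩ := h9 (e.symm x) (e.symm y) (fun h => x1 (by simpa using h))
    (by rw [← map_mul, xx, map_one]) (fun h => y1 (by simpa using h)) (by rw [← map_mul, yy, map_one])
  refine ⟨⟨MulAut.congr e k, k, k.2, rfl⟩, ?_, ?_⟩
  · show e ((k : MulAut P) (e.symm x)) = y
    rw [hk, e.apply_symm_apply]
  · rintro ⟨_, k', hk', rfl⟩ h
    have h' : e (k' (e.symm x)) = y := h
    have := hu ⟨k', hk'⟩ (by
      show k' (e.symm x) = e.symm y
      rw [← h', e.symm_apply_apply])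
    exact Subtype.ext (by rw [← this]; rfl)

theorem jobSE1 : JobSE1.{u} := by
  intro X _ _ M hM hO
  have h2 := H99.se_twoRank_of_oddCore hM (hO.le.trans bot_le)
  have hc : M.normalCore = ⊥ := le_bot_iff.1 ((H99.se_normalCore_le hM).trans hO.le)
  obtain ⟨t, Q, hS⟩ := H82.hub X M hM hc h2
  have := H99.faithful_of_normalCore hc
  have pQ := H99.ro_isPGroup hS h2
  refine ⟨Q, isSyl_top_iff.2 (H99.ro_exists_sylow hS h2), H99.ro_coset_le hS,
    fun m hm => mem_normalizer_iff.2 fun x => ⟨fun hx => H99.ro_coset_conj hS hm hx, fun hx => ?_⟩, ?_⟩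
  · simpa [mul_assoc] using H99.ro_coset_conj hS (inv_mem hm) hx
  have nc : H69.NonComm Q → IsSuzukiTwoGroup Q := fun ⟨a, ha, b, hb, ab⟩ => by
    obtain ⟨S⟩ : Nonempty (Sylow 2 Q) := inferInstance
    have h3 : (S : Subgroup Q) = ⊤ := (S.is_maximal' (pQ.to_subgroup ⊤) le_top).symm
    have e : (S : Subgroup Q) ≃* Q := (MulEquiv.subgroupCongr h3).trans topEquiv
    rcases Agent.S1132.result hS h2 S with h | h
    · refine absurd (congrArg Subtype.val (e.symm.injective
        (a₁ := ⟨a, ha⟩ * ⟨b, hb⟩) (a₂ := ⟨b, hb⟩ * ⟨a, ha⟩) ?_)) ab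
      rw [map_mul, map_mul, h.is_comm.comm]
    · exact sz_equiv e h
  rcases (H69.thmA X _ _ t Q hS h2).2 with h | h | h
  · exact Or.inl h
  · exact Or.inr (nc h.1)
  · exact Or.inr (nc h.1)

end H76.FESE1
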