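import Cfsg.Agent.Base
import Cfsg.Agent.H5.Wielandt
import Cfsg.Agent.H15.Factor
import Cfsg.Agent.H47.Fit38

/-! A fixed point inequality for a `p`-group acting on a `p'`-group (for S4091). -/

set_option autoImplicit false

namespace H76.Gh

open Cfsg hiding pRank
open H46 Subgroup

universe u v

/-- commuting endomorphisms whose kernels meet pairwise trivially -/
theorem prod_ker_le {V : Type u} [Group V] [Finite V] {ι : Type v} (f : ι → V →* V)
    (hc : ∀ i j v, f i (f j v) = f j (f i v)) (s : Finset ι)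
    (hk : ∀ i ∈ s, ∀ j ∈ s, i ≠ j → ∀ v, f i v = 1 → f j v = 1 → v = 1) :
    ∀ W : Subgroup V, (∀ i, ∀ w ∈ W, f i w ∈ W) →
      ∏ i ∈ s, Nat.card ↥(W ⊓ (f i).ker) ≤ Nat.card W := by
  classical
  induction s using Finset.induction_on with
  | empty => intro W _; rw [Finset.prod_empty]; exact Nat.card_pos
  | insert j s hj ih =>
    intro W hW
    rw [Finset.prod_insert hj]
    have h1 := ih (fun a ha b hb => hk a (Finset.mem_insert_of_mem ha) b
      (Finset.mem_insert_of_mem hb)) (W.map (f j)) (by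
        rintro i _ ⟨w, hw, rfl⟩
        exact ⟨f i w, hW i w hw, hc j i w⟩)
    have h2 : Nat.card W = Nat.card ↥(W ⊓ (f j).ker) * Nat.card (W.map (f j)) := by
      rw [← Subgroup.relIndex_ker, inf_comm]
      exact (H46.card_inf_mul_relIndex _ _).symm
    rw [h2]
    refine Nat.mul_le_mul_left _ (le_trans (Finset.prod_le_prod' fun i hi => ?_) h1)
    refine Nat.card_le_card_of_injective (fun w => ⟨f j w.1, ⟨w.1, w.2.1, rfl⟩, ?_⟩) ?_
    · have : f i w.1 = 1 := w.2.2
      change f i (f j w.1) = 1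
      rw [hc, this, map_one]
    · intro a b e
      have e' : f j a.1 = f j b.1 := congrArg Subtype.val e
      have ha : f i a.1 = 1 := a.2.2
      have hb : f i b.1 = 1 := b.2.2
      have := hk i (Finset.mem_insert_of_mem hi) j (Finset.mem_insert_self _ _)
        (fun e => hj (e ▸ hi)) (a.1⁻¹ * b.1) (by simp [ha, hb]) (by simp [e'])
      exact Subtype.ext (inv_mul_eq_one.mp this)

variable {p : ℕ} {S : Type v} [Group S] [Fintype S]

/-- the abelian case with a fixed point free central element -/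
theorem base {V : Type u} [CommGroup V] [Finite V] (hp : p.Prime) (ψ : S →* MulAut V) (z : S)
    (hz : ∀ s, ψ z * ψ s = ψ s * ψ z) (hzp : ψ z ^ p = 1) (hf : ∀ v, ψ z v = v → v = 1) :
    ∏ x : S, Nat.card {v : V // ψ x v = v} ^ p ≤ Nat.card V ^ Fintype.card S := by
  have e1 : ∏ x : S, Nat.card {v : V // ψ x v = v} ^ p =
      ∏ x : S, ∏ i ∈ Finset.range p, Nat.card {v : V // ψ (x * z ^ i) v = v} := by
    rw [Finset.prod_comm, Finset.prod_pow, ← Finset.card_range p, ← Finset.prod_const,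
      Finset.card_range]
    exact Finset.prod_congr rfl fun i _ =>
      (Equiv.prod_comp (Equiv.mulRight (z ^ i)) fun x => Nat.card {v : V // ψ x v = v}).symm
  rw [e1, ← Finset.card_univ]
  refine Finset.prod_le_pow_card _ _ _ fun x _ => ?_
  let f : ℕ → V →* V := fun i => (ψ (x * z ^ i)).toMonoidHom / MonoidHom.id V
  have hf1 : ∀ i v, f i v = 1 ↔ ψ (x * z ^ i) v = v := fun i v => div_eq_one
  have hcz : Commute (ψ z) (ψ x) := hz x
  have hcm : ∀ i j, ψ (x * z ^ i) * ψ (x * z ^ j) = ψ (x * z ^ j) * ψ (x * z ^ i) := by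
    intro i j
    simp only [map_mul, map_pow]
    refine Commute.eq (Commute.mul_left (Commute.mul_right (Commute.refl _) ?_)
      (Commute.mul_right ?_ ?_))
    · exact hcz.symm.pow_right j
    · exact hcz.pow_left i
    · exact (Commute.refl _).pow_pow i j
  have key := prod_ker_le f (fun i j v => by
    have := congrArg (fun σ : MulAut V => σ v) (hcm i j)
    simp only [MulAut.mul_apply] at this
    change ψ (x * z ^ i) (ψ (x * z ^ j) v / v) / (ψ (x * z ^ j) v / v) =
      ψ (x * z ^ j) (ψ (x * z ^ i) v / v) / (ψ (x * z ^ i) v / v)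
    rw [map_div, map_div, this]
    exact div_div_div_comm _ _ _ _) (Finset.range p) (by
      have aux : ∀ i j, i < j → j < p → ∀ v, f i v = 1 → f j v = 1 → v = 1 := by
        intro i j hij hj v hi hj'
        rw [hf1] at hi hj'
        obtain ⟨d, rfl⟩ := Nat.exists_eq_add_of_lt hij
        have h1 : (ψ z ^ (d + 1)) v = v := by
          apply (ψ (x * z ^ i)).injective
          rw [hi, ← map_pow, ← MulAut.mul_apply, ← map_mul, mul_assoc, ← pow_add, ← add_assoc]
          exact hj'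
        have hcop : (d + 1).Coprime p :=
          ((Nat.Prime.coprime_iff_not_dvd hp).2 (Nat.not_dvd_of_pos_of_lt (by omega) (by omega))).symm
        have h2 : ψ z ∈ MulAction.stabilizer (MulAut V) v := by
          obtain ⟨m, hm⟩ := exists_pow_eq_self_of_coprime
            (hcop.coprime_dvd_right (orderOf_dvd_of_pow_eq_one hzp))
          rw [← hm]
          exact Subgroup.pow_mem _ (show _ ∈ MulAction.stabilizer (MulAut V) v from h1) m
        exact hf v h2
      intro i hi j hj hij v h1 h2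
      rw [Finset.mem_range] at hi hj
      rcases lt_or_gt_of_ne hij with h | h
      · exact aux i j h hj v h1 h2
      · exact aux j i h hi v h2 h1) ⊤ (fun _ _ _ => mem_top _)
  rw [card_top] at key
  refine le_of_eq_of_le (Finset.prod_congr rfl fun i _ => ?_) key
  exact Nat.card_congr (Equiv.subtypeEquivRight fun v => by
    rw [top_inf_eq, MonoidHom.mem_ker, hf1])

theorem key_sol (hp : p.Prime) (hS : IsPGroup p S) (n : ℕ) : ∀ {G : Type u} [Group G] [Finite G]
    (φ : S →* G) (M : Subgroup G), Nat.card M = n → φ.range ≤ Nrm M → ¬ p ∣ Nat.card M →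
    Group.IsSolvable M →
    ∏ x : S, Nat.card ↥(M ⊓ Cent (zpowers (φ x))) ^ p ≤
      Nat.card ↥(M ⊓ Cent φ.range) ^ ((p - 1) * Fintype.card S) * Nat.card M ^ Fintype.card S := by
  have := Fact.mk hp
  induction n using Nat.strong_induction_on with
  | _ n ih =>
  intro G _ _ φ M hn hX hpM hM
  by_cases h1 : M = ⊥
  · rw [h1]; simp
  obtain ⟨q, B, hq, hBM, hB1, hB, hqB, hMB, hXB, hmin⟩ := H47.exists_elemAb_invariant hM h1 hX
  have hR : IsPGroup p φ.range := hS.of_surjective φ.rangeRestrict φ.rangeRestrict_surjective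
  have hzx : ∀ x, zpowers (φ x) ≤ φ.range := fun x => zpowers_le.2 ⟨x, rfl⟩
  have hcX : ∀ L : Subgroup G, L ≤ φ.range → (Nat.card L).Coprime (Nat.card M) := fun L hL => by
    obtain ⟨k, hk⟩ := (IsPGroup.to_le hR hL).exists_card_eq
    rw [hk]
    exact ((Nat.Prime.coprime_iff_not_dvd hp).2 hpM).pow_left k
  by_cases h2 : B = M
  · subst h2
    by_cases h0 : φ.range ≤ Cent B
    · have e : ∀ L, L ≤ φ.range → B ⊓ Cent L = B := fun L hL =>
        inf_of_le_left (le_cent_symm (hL.trans h0))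
      simp only [e _ (hzx _), e _ le_rfl, Finset.prod_const, Finset.card_univ]
      rw [← pow_mul, ← pow_add]
      obtain ⟨k, rfl⟩ : ∃ k, p = k + 1 := ⟨p - 1, by have := hp.pos; omega⟩
      rw [Nat.add_sub_cancel, add_mul, one_mul]
    · have := hB.1
      let : CommGroup B := { (inferInstance : Group B) with mul_comm := mul_comm' }
      let ψ : S →* MulAut B := B.normalizerMonoidHom.comp (φ.codRestrict (Nrm B)
        fun x => hX ⟨x, rfl⟩)
      have hψ : ∀ x (v : B), ((ψ x v : B) : G) = φ x * v * (φ x)⁻¹ := fun x v => rfl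
      have hfix : ∀ x (v : B), ψ x v = v ↔ (v : G) ∈ Cent (zpowers (φ x)) := by
        intro x v
        rw [Subtype.ext_iff, hψ, mul_inv_eq_iff_eq_mul, zpowers_eq_closure, Cent, centralizer_closure,
          mem_centralizer_singleton_iff, eq_comm]
      have hψR : IsPGroup p ψ.range := hS.of_surjective ψ.rangeRestrict ψ.rangeRestrict_surjective
      have hnt : Nontrivial ψ.range := by
        by_contra hh
        rw [not_nontrivial_iff_subsingleton] at hh
        refine h0 ?_
        rintro _ ⟨x, rfl⟩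
        have : ψ x = 1 := congrArg Subtype.val (Subsingleton.elim (⟨ψ x, x, rfl⟩ : ψ.range) 1)
        refine mem_cent.2 fun b hb => ?_
        have h3 := (hfix x ⟨b, hb⟩).1 (by rw [this]; rfl)
        exact (mem_cent.1 h3 _ (mem_zpowers _)).symm
      have hZ := hψR.center_nontrivial
      obtain ⟨ζ, hζ⟩ := exists_prime_orderOf_dvd_card' (G := center ψ.range) p
        ((hψR.to_subgroup _).card_eq_or_dvd.resolve_left (Finite.one_lt_card.ne'))
      obtain ⟨⟨_, z, rfl⟩, hζc⟩ := ζ
      have hz : ∀ s, ψ z * ψ s = ψ s * ψ z := fun s =>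
        (congrArg Subtype.val (mem_center_iff.1 hζc ⟨ψ s, s, rfl⟩)).symm
      have hzp : ψ z ^ p = 1 := by
        have := pow_orderOf_eq_one (⟨⟨ψ z, z, rfl⟩, hζc⟩ : center ψ.range)
        rw [hζ] at this
        exact congrArg (fun t : center ψ.range => (t.1.1 : MulAut B)) this
      have hz1 : ψ z ≠ 1 := fun e => by
        have : (⟨⟨ψ z, z, rfl⟩, hζc⟩ : center ψ.range) = 1 := Subtype.ext (Subtype.ext e)
        rw [this, orderOf_one] at hζ
        exact hp.one_lt.ne hζ
      have hC : B ⊓ Cent (zpowers (φ z)) = ⊥ := by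
        refine (hmin _ inf_le_left (nrm_of_comm hB.1 inf_le_left) ?_).resolve_right fun e => hz1 ?_
        · rintro _ ⟨s, rfl⟩
          refine mem_nrm_of_cj_le ?_
          rintro _ ⟨b, hb, rfl⟩
          have h3 := (hfix z ⟨b, hb.1⟩).2 hb.2
          have h4 : ψ z (ψ s ⟨b, hb.1⟩) = ψ s ⟨b, hb.1⟩ := by
            rw [← MulAut.mul_apply, hz, MulAut.mul_apply, h3]
          exact ⟨(ψ s ⟨b, hb.1⟩).2, (hfix z _).1 h4⟩
        · ext v
          exact congrArg Subtype.val ((hfix z v).2 (e.ge v.2).2)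
      have hb := base hp ψ z hz hzp fun v hv => Subtype.ext
        (mem_bot.1 (hC.le (mem_inf.2 ⟨v.2, (hfix z v).1 hv⟩)))
      refine le_trans (le_of_eq_of_le (Finset.prod_congr rfl fun x _ => ?_) hb)
        (Nat.le_mul_of_pos_left _ (pow_pos Nat.card_pos _))
      congr 1
      exact Nat.card_congr ⟨fun v => ⟨⟨v.1, v.2.1⟩, (hfix _ _).2 v.2.2⟩,
        fun v => ⟨v.1.1, v.1.2, (hfix _ _).1 v.2⟩, fun _ => rfl, fun _ => rfl⟩
  · let φ' : S →* Quo B := (qmap B).comp (φ.codRestrict (Nrm B) fun x => hXB ⟨x, rfl⟩)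
    have hφ' : ∀ x, φ' x = qel B (φ x) := fun x => (mel_of_mem (qmap B) (hXB ⟨x, rfl⟩)).symm
    have hr : φ'.range = φ.range ⧸ₙ B := by
      ext y
      rw [mem_quo]
      constructor
      · rintro ⟨x, rfl⟩; exact ⟨φ x, ⟨x, rfl⟩, hXB ⟨x, rfl⟩, (hφ' x).symm⟩
      · rintro ⟨_, ⟨x, rfl⟩, -, rfl⟩; exact ⟨x, hφ' x⟩
    have e1 := ih _ (hn ▸ card_lt_of_lt (lt_of_le_of_ne hBM h2)) φ B rfl hXB
      (fun h => hpM (h.trans (card_dvd_of_le hBM))) (sol_of_le hM hBM)
    have e2 := ih _ (hn ▸ H46.card_quo_lt ⟨hBM, hMB⟩ hB1) φ' (M ⧸ₙ B) rfl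
      (hr ▸ quo_nrm B hX) (fun h => hpM (h.trans (card_quo_dvd M B))) (sol_quo hM B)
    have e3 : ∀ x, Nat.card ↥(M ⊓ Cent (zpowers (φ x))) = Nat.card ↥(B ⊓ Cent (zpowers (φ x))) *
        Nat.card ↥((M ⧸ₙ B) ⊓ Cent (zpowers (φ' x))) := fun x => by
      rw [H5.card_inf_cent_eq_mul ⟨hBM, hMB⟩ ((hzx x).trans hXB) ((hzx x).trans hX) (hcX _ (hzx x))
        (Or.inr hM), quo_zpowers (hXB ⟨x, rfl⟩), hφ']
    rw [H5.card_inf_cent_eq_mul ⟨hBM, hMB⟩ hXB hX (hcX _ le_rfl) (Or.inr hM),
      ← H46.card_mul_card_quo ⟨hBM, hMB⟩, ← hr, mul_pow, mul_pow, mul_mul_mul_comm]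
    simp only [e3, mul_pow, Finset.prod_mul_distrib]
    exact Nat.mul_le_mul e1 e2

/-- the fixed point inequality -/
theorem key (hp : p.Prime) (hS : IsPGroup p S) {G : Type u} [Group G] [Finite G]
    (φ : S →* G) (M : Subgroup G) (hX : φ.range ≤ Nrm M) (hpM : ¬ p ∣ Nat.card M) :
    ∏ x : S, Nat.card ↥(M ⊓ Cent (zpowers (φ x))) ^ p ≤
      Nat.card ↥(M ⊓ Cent φ.range) ^ ((p - 1) * Fintype.card S) * Nat.card M ^ Fintype.card S := by
  have := Fact.mk hp
  have hR : IsPGroup p φ.range := hS.of_surjective φ.rangeRestrict φ.rangeRestrict_surjective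
  have hzx : ∀ x, zpowers (φ x) ≤ φ.range := fun x => zpowers_le.2 ⟨x, rfl⟩
  have hcX : ∀ L : Subgroup G, L ≤ φ.range → (Nat.card L).Coprime (Nat.card M) := fun L hL => by
    obtain ⟨k, hk⟩ := (IsPGroup.to_le hR hL).exists_card_eq
    rw [hk]
    exact ((Nat.Prime.coprime_iff_not_dvd hp).2 hpM).pow_left k
  have hsol : ∀ L : Subgroup G, L ≤ φ.range → Group.IsSolvable L := fun L hL => by
    have := (IsPGroup.to_le hR hL).isNilpotent
    infer_instance
  have hpos : ∀ L : Subgroup G, Nat.card L ≠ 0 := fun L => Nat.card_pos.ne'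
  refine Nat.le_of_dvd (Nat.pos_of_ne_zero (mul_ne_zero (pow_ne_zero _ (hpos _))
    (pow_ne_zero _ (hpos _)))) ((Nat.factorization_prime_le_iff_dvd (Finset.prod_ne_zero_iff.2
      fun x _ => pow_ne_zero _ (hpos _)) (mul_ne_zero (pow_ne_zero _ (hpos _))
    (pow_ne_zero _ (hpos _)))).1 fun q hq => ?_)
  obtain ⟨Q, hQ, hXQ⟩ := H47.exists_invariant_sylowOf hq hX (hcX _ le_rfl) (Or.inl (hsol _ le_rfl))
  have hc : ∀ L : Subgroup G, L ≤ φ.range → Nat.card ↥(Q ⊓ Cent L) =
      q ^ (Nat.card ↥(M ⊓ Cent L)).factorization q := fun L hL =>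
    H15.sylow_card hq (H15.coprime_Sylow_cent hq (hL.trans hX) (hcX L hL) (Or.inl (hsol L hL)) hQ
      (hL.trans hXQ))
  have := Fact.mk hq
  have hQs : Group.IsSolvable Q := by
    have := (hQ.isPGroup hq).isNilpotent
    infer_instance
  have k := key_sol hp hS _ φ Q rfl hXQ (fun h => hpM (h.trans (card_dvd_of_le hQ.1))) hQs
  simp only [hc _ (hzx _), hc _ le_rfl, H15.sylow_card hq hQ, ← pow_mul, ← pow_add,
    Finset.prod_pow_eq_pow_sum] at k
  rw [Nat.pow_le_pow_iff_right hq.one_lt] at k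
  rw [Nat.factorization_prod fun x _ => pow_ne_zero _ (hpos _), Nat.factorization_mul
    (pow_ne_zero _ (hpos _)) (pow_ne_zero _ (hpos _))]
  simp only [Nat.factorization_pow, Finsupp.coe_finsetSum, Finset.sum_apply, Finsupp.coe_smul,
    Pi.smul_apply, smul_eq_mul, Finsupp.coe_add, Pi.add_apply]
  simpa only [mul_comm] using k

end H76.Gh
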