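import Cfsg.Agent.H76.GhA
import Cfsg.Agent.H30.Casolo2

/-! The number of `p`-elements of a `p`-solvable group (S4091). -/

set_option autoImplicit false

namespace H76.Gh

open Cfsg Subgroup H98 H30.Cas

variable {G : Type*} [Group G] [Finite G] {p : ℕ} [hp : Fact p.Prime]

theorem card_cmod (H A B : Subgroup G) [A.Normal] (h : A ≤ B) :
    Nat.card (cmod H A B) = Nat.card A * Nat.card ↥(B.map (QuotientGroup.mk' A) ⊓
      centralizer (H.map (QuotientGroup.mk' A) : Set (G ⧸ A))) := by
  have e : cmod H A B = (B.map (QuotientGroup.mk' A) ⊓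
      centralizer (H.map (QuotientGroup.mk' A) : Set (G ⧸ A))).comap (QuotientGroup.mk' A) := by
    rw [comap_inf, comap_map_eq, QuotientGroup.ker_mk', sup_of_le_left h, cmod]
  rw [e]
  exact QuotientGroup.card_preimage_mk A ((B.map (QuotientGroup.mk' A) ⊓
      centralizer (H.map (QuotientGroup.mk' A) : Set (G ⧸ A)) : Subgroup (G ⧸ A)) : Set (G ⧸ A))

theorem key_cmod {T A B : Subgroup G} [Fintype T] [A.Normal] [B.Normal] (hT : IsPGroup p T)
    (h : A ≤ B) (hc : (A.relIndex B).Coprime p) :
    ∏ x : T, Nat.card (cmod (zpowers (x : G)) A B) ^ p ≤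
      Nat.card (cmod T A B) ^ ((p - 1) * Fintype.card T) * Nat.card B ^ Fintype.card T := by
  have hM : Nat.card (B.map (QuotientGroup.mk' A)) = A.relIndex B := by
    rw [← Subgroup.relIndex_ker, QuotientGroup.ker_mk']
  have hn : (B.map (QuotientGroup.mk' A)).Normal :=
    Subgroup.Normal.map inferInstance _ (QuotientGroup.mk'_surjective A)
  have k := key hp.out hT ((QuotientGroup.mk' A).comp T.subtype) (B.map (QuotientGroup.mk' A))
    le_normalizer_of_normal (by rw [hM]; exact hp.out.coprime_iff_not_dvd.1 hc.symm)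
  rw [MonoidHom.range_comp, range_subtype, hM] at k
  simp only [card_cmod _ A B h, MonoidHom.map_zpowers, mul_pow, Finset.prod_mul_distrib,
    Finset.prod_const, Finset.card_univ]
  rw [← H46.card_mul_relIndex h, mul_pow, mul_mul_mul_comm, ← pow_add, ← pow_mul]
  have : (p - 1) * Fintype.card T + Fintype.card T = p * Fintype.card T := by
    obtain ⟨k, rfl⟩ : ∃ k, p = k + 1 := ⟨p - 1, by have := hp.out.pos; omega⟩
    rw [Nat.add_sub_cancel, add_mul, one_mul]
  rw [this]
  exact Nat.mul_le_mul_left _ k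

theorem inv_chain (hG : IsPSolvable p G) {T : Subgroup G} [Fintype T] (hT : IsSyl p T ⊤) :
    ∏ x : T, Nat.card {g : G // zpowers (x : G) ≤ cj g T} ^ p ≤
      Nat.card {g : G // T ≤ cj g T} ^ ((p - 1) * Fintype.card T) *
        Nat.card G ^ Fintype.card T := by
  obtain ⟨n, M, h0, hn, hmono, hnormal, hfac⟩ := hG
  have hpt : (p - 1) * Fintype.card T + Fintype.card T = p * Fintype.card T := by
    obtain ⟨k, rfl⟩ : ∃ k, p = k + 1 := ⟨p - 1, by have := hp.out.pos; omega⟩
    rw [Nat.add_sub_cancel, add_mul, one_mul]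
  have main : ∀ i : Fin (n + 1), ∏ x : T, Nat.card {g : G // zpowers (x : G) ≤ cj g T ⊔ M i} ^ p ≤
      Nat.card {g : G // T ≤ cj g T ⊔ M i} ^ ((p - 1) * Fintype.card T) *
        Nat.card G ^ Fintype.card T := by
    intro i
    induction i using Fin.reverseInduction with
    | last =>
      simp only [hn, sup_top_eq, le_top, Nat.card_congr (Equiv.subtypeUnivEquiv fun _ : G => trivial),
        Finset.prod_const, Finset.card_univ]
      rw [← pow_add, ← pow_mul, hpt]
    | cast i ih =>
      have hle := hmono (Fin.castSucc_lt_succ (i := i)).le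
      by_cases hc : ((M i.castSucc).relIndex (M i.succ)).Coprime p
      · have k := key_cmod hT.isPGroup hle hc
        have s1 := fun x : T => card_step (H := zpowers (x : G))
          (hT.isPGroup.to_le (zpowers_le.2 x.2)) hT hle hc
        have s2 := card_step hT.isPGroup hT hle hc
        refine Nat.le_of_mul_le_mul_right ?_
          (pow_pos (Nat.card_pos (α := M i.succ)) (p * Fintype.card T))
        calc _ = ∏ x : T, (Nat.card {g : G // zpowers (x : G) ≤ cj g T ⊔ M i.castSucc} *
              Nat.card (M i.succ)) ^ p := by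
              simp only [mul_pow, Finset.prod_mul_distrib, Finset.prod_const, Finset.card_univ,
                pow_mul]
          _ = (∏ x : T, Nat.card {g : G // zpowers (x : G) ≤ cj g T ⊔ M i.succ} ^ p) *
              ∏ x : T, Nat.card (cmod (zpowers (x : G)) (M i.castSucc) (M i.succ)) ^ p := by
              simp only [s1, mul_pow, Finset.prod_mul_distrib]
          _ ≤ _ := Nat.mul_le_mul ih k
          _ = _ := by
              rw [mul_mul_mul_comm, ← mul_pow, ← s2, ← hpt, pow_add, mul_pow]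
              ring
      · obtain ⟨m, hm⟩ := (hfac i).resolve_right hc
        have e : ∀ g, cj g T ⊔ M i.castSucc = cj g T ⊔ M i.succ := fun g =>
          sup_eq_of_pow (hT.cj_of_mem (mem_top g)) hle hm
        simpa only [e] using ih
  simpa only [h0, sup_bot_eq] using main 0

omit hp in
theorem count (T : Subgroup G) [Fintype T] (hT : IsPGroup p T) [Fact p.Prime] :
    (Nat.card G * Fintype.card T) ^ Fintype.card T ≤
      Nat.card {g : G // ∃ k : ℕ, orderOf g = p ^ k} ^ Fintype.card T *
        ∏ x : T, Nat.card {g : G // zpowers (x : G) ≤ cj g T} := by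
  classical
  have := Fintype.ofFinite G
  set U := {g : G // ∃ k : ℕ, orderOf g = p ^ k}
  set W : G → ℕ := fun y => Nat.card {g : G // zpowers y ≤ cj g T} with hW
  have hWc : ∀ g y, W (g * y * g⁻¹) = W y := fun g y =>
    (Nat.card_congr ((Equiv.mulLeft g).subtypeEquiv fun h => by
      simp only [zpowers_le, mem_cj, Equiv.coe_mulLeft]
      rw [show (g * h)⁻¹ * (g * y * g⁻¹) * (g * h) = h⁻¹ * y * h by group])).symm
  have hWpos : ∀ x : T, 0 < W x := fun x => by
    have : Nonempty {g : G // zpowers (x : G) ≤ cj g T} := ⟨⟨1, by simp⟩⟩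
    exact Nat.card_pos
  let F : G × T → U := fun a => ⟨a.1 * a.2 * a.1⁻¹, by
    obtain ⟨k, hk⟩ := IsPGroup.iff_orderOf.1 hT a.2
    refine ⟨k, ?_⟩
    rw [← hk, ← Subgroup.orderOf_coe]
    exact (MulAut.conj a.1).orderOf_eq _⟩
  have h1 : (Nat.card G : ℝ) * ∑ x : T, (W x : ℝ)⁻¹ ≤ Nat.card U := by
    have e1 : (Nat.card G : ℝ) * ∑ x : T, (W x : ℝ)⁻¹ = ∑ a : G × T, (W (F a).1 : ℝ)⁻¹ := by
      rw [Fintype.sum_prod_type]
      simp only [F, hWc, Finset.sum_const, Finset.card_univ, nsmul_eq_mul, Nat.card_eq_fintype_card]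
    rw [e1, ← Finset.sum_fiberwise (s := Finset.univ) (g := F), Nat.card_eq_fintype_card,
      ← Finset.card_univ, Finset.card_eq_sum_ones, Nat.cast_sum]
    refine Finset.sum_le_sum fun y _ => ?_
    rw [Finset.sum_congr rfl (g := fun _ => (W y.1 : ℝ)⁻¹) fun a ha => by
      rw [(Finset.mem_filter.1 ha).2], Finset.sum_const, nsmul_eq_mul, Nat.cast_one]
    refine mul_inv_le_one_of_le₀ ?_ (Nat.cast_nonneg _)
    rw [Nat.cast_le, ← Nat.card_eq_finsetCard]
    refine Nat.card_le_card_of_injective (fun a => ⟨a.1.1, ?_⟩) ?_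
    · have := congrArg Subtype.val (Finset.mem_filter.1 a.2).2
      rw [zpowers_le, ← this, mem_cj]
      simp [F, mul_assoc]
    · intro a b e
      have e1 : a.1.1 = b.1.1 := congrArg Subtype.val e
      have e2 := congrArg Subtype.val
        ((Finset.mem_filter.1 a.2).2.trans (Finset.mem_filter.1 b.2).2.symm)
      simp only [F, e1, mul_left_inj, mul_right_inj] at e2
      exact Subtype.ext (Prod.ext e1 (Subtype.ext e2))
  set t := Fintype.card T with ht
  have htpos : 0 < t := Fintype.card_pos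
  have htR : (0 : ℝ) < t := by exact_mod_cast htpos
  have h2 := Real.geom_mean_le_arith_mean_weighted Finset.univ (fun _ : T => (t : ℝ)⁻¹)
    (fun x => (W x : ℝ)⁻¹) (fun _ _ => by positivity)
    (by rw [Finset.sum_const, Finset.card_univ, nsmul_eq_mul, mul_inv_cancel₀ htR.ne'])
    (fun _ _ => by positivity)
  rw [Real.finsetProd_rpow _ _ (fun _ _ => by positivity), ← Finset.mul_sum] at h2
  have h3 := pow_le_pow_left₀ (by positivity) h2 t
  rw [Real.rpow_inv_natCast_pow (by positivity) htpos.ne', Finset.prod_inv_distrib] at h3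
  have hP : (0 : ℝ) < ∏ x : T, (W x : ℝ) := Finset.prod_pos fun x _ => by exact_mod_cast hWpos x
  have h4 := pow_le_pow_left₀ (by positivity) h1 t
  rw [← Nat.cast_le (α := ℝ)]
  push_cast
  change ((Nat.card G : ℝ) * t) ^ t ≤ (Nat.card U : ℝ) ^ t * ∏ x : T, (W x : ℝ)
  generalize (∏ x : T, (W x : ℝ)) = A at *
  generalize (∑ x : T, (W x : ℝ)⁻¹) = B at *
  have hg : (0 : ℝ) ≤ Nat.card G := Nat.cast_nonneg _
  generalize (Nat.card G : ℝ) = g at *
  generalize (Nat.card U : ℝ) = u at *
  calc (g * t) ^ t = (g * t) ^ t * A⁻¹ * A := by rw [inv_mul_cancel_right₀ hP.ne']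
    _ ≤ (g * t) ^ t * ((t : ℝ)⁻¹ * B) ^ t * A := by gcongr
    _ = (g * B) ^ t * A := by
        rw [← mul_pow, mul_assoc, mul_inv_cancel_left₀ htR.ne']
    _ ≤ _ := mul_le_mul_of_nonneg_right h4 hP.le

theorem result (hG : IsPSolvable p G) (P : Sylow p G) :
    Nat.card (P : Subgroup G) ^ p * Nat.card (Sylow p G) ^ (p - 1) ≤
      Nat.card {g : G // ∃ k : ℕ, orderOf g = p ^ k} ^ p := by
  have := Fintype.ofFinite (P : Subgroup G)
  have h1 := inv_chain hG (isSyl_sylow P)
  have h2 := count (p := p) (P : Subgroup G) P.isPGroup'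
  have h3 : Nat.card {g : G // (P : Subgroup G) ≤ cj g P} =
      Nat.card (normalizer ((P : Subgroup G) : Set G)) := by
    rw [card_le_cj]
    have : Unique {Q : Sylow p G // (P : Subgroup G) ≤ (Q : Subgroup G)} :=
      ⟨⟨⟨P, le_rfl⟩⟩, fun Q => Subtype.ext (Sylow.ext (P.is_maximal' Q.1.isPGroup' Q.2))⟩
    rw [Nat.card_unique, one_mul]
  have h4 : Nat.card G = Nat.card (normalizer ((P : Subgroup G) : Set G)) * Nat.card (Sylow p G) := by
    rw [P.card_eq_index_normalizer]
    exact (card_mul_index _).symm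
  rw [h3, Finset.prod_pow] at h1
  rw [Nat.card_eq_fintype_card (α := (P : Subgroup G))]
  set t := Fintype.card (P : Subgroup G)
  set N := Nat.card (normalizer ((P : Subgroup G) : Set G))
  set u := Nat.card {g : G // ∃ k : ℕ, orderOf g = p ^ k}
  set n := Nat.card (Sylow p G)
  have htpos : t ≠ 0 := Fintype.card_pos.ne'
  have hN : 0 < N := Nat.card_pos
  have hGp : 0 < Nat.card G := Nat.card_pos
  rw [← Nat.pow_le_pow_iff_left htpos]
  have h5 := Nat.pow_le_pow_left h2 p
  rw [mul_pow (u ^ t)] at h5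
  have h6 := h5.trans (Nat.mul_le_mul_left _ h1)
  obtain ⟨k, hk⟩ : ∃ k, p = k + 1 := ⟨p - 1, by have := hp.out.pos; omega⟩
  refine Nat.le_of_mul_le_mul_right ?_ (mul_pos (pow_pos hN ((p - 1) * t)) (pow_pos hGp t))
  refine le_of_eq_of_le ?_ (h6.trans (le_of_eq (by ring)))
  rw [h4, hk, Nat.add_sub_cancel]
  ring

end H76.Gh
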