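import Cfsg.Agent.Base
import Cfsg.Agent.H22.ShultFpf

/-! Exceptional case of the Hall-Higman-Shult theorem for `p = 2`, with index information. -/

set_option autoImplicit false

namespace H76

open Module Polynomial H22

variable {K V P : Type*} [Field K] [AddCommGroup V] [Module K V] [Group P]

/-- Elements fixed by `γ` modulo the normal subgroup `D`. -/
def fx (γ : MulAut P) (D : Subgroup P) [hD : D.Normal] : Subgroup P where
  carrier := {t | t⁻¹ * γ t ∈ D}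
  mul_mem' := fun {s t} hs ht => by
    have h1 := D.mul_mem (hD.conj_mem' _ hs t) ht
    simp only [Set.mem_ofPred_eq, map_mul]
    convert h1 using 1; group
  one_mem' := by simp
  inv_mem' := fun {t} ht => by
    have h1 := hD.conj_mem _ (D.inv_mem ht) t
    simp only [Set.mem_ofPred_eq, map_inv]
    convert h1 using 1; group

theorem mem_fx {γ : MulAut P} {D : Subgroup P} [D.Normal] {t : P} :
    t ∈ fx γ D ↔ t⁻¹ * γ t ∈ D := Iff.rfl

/-- Restriction of an automorphism to an invariant subgroup. -/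
noncomputable def resAut [Finite P] (α : MulAut P) (D : Subgroup P) (h : ∀ d ∈ D, α d ∈ D) :
    MulAut D :=
  { restrictPerm α D h with map_mul' := fun a b => Subtype.ext (map_mul α (a : P) b) }

theorem resAut_pow [Finite P] (α : MulAut P) (D : Subgroup P) (h : ∀ d ∈ D, α d ∈ D) (i : ℕ)
    (d : D) : (((resAut α D h) ^ i) d : P) = (α ^ i) d := by
  induction i with
  | zero => simp
  | succ i ih => rw [pow_succ', MulAut.mul_apply, pow_succ', MulAut.mul_apply, ← ih]; rfl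

theorem normal_of_center_le (hcomm : ∀ s t : P, s * t * s⁻¹ * t⁻¹ ∈ Subgroup.center P)
    {D : Subgroup P} (h : Subgroup.center P ≤ D) : D.Normal :=
  ⟨fun d hd s => by simpa using mul_mem (h (hcomm s d)) hd⟩

theorem aut_mem_center (γ : MulAut P) {z : P} (hz : z ∈ Subgroup.center P) :
    γ z ∈ Subgroup.center P := by
  rw [Subgroup.mem_center_iff] at hz ⊢
  intro s
  obtain ⟨s, rfl⟩ := γ.surjective s
  rw [← map_mul, ← map_mul, hz]

theorem comm_mul_center {a b y z : P} (hz : z ∈ Subgroup.center P) (hy : y ∈ Subgroup.center P) :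
    a * z * (b * y) * (a * z)⁻¹ * (b * y)⁻¹ = a * b * a⁻¹ * b⁻¹ := by
  have h1 := Subgroup.mem_center_iff.1 hz (b * y)
  have h2 := Subgroup.mem_center_iff.1 hy a⁻¹
  calc _ = a * (z * (b * y)) * z⁻¹ * a⁻¹ * y⁻¹ * b⁻¹ := by group
    _ = a * b * (y * a⁻¹) * y⁻¹ * b⁻¹ := by rw [← h1]; group
    _ = _ := by rw [← h2]; group

/-- Elements inverted by `β` modulo the center. -/
def invC (hcomm : ∀ s t : P, s * t * s⁻¹ * t⁻¹ ∈ Subgroup.center P) (β : MulAut P) : Subgroup P where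
  carrier := {t | t * β t ∈ Subgroup.center P}
  mul_mem' := fun {s t} hs ht => by
    have h2 := mul_mem (mul_mem hs (hcomm (β s)⁻¹ t)) ht
    simp only [Set.mem_ofPred_eq, map_mul]
    have h3 : s * t * (β s * β t) = s * β s * ((β s)⁻¹ * t * (β s)⁻¹⁻¹ * t⁻¹) * (t * β t) := by group
    rw [h3]; exact h2
  one_mem' := by simp
  inv_mem' := fun {t} ht => by
    have h1 := (inferInstance : (Subgroup.center P).Normal).conj_mem' _ (inv_mem ht) t
    simp only [Set.mem_ofPred_eq, map_inv]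
    convert h1 using 1; group

theorem exists_sq_eq_of_odd {q : ℕ} (hq : q.Prime) (hq2 : q ≠ 2) (hP : IsPGroup q P) (t : P) :
    ∃ j : ℕ, (t ^ j) * (t ^ j) = t := by
  obtain ⟨k, hk⟩ := hP t
  obtain ⟨j, hj⟩ : Odd (q ^ k) := (hq.odd_of_ne_two hq2).pow
  refine ⟨j + 1, ?_⟩
  rw [← pow_add, show j + 1 + (j + 1) = q ^ k + 1 by omega, pow_succ, hk, one_mul]

theorem gr_wt [Finite P] [IsAlgClosed K] [FiniteDimensional K V] (ρ : Representation K P V)
    {q : ℕ} [hq : Fact q.Prime] (hq2 : q ≠ 2) (hqK : (q : K) ≠ 0) (hP : IsPGroup q P)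
    (hcomm : ∀ s t : P, s * t * s⁻¹ * t⁻¹ ∈ Subgroup.center P) (hρ : Function.Injective ρ)
    (α : MulAut P) (x : Module.End K V) (hx : ∀ t, x * ρ t = ρ (α t) * x) (n : ℕ)
    (hxn : x ^ 2 ^ (n + 1) = 1) (hαn : α ^ 2 ^ (n + 1) = 1)
    (hβ : ∀ z ∈ Subgroup.center P, (α ^ 2 ^ n) z = z)
    (hnt : ∃ t, t⁻¹ * (α ^ 2 ^ n) t ∉ Subgroup.center P)
    (g : K[X]) (hg : aeval x g = 0) (hng : ¬ X ^ 2 ^ (n + 1) - 1 ∣ g) :
    ∃ k l m : ℕ, k + l = n ∧ 1 ≤ m ∧ 2 ^ (l + 1) = q ^ m + 1 ∧ ∃ (D : Subgroup P) (_ : D.Normal),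
      Subgroup.center P ≤ D ∧ D ≠ ⊤ ∧ (∀ t ∈ D, (α ^ 2 ^ k) t ∈ D) ∧
      (∀ γ : MulAut P, (∀ z ∈ Subgroup.center P, γ z = z) → ∀ t ∈ D, γ t ∈ D) ∧
      (fx (α ^ 2 ^ n) D).index ≤ (q ^ m) ^ 2 := by
  have hp : Fact (Nat.Prime 2) := ⟨Nat.prime_two⟩
  have hxi := injective_of_pow_eq_one (by positivity) hxn
  set Z := Subgroup.center P with hZdef
  set β := α ^ 2 ^ n with hβdef
  have hββ : ∀ t, β (β t) = t := by
    intro t
    rw [← MulAut.mul_apply, hβdef, ← pow_add, ← two_mul, ← pow_succ', hαn]; rfl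
  have hαβ : ∀ (i : ℕ) t, (α ^ i) (β t) = β ((α ^ i) t) := by
    intro i t
    rw [← MulAut.mul_apply, ← MulAut.mul_apply, hβdef, ← pow_add, ← pow_add, add_comm]
  set P₁ := invC hcomm β with hP₁
  have hmem₁ : ∀ t, t ∈ P₁ ↔ t * β t ∈ Z := fun t => Iff.rfl
  have hαP₁ : ∀ (i : ℕ), ∀ t ∈ P₁, (α ^ i) t ∈ P₁ := by
    intro i t ht
    rw [hmem₁, ← hαβ, ← map_mul]
    exact aut_mem_center _ ht
  have hZP₁ : Z ≤ P₁ := fun z hz => mul_mem hz (aut_mem_center _ hz)
  have hsqZ : ∀ t, t * t ∈ Z → t ∈ Z := by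
    intro t ht
    obtain ⟨j, hj⟩ := exists_sq_eq_of_odd hq.out hq2 hP t
    rw [← hj, ← (Commute.refl t).mul_pow]
    exact pow_mem ht j
  have hF₁ : ∀ t ∈ P₁, t⁻¹ * β t ∈ Z → t ∈ Z := by
    intro t ht h
    apply hsqZ
    have := Z.mul_mem ((hmem₁ t).1 ht) (Z.inv_mem h)
    simpa using this
  have hxi' : ∀ (i : ℕ) t, x ^ i * ρ t = ρ ((α ^ i) t) * x ^ i := by
    intro i t
    induction i with
    | zero => simp
    | succ i ih => rw [pow_succ', mul_assoc, ih, ← mul_assoc, hx, pow_succ', mul_assoc]; rfl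
  have hfo' : ∀ d : P, ∃ n : ℕ, (n : K) ≠ 0 ∧ ρ d ^ n = 1 := by
    intro d
    obtain ⟨k, hk⟩ := hP d
    exact ⟨q ^ k, by simpa using fun h => absurd h hqK, by rw [← map_pow, hk, map_one]⟩
  -- `P₁` acts non-commutatively
  obtain ⟨s₀, hs₀, t₀, ht₀, hst⟩ : ∃ s ∈ P₁, ∃ t ∈ P₁, ρ s * ρ t ≠ ρ t * ρ s := by
    by_contra hc
    push Not at hc
    obtain ⟨t, ht⟩ := hnt
    have hu : t⁻¹ * β t ∈ P₁ := by
      rw [hmem₁, map_mul, map_inv, hββ]; simp [Z]
    refine hng (hh_abelian (fun d : P₁ => ρ d) (fun a b => hc a a.2 b b.2) (fun d => hfo' d) x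
      (restrictPerm α P₁ (by simpa using hαP₁ 1)) (fun d => hx d) n hxn ⟨⟨_, hu⟩, ?_⟩ g hg)
    rw [restrictPerm_pow_apply]
    intro h
    apply ht
    apply hF₁ _ hu
    rw [hρ h, inv_mul_cancel]; exact one_mem _
  have hαZ : ∀ z ∈ Z, α z ∈ Z := fun z hz => aut_mem_center _ hz
  let f : Z → Module.End K V := fun z => ρ z
  have hfc : ∀ s t, Commute (f s) (f t) := by
    intro s t
    change ρ s * ρ t = ρ t * ρ s
    rw [← map_mul, ← map_mul, Subgroup.mem_center_iff.1 t.2]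
  have h1 := mt (ext_of_wt f hfc (fun s => hfo' s) _ _) hst
  push Not at h1
  obtain ⟨χ, v, hv, hne⟩ := h1
  let a := restrictPerm α Z hαZ
  have hxa : ∀ s, x * f s = f (a s) * x := fun s => hx s
  have hper : Function.IsPeriodicPt (fun ψ : Z → K => ψ ∘ a.symm) (2 ^ n) χ := by
    funext s
    have h2 := iterate_comp_symm_apply a χ (2 ^ n) s
    have h3 : (a ^ 2 ^ n) s = s := Subtype.ext (by rw [restrictPerm_pow_apply, hβ _ s.2])
    rwa [h3] at h2
  obtain ⟨k, hk, hm⟩ := (Nat.dvd_prime_pow hp.out).1 hper.minimalPeriod_dvd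
  obtain ⟨l, rfl⟩ := Nat.exists_eq_add_of_le hk
  have hWx : ∀ w ∈ wt f χ, (x ^ 2 ^ k) w ∈ wt f χ := by
    intro w hw
    have h := pow_mem_wt f x a hxa χ hw (2 ^ k)
    rwa [← hm, Function.iterate_minimalPeriod, hm] at h
  let W : Subrepresentation ρ := ⟨wt f χ, by
    intro t w hw s
    change ρ s (ρ t w) = _
    rw [← Module.End.mul_apply, ← map_mul, ← Subgroup.mem_center_iff.1 s.2, map_mul,
      Module.End.mul_apply]
    have := hw s
    simp only [f] at this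
    rw [this, map_smul]⟩
  let x₁ : Module.End K W.toSubmodule := (x ^ 2 ^ k).restrict hWx
  have hx₁n : x₁ ^ 2 ^ (l + 1) = 1 := by
    ext w
    rw [pow_restrict_apply, ← pow_mul, ← pow_add, ← add_assoc, hxn]; rfl
  have hpow : (α ^ 2 ^ k) ^ 2 ^ l = β := by rw [← pow_mul, ← pow_add]
  have hexp : expand K (2 ^ k) (minpoly K x₁) ∣ g := by
    refine expand_dvd_of_wt f x a hxa hxi χ _ hm (by positivity) _ (fun g' hg' => ?_) g
      (fun w _ => by rw [hg]; rfl)
    apply minpoly.dvd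
    ext w
    rw [aeval_restrict_apply]
    exact hg' w w.2
  have hexp1 : expand K (2 ^ k) (X ^ 2 ^ (l + 1) - 1) = X ^ 2 ^ (k + l + 1) - 1 := by
    simp only [map_sub, map_pow, expand_X, map_one]
    rw [← pow_mul, ← pow_add, add_assoc]
  let σ : Representation K P₁ W.toSubmodule := W.toRepresentation.comp P₁.subtype
  let α₁ : MulAut P₁ := resAut (α ^ 2 ^ k) P₁ (hαP₁ _)
  have hα₁ : ∀ t : P₁, ((α₁ ^ 2 ^ l) t : P) = β t := fun t => by rw [resAut_pow, hpow]
  rcases hh_scalar' σ hqK (hP.to_subgroup P₁) (Z.subgroupOf P₁)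
    (fun z hz => ⟨χ ⟨z, hz⟩, by ext w; exact w.2 ⟨z, hz⟩⟩) (fun s t => hcomm s t)
    ⟨⟨s₀, hs₀⟩, ⟨t₀, ht₀⟩,
      fun h => hne (congrArg (fun A : Module.End K W.toSubmodule => (A ⟨v, hv⟩ : V)) h)⟩
    α₁ x₁
    (fun t => by ext w; exact congrArg (fun A : Module.End K V => A w) (hxi' (2 ^ k) t))
    l hx₁n (by
      ext t
      rw [resAut_pow, ← pow_mul, ← pow_add, ← add_assoc, hαn]; rfl)
    (by intro z hz; rw [Subgroup.mem_subgroupOf, hα₁]; exact aut_mem_center _ hz)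
    (by
      intro t ht
      rw [Subgroup.mem_subgroupOf] at ht ⊢
      apply hF₁ _ t.2
      simpa [hα₁] using ht)
    (minpoly K x₁) (minpoly.aeval K x₁) with h | ⟨m, hm1, hm2, hm3, -⟩
  · rw [← hexp1] at hng
    exact absurd ((_root_.map_dvd (expand K (2 ^ k)) h).trans hexp) hng
  have hv0 : v ≠ 0 := by rintro rfl; simp at hne
  have hcv : ∀ s t : P, χ ⟨_, hcomm s t⟩ = 1 ↔
      W.toRepresentation s * W.toRepresentation t = W.toRepresentation t * W.toRepresentation s := by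
    intro s t
    rw [rep_comm_iff]
    constructor
    · intro h
      ext w
      have := w.2 ⟨_, hcomm s t⟩
      rw [h, one_smul] at this
      exact this
    · intro h
      have h1 : f ⟨_, hcomm s t⟩ v = v :=
        congrArg (fun A : Module.End K W.toSubmodule => (A ⟨v, hv⟩ : V)) h
      rw [hv] at h1
      exact smul_left_injective K hv0 (h1.trans (one_smul K v).symm)
  set D := centD W.toRepresentation with hD
  have hmemD : ∀ t, t ∈ D ↔ ∀ s, χ ⟨_, hcomm s t⟩ = 1 := fun t => by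
    rw [mem_centD]; exact forall_congr' fun s => (hcv s t).symm
  have hZD : Z ≤ D := by
    intro z hz
    rw [mem_centD]
    intro s
    rw [← map_mul, ← map_mul, Subgroup.mem_center_iff.1 hz]
  have hDn : D.Normal := normal_of_center_le hcomm hZD
  have hχper : ∀ z, χ ((a ^ 2 ^ k) z) = χ z := by
    intro z
    have h2 := iterate_comp_symm_apply a χ (2 ^ k) z
    rwa [← hm, Function.iterate_minimalPeriod, hm] at h2
  have hγD : ∀ γ : MulAut P, (∀ z ∈ Z, γ z = z) → ∀ t ∈ D, γ t ∈ D := by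
    intro γ hγ t ht
    rw [hmemD] at ht ⊢
    intro s
    obtain ⟨s, rfl⟩ := γ.surjective s
    rw [← ht s]
    congr 2
    rw [← hγ _ (hcomm s t)]; simp
  refine ⟨k, l, m, rfl, hm1, hm2, D, hDn, hZD, fun h => ?_, fun t ht => ?_, hγD, ?_⟩
  · exact hne (congrArg (fun A : Module.End K W.toSubmodule => (A ⟨v, hv⟩ : V))
      (mem_centD.1 (h ▸ Subgroup.mem_top t₀ : t₀ ∈ D) s₀))
  · rw [hmemD] at ht ⊢
    intro s
    obtain ⟨s, rfl⟩ := (α ^ 2 ^ k).surjective s
    rw [← ht s, ← hχper ⟨_, hcomm s t⟩]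
    refine congrArg χ (Subtype.ext ?_)
    rw [restrictPerm_pow_apply]; simp
  -- decomposition `P = P₁ C`
  have hdec : ∀ t : P, ∃ u ∈ P₁, ∃ c, c⁻¹ * β c ∈ Z ∧ t = u * c := by
    intro t
    obtain ⟨j, hj⟩ := exists_sq_eq_of_odd hq.out hq2 hP t
    set w := t ^ j
    refine ⟨w * (β w)⁻¹, ?_, β w * w, ?_, by rw [← hj]; group⟩
    · rw [hmem₁, map_mul, map_inv, hββ]; simp [Z]
    · rw [map_mul, hββ]
      convert hcomm w⁻¹ (β w)⁻¹ using 1; group
  have hcu : ∀ u ∈ P₁, ∀ c, c⁻¹ * β c ∈ Z → c * u = u * c := by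
    intro u hu c hc
    have e1 : β (c * u * c⁻¹ * u⁻¹) = c * u * c⁻¹ * u⁻¹ := hβ _ (hcomm c u)
    obtain ⟨z, hz, hz'⟩ : ∃ z ∈ Z, β c = c * z := ⟨_, hc, by group⟩
    obtain ⟨y, hy, hy'⟩ : ∃ y ∈ Z, β u = u⁻¹ * y := ⟨_, hu, by group⟩
    have hw1 := Subgroup.mem_center_iff.1 (hcomm c u)
    simp only [map_mul, map_inv, hz', hy'] at e1
    have e2 : c * u⁻¹ * c⁻¹ * u = c * u * c⁻¹ * u⁻¹ := by
      rw [← e1]
      rw [comm_mul_center hz hy, inv_inv]
    set w := c * u * c⁻¹ * u⁻¹ with hw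
    have e3 : w * w = 1 := by
      calc w * w = u⁻¹ * (u * w) * w := by group
        _ = u⁻¹ * (w * u) * (c * u⁻¹ * c⁻¹ * u) := by rw [hw1 u, e2]
        _ = 1 := by rw [hw]; group
    obtain ⟨j, hj⟩ := exists_sq_eq_of_odd hq.out hq2 hP w
    rw [← (Commute.refl w).mul_pow, e3, one_pow] at hj
    calc c * u = w * (u * c) := by rw [hw]; group
      _ = _ := by rw [← hj, one_mul]
  have hD₁ : (centD σ).map P₁.subtype ≤ fx β D := by
    rintro _ ⟨t, ht, rfl⟩
    have htD : (t : P) ∈ D := by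
      rw [mem_centD]
      intro s
      obtain ⟨u, hu, c, hc, rfl⟩ := hdec s
      have e1 : W.toRepresentation u * W.toRepresentation t =
        W.toRepresentation t * W.toRepresentation u := mem_centD.1 ht ⟨u, hu⟩
      rw [map_mul, mul_assoc, ← map_mul _ c, hcu t t.2 c hc, map_mul, ← mul_assoc, e1, mul_assoc]
    exact mul_mem (inv_mem htD) (hγD β hβ _ htD)
  rw [← hm3]
  refine Nat.card_le_card_of_surjective
    (Quotient.map' (s₁ := QuotientGroup.leftRel (centD σ)) (s₂ := QuotientGroup.leftRel (fx β D))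
      (fun t : P₁ => (t : P)) ?_) ?_
  · intro s t hst
    rw [QuotientGroup.leftRel_apply] at hst ⊢
    exact hD₁ ⟨_, hst, rfl⟩
  · intro t
    induction t using Quotient.inductionOn' with | h t => ?_
    obtain ⟨u, hu, c, hc, rfl⟩ := hdec t
    refine ⟨Quotient.mk'' ⟨u, hu⟩, ?_⟩
    rw [Quotient.map'_mk'', Quotient.eq'', QuotientGroup.leftRel_apply]
    simpa [mem_fx] using hZD hc

end H76
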