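import Cfsg.Agent.Base
import Cfsg.Agent.H76.GrA
import Cfsg.Agent.H5.FrobAction

/-! The three-step configuration in Gross's theorem on fixed-point-free `2`-automorphisms. -/

set_option autoImplicit false

namespace H76

open Module Polynomial H22
open scoped commutatorElement

variable {K V P : Type*} [Field K] [AddCommGroup V] [Module K V] [Group P]

theorem gr_mod_four {s l m : ℕ} (hs : s.Prime) (hs2 : s ≠ 2) (hm : 1 ≤ m)
    (h : 2 ^ (l + 1) = s ^ m + 1) : s % 4 = 3 ∧ 1 ≤ l := by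
  have h3 : 3 ≤ s := by have := hs.two_le; omega
  have h4 : s ≤ s ^ m := Nat.le_self_pow (by omega) s
  have hl : 1 ≤ l := by
    rcases l with _ | l
    · simp at h; omega
    · omega
  refine ⟨?_, hl⟩
  obtain ⟨l, rfl⟩ := Nat.exists_eq_add_of_le' hl
  have h5 : s % 2 = 1 := Nat.odd_iff.1 (hs.odd_of_ne_two hs2)
  by_contra h6
  have h7 : s % 4 = 1 := by omega
  have h8 : s ^ m % 4 = 1 := by rw [Nat.pow_mod, h7]; simp
  rw [pow_succ, pow_succ] at h
  omega

theorem gr_arith {q k l m d : ℕ} (hq : q.Prime) (hq2 : q ≠ 2) (hm : 1 ≤ m)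
    (h : 2 ^ (l + 1) = q ^ m + 1) (h1 : 2 ^ (k + l) < 2 * d) (h2 : d ≤ m * 2 * 2 ^ k) :
    q = 3 ∧ m = 1 := by
  have h3 : 3 ≤ q := by have := hq.two_le; omega
  have h4 : 2 ^ l < 4 * m := by
    have : 2 ^ k * 2 ^ l < 2 ^ k * (4 * m) := by rw [← pow_add]; nlinarith
    exact Nat.lt_of_mul_lt_mul_left this
  have h5 : 3 ^ m ≤ q ^ m := Nat.pow_le_pow_left h3 m
  have h6 : ∀ j, 8 * (j + 3) ≤ 3 ^ (j + 3) := by
    intro j
    induction j with
    | zero => norm_num
    | succ j ih => rw [add_right_comm, pow_succ]; omega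
  have h7 : m ≤ 2 := by
    by_contra h8
    obtain ⟨j, rfl⟩ := Nat.exists_eq_add_of_le' (by omega : 3 ≤ m)
    have := h6 j
    rw [pow_succ] at h
    omega
  have h9 := (gr_mod_four hq hq2 hm h).1
  rw [pow_succ] at h
  interval_cases m
  · simp at h; omega
  · have : q * q < 16 := by rw [← sq]; omega
    have hq3 : q = 3 := by nlinarith
    subst hq3
    have hl : l < 3 := (Nat.pow_lt_pow_iff_right (by norm_num : 1 < 2)).1 (by omega)
    interval_cases l <;> omega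

theorem gr_dim {B : Type*} [Group B] [Finite B] [FiniteDimensional K V] (ρ : Representation K B V)
    {s : ℕ} [hs : Fact s.Prime] (hs2 : s ≠ 2) (hsK : (s : K) ≠ 0) (R : Subgroup B)
    (hR : IsPGroup s R) (x : B) (hxR : x ∈ Subgroup.normalizer (R : Set B)) (n : ℕ)
    (hxn : ρ x ^ 2 ^ (n + 1) = 1) (hy : ∃ t ∈ R, ρ x ^ 2 ^ n * ρ t ≠ ρ t * ρ x ^ 2 ^ n)
    (hfix : fixSp ρ {x} = ⊥) :
    s % 4 = 3 ∧ 2 * finrank K (fixSp ρ {x ^ 2 ^ n}) + 2 ^ n < 2 * finrank K V := by
  have hp : Fact (Nat.Prime 2) := ⟨Nat.prime_two⟩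
  obtain ⟨g0, g1⟩ := natDegree_geom_sum_X (K := K) (2 ^ (n + 1)) (by positivity)
  obtain ⟨g2, g3⟩ := natDegree_geom_sum_X (K := K) (2 ^ n) (by positivity)
  rcases hh_degree ρ hs2.symm hsK R hR x hxR n hxn hy _ g0
    (aeval_geom_sum_eq_zero ρ x _ hxn hfix) with h | ⟨k, l, m, -, hm, hl, -⟩
  · omega
  refine ⟨(gr_mod_four hs.out hs2 hm hl).1, ?_⟩
  set T := ρ x ^ 2 ^ n - 1 with hT
  have hc : ρ x * T = T * ρ x := by
    rw [hT, mul_sub, sub_mul, ← pow_succ, ← pow_succ']; simp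
  have hU : ∀ v ∈ LinearMap.range T, ρ x v ∈ LinearMap.range T := by
    rintro _ ⟨w, rfl⟩
    exact ⟨ρ x w, by rw [← Module.End.mul_apply, ← hc]; rfl⟩
  set g := ((ρ x).restrict hU).charpoly with hg
  have hker : LinearMap.ker T = fixSp ρ {x ^ 2 ^ n} := by
    ext v
    simp [hT, mem_fixSp, sub_eq_zero]
  have hdim := T.finrank_range_add_finrank_ker
  rw [hker] at hdim
  have hdeg : g.natDegree = finrank K (LinearMap.range T) := LinearMap.charpoly_natDegree _
  have hsurj : Function.Surjective (ρ x - 1 : Module.End K V) := by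
    rw [← LinearMap.injective_iff_surjective, ← LinearMap.ker_eq_bot, eq_bot_iff, ← hfix]
    intro v hv s hs
    rw [Set.mem_singleton_iff.1 hs]
    simpa [sub_eq_zero] using hv
  have hkill : aeval (ρ x) (g * ∑ i ∈ Finset.range (2 ^ n), (X : K[X]) ^ i) = 0 := by
    ext v
    obtain ⟨w, rfl⟩ := hsurj v
    have h1 : (∑ i ∈ Finset.range (2 ^ n), (X : K[X]) ^ i) * (X - 1) = X ^ 2 ^ n - 1 :=
      geom_sum_mul _ _
    have h2 := congrArg (fun g => aeval (ρ x) g w) h1
    simp only [map_mul, map_sub, aeval_X, map_one, map_pow, Module.End.mul_apply] at h2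
    rw [map_mul, Module.End.mul_apply, h2]
    have h3 := aeval_restrict_apply (ρ x) _ hU g ⟨T w, w, rfl⟩
    rw [hg, LinearMap.aeval_self_charpoly] at h3
    exact h3.symm
  have hg0 : g ≠ 0 := (LinearMap.charpoly_monic _).ne_zero
  rcases hh_degree ρ hs2.symm hsK R hR x hxR n hxn hy _ (mul_ne_zero hg0 g2) hkill with
    h | ⟨k, l, m, rfl, hm, hl, -, h⟩
  · rw [natDegree_mul hg0 g2, pow_succ] at h
    omega
  · rw [natDegree_mul hg0 g2, pow_succ] at h
    have h1 : 2 ^ (k + 1) ≤ 2 ^ (k + l) :=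
      Nat.pow_le_pow_right two_pos (by have := (gr_mod_four hs.out hs2 hm hl).2; omega)
    rw [pow_succ] at h1
    omega

theorem card_fixed_mul_index_fx (γ : MulAut P) (D : Subgroup P) [D.Normal] (δ : MulAut (P ⧸ D))
    (h : ∀ t : P, δ (t : P ⧸ D) = (γ t : P)) :
    Nat.card {v // δ v = v} * (fx γ D).index = Nat.card (P ⧸ D) := by
  have h1 : fx γ D = (fx δ ⊥).comap (QuotientGroup.mk' D) := by
    ext t
    rw [mem_fx, Subgroup.mem_comap, mem_fx, Subgroup.mem_bot, QuotientGroup.mk'_apply, h,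
      ← QuotientGroup.eq_one_iff]
    simp
  rw [h1, Subgroup.index_comap_of_surjective _ (QuotientGroup.mk'_surjective D),
    ← (fx δ ⊥).card_mul_index]
  congr 1
  refine Nat.card_congr (Equiv.subtypeEquivRight fun v => ?_)
  rw [mem_fx, Subgroup.mem_bot, inv_mul_eq_one, eq_comm]

theorem fx_eq_top_of_index_le [Finite P] (hP : IsPGroup 3 P) {s : ℕ} [hs : Fact s.Prime]
    (hs4 : s % 4 = 3) (hs3 : s ≠ 3) (γ : MulAut P) (j : ℕ) (hγ : γ ^ s ^ j = 1) (D : Subgroup P)
    [D.Normal] (hD : ∀ t ∈ D, γ t ∈ D) (hi : (fx γ D).index ≤ 81) : fx γ D = ⊤ := by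
  classical
  have : Fact (Nat.Prime 3) := ⟨Nat.prime_three⟩
  have h1 : ∀ a : Subgroup.zpowers γ, ∀ t ∈ D, (Subgroup.zpowers γ).subtype a t ∈ D := by
    rintro ⟨a, ha⟩ x hx
    obtain ⟨k, rfl⟩ := mem_powers_iff_mem_zpowers.2 ha
    change (γ ^ k) x ∈ D
    clear ha
    induction k with
    | zero => exact hx
    | succ k ih => rw [pow_succ']; exact hD _ ih
  let δ := H5.quotAut _ D h1 ⟨γ, Subgroup.mem_zpowers γ⟩
  have hδ : δ ^ s ^ j = 1 := by
    rw [← map_pow, show (⟨γ, Subgroup.mem_zpowers γ⟩ : Subgroup.zpowers γ) ^ s ^ j = 1 from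
      Subtype.ext hγ, map_one]
  have h2 := card_fixed_mul_index_fx γ D δ fun t => rfl
  have := Fintype.ofFinite (P ⧸ D)
  have h3 := Equiv.Perm.card_fixedPoints_modEq (f := MulAction.toEndHom (α := P ⧸ D) δ) (p := s)
    (n := j) (by rw [← map_pow, hδ, map_one])
  simp only [← Nat.card_eq_fintype_card] at h3
  rw [← h2] at h3
  change Nat.card {v // δ v = v} * _ ≡ Nat.card {v // δ v = v} [MOD s] at h3
  obtain ⟨e, he⟩ := hP.index (fx γ D)
  obtain ⟨b, hb⟩ := (hP.to_quotient D).exists_card_eq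
  have h4 : s.Coprime (Nat.card {v // δ v = v}) :=
    Nat.Coprime.coprime_dvd_right (Dvd.intro _ (h2.trans hb))
      (Nat.Coprime.pow_right _ ((Nat.coprime_primes hs.out Nat.prime_three).2 hs3))
  have h5 : (fx γ D).index ≡ 1 [MOD s] :=
    Nat.ModEq.cancel_left_of_coprime h4 (by simpa using h3)
  rw [← Subgroup.index_eq_one]
  rw [he] at hi h5 ⊢
  have h6 : e < 5 := (Nat.pow_lt_pow_iff_right (by norm_num : 1 < 3)).1 (by omega)
  have h7 := (Nat.modEq_iff_dvd' (Nat.one_le_pow _ _ (by norm_num))).1 h5.symm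
  have h8 : ∀ a c : ℕ, c.Prime → c % 4 ≠ 3 → ¬ s ∣ 2 ^ a * c := by
    intro a c hc hc4 h
    rcases (Nat.Prime.dvd_mul hs.out).1 h with h | h
    · have := (Nat.prime_dvd_prime_iff_eq hs.out Nat.prime_two).1 (hs.out.dvd_of_dvd_pow h)
      omega
    · exact hc4 ((Nat.prime_dvd_prime_iff_eq hs.out hc).1 h ▸ hs4)
  interval_cases e
  · rfl
  · exact absurd h7 (h8 0 2 (by norm_num) (by norm_num))
  · exact absurd h7 (h8 2 2 (by norm_num) (by norm_num))
  · exact absurd h7 (h8 1 13 (by norm_num) (by norm_num))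
  · exact absurd h7 (h8 4 5 (by norm_num) (by norm_num))

/-- The elements acting trivially modulo `D`. -/
def kerMod {B : Type*} [Group B] (φ : B →* MulAut P) (D : Subgroup P) : Subgroup B where
  carrier := {g | ∀ t, t⁻¹ * φ g t ∈ D}
  mul_mem' := fun {g h} hg hh t => by
    have := D.mul_mem (hh t) (hg (φ h t))
    simpa using this
  one_mem' := by simp
  inv_mem' := fun {g} hg t => by
    have := D.inv_mem (hg (φ g⁻¹ t))
    simpa using this

theorem gr_core {B : Type*} [Group B] [Finite B] [Finite P] [IsAlgClosed K] [FiniteDimensional K V]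
    (ρ : Representation K P V) {q s : ℕ} [hq : Fact q.Prime] [hs : Fact s.Prime] (hq2 : q ≠ 2)
    (hs2 : s ≠ 2) (hqs : q ≠ s) (hqK : (q : K) ≠ 0) (hP : IsPGroup q P)
    (hcomm : ∀ s t : P, s * t * s⁻¹ * t⁻¹ ∈ Subgroup.center P)
    (hexp : ∀ t : P, t ^ q ∈ Subgroup.center P) (hρ : Function.Injective ρ)
    (φ : B →* MulAut P) (x : B) (n : ℕ) (hxn : x ^ 2 ^ (n + 1) = 1) (R : Subgroup B)
    (hR : IsPGroup s R) (hxR : x ∈ Subgroup.normalizer (R : Set B))
    (hRτ : R ≤ ⁅R, Subgroup.zpowers (x ^ 2 ^ n)⁆)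
    (hRZ : ∀ r ∈ R, ∀ z ∈ Subgroup.center P, φ r z = z)
    (hmin : ∀ U : Subgroup P, U ≠ ⊤ → (∀ t ∈ U, φ x t ∈ U) → (∀ r ∈ R, ∀ t ∈ U, φ r t ∈ U) →
      U ≤ Subgroup.center P)
    (hPR : ∀ U : Subgroup P, R ≤ kerMod φ U → U = ⊤) (hna : Subgroup.center P ≠ ⊤)
    (hfpf : ∀ t, φ x t = t → t = 1)
    (y : Module.End K V) (hy : ∀ t, y * ρ t = ρ (φ x t) * y) (hyn : y ^ 2 ^ (n + 1) = 1)
    (g : K[X]) (hg : aeval y g = 0) : X ^ 2 ^ (n + 1) - 1 ∣ g := by
  by_contra hng
  have hp : Fact (Nat.Prime 2) := ⟨Nat.prime_two⟩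
  set Z := Subgroup.center P with hZ
  set τ := x ^ 2 ^ n with hτ
  have hβ : ∀ z ∈ Z, (φ x ^ 2 ^ n) z = z := by
    by_contra hc
    push Not at hc
    obtain ⟨z, hz, hne⟩ := hc
    refine hng (hh_abelian (fun d : Z => ρ d) (fun a b => ?_) (fun d => ?_) y
      (restrictPerm (φ x) Z fun d hd => aut_mem_center _ hd) (fun d => hy d) n hyn ⟨⟨_, hz⟩, ?_⟩ g hg)
    · change ρ a * ρ b = ρ b * ρ a
      rw [← map_mul, ← map_mul, Subgroup.mem_center_iff.1 b.2]
    · obtain ⟨k, hk⟩ := hP (d : P)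
      exact ⟨q ^ k, by simpa using fun h => absurd h hqK, by rw [← map_pow, hk, map_one]⟩
    · rw [restrictPerm_pow_apply]
      exact fun h => hne (hρ h)
  have hEA : IsEA q (P ⧸ Z) := ⟨fun a b => by
      induction a using QuotientGroup.induction_on with | H a => ?_
      induction b using QuotientGroup.induction_on with | H b => ?_
      rw [← QuotientGroup.mk_mul, ← QuotientGroup.mk_mul, QuotientGroup.eq]
      simpa [mul_assoc] using hcomm b⁻¹ a⁻¹,
    fun a => by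
      induction a using QuotientGroup.induction_on with | H a => ?_
      rw [← QuotientGroup.mk_pow, QuotientGroup.eq_one_iff]; exact hexp a⟩
  let ψ := H5.quotAut φ Z fun a z hz => aut_mem_center _ hz
  let σ := eaRep q ψ
  have hσ1 : ∀ b, σ b = 1 → b ∈ kerMod φ Z := by
    intro b hb t
    rw [eaRep_eq_one_iff] at hb
    have h1 : ψ b (t : P ⧸ Z) = t := by rw [hb]; rfl
    exact QuotientGroup.eq.1 h1.symm
  have hy' : ∃ t ∈ R, σ x ^ 2 ^ n * σ t ≠ σ t * σ x ^ 2 ^ n := by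
    by_contra hc
    push Not at hc
    refine hna (hPR Z (hRτ.trans ?_))
    rw [Subgroup.commutator_le]
    intro r hr a ha
    apply hσ1
    rw [← rep_comm_iff]
    obtain ⟨i, rfl⟩ := mem_powers_iff_mem_zpowers.2 ha
    simp only [map_pow]
    exact (Commute.pow_left (show Commute (σ τ) (σ r) by rw [hτ, map_pow]; exact hc r hr) i).eq.symm
  obtain ⟨hs4, hdim⟩ := gr_dim σ hs2 (by
      rw [Ne, ZMod.natCast_eq_zero_iff, Nat.prime_dvd_prime_iff_eq hq.out hs.out]; exact hqs)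
    R hR x hxR n (by rw [← map_pow, hxn, map_one]) hy' (by
      rw [eq_bot_iff]
      intro v hv
      obtain ⟨v, rfl⟩ := (toEA q).surjective v
      have h1 := (toEA q).injective ((eaRep_apply ψ x v).symm.trans (hv x rfl))
      rw [H5.quotAut_fpf φ Z _ hfpf v h1]
      rfl)
  obtain ⟨k, l, m, rfl, hm, hl, D, hDn, hZD, hD, hαD, hγD, hind⟩ := gr_wt ρ hq2 hqK hP hcomm hρ
    (φ x) y hy n hyn (by rw [← map_pow, hxn, map_one]) hβ (by
      by_contra hc
      push Not at hc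
      obtain ⟨t, -, ht⟩ := hy'
      have h1 : σ x ^ 2 ^ n = 1 := by
        rw [← map_pow, eaRep_eq_one_iff]
        ext v
        induction v using QuotientGroup.induction_on with | H v => ?_
        rw [H5.quotAut_mk, map_pow]
        exact (QuotientGroup.eq.2 (hc v)).symm
      rw [h1] at ht
      simp at ht) g hg hng
  set β := φ x ^ 2 ^ (k + l) with hβdef
  have hβτ : φ τ = β := map_pow _ _ _
  have hmodD : ∀ (i : ℕ) t, (φ x ^ (i % 2 ^ k)) t ∈ D → (φ x ^ i) t ∈ D := by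
    intro i t ht
    rw [← Nat.div_add_mod i (2 ^ k)]
    induction i / 2 ^ k with
    | zero => simpa using ht
    | succ j ih => rw [mul_add_one, add_right_comm, add_comm, pow_add, MulAut.mul_apply]
                   exact hαD _ ih
  have hDZ : (⨅ i : ℕ, D.comap (φ x ^ i).toMonoidHom) ≤ Z := by
    refine hmin _ (fun h => hD (eq_top_iff.2 fun t _ => ?_)) (fun t ht => ?_) fun r hr t ht => ?_
    · exact Subgroup.mem_iInf.1 (h ▸ Subgroup.mem_top t) 0
    · rw [Subgroup.mem_iInf] at ht ⊢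
      intro i
      simpa [pow_succ] using ht (i + 1)
    · rw [Subgroup.mem_iInf] at ht ⊢
      intro i
      have h1 : x ^ i * r * (x ^ i)⁻¹ ∈ R :=
        (Subgroup.mem_normalizer_iff.1 (pow_mem hxR i) r).1 hr
      have h2 := hγD _ (hRZ _ h1) _ (ht i)
      simpa using h2
  have hle : (⨅ i : Fin (2 ^ k), (fx β D).comap (φ x ^ (i : ℕ)).toMonoidHom) ≤ fx β Z := by
    intro t ht
    apply hDZ
    rw [Subgroup.mem_iInf] at ht ⊢
    intro i
    apply hmodD
    have h1 : ((φ x ^ (i % 2 ^ k)) t)⁻¹ * β ((φ x ^ (i % 2 ^ k)) t) ∈ D :=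
      ht ⟨i % 2 ^ k, Nat.mod_lt _ (by positivity)⟩
    rwa [← MulAut.mul_apply, hβdef, ← pow_add, add_comm, pow_add, MulAut.mul_apply, ← map_inv,
      ← map_mul] at h1
  have hidx : (fx β Z).index ≤ ((q ^ m) ^ 2) ^ 2 ^ k := by
    refine (Subgroup.index_antitone hle).trans ((Subgroup.index_iInf_le _).trans ?_)
    refine (Finset.prod_le_pow_card _ _ ((q ^ m) ^ 2) fun i _ => ?_).trans (by simp)
    rw [Subgroup.index_comap_of_surjective _ (φ x ^ (i : ℕ)).surjective]
    exact hind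
  have hc1 := card_fixed_mul_index_fx β Z (ψ τ) fun t => by rw [H5.quotAut_mk, hβτ]
  have hc2 := card_fixed_eq_pow (p := q) ψ {τ}
  have hc3 := card_fixed_eq_pow (p := q) ψ ∅
  rw [fixSp_empty, finrank_top] at hc3
  simp only [Set.mem_singleton_iff, forall_eq] at hc2
  simp only [Set.mem_empty_iff_false, false_implies, implies_true, Nat.card_subtype_true] at hc3
  rw [hc2, hc3] at hc1
  obtain ⟨d, hd⟩ := hP.index (fx β Z)
  rw [hd, ← pow_add] at hc1
  have hc4 := Nat.pow_right_injective hq.out.two_le hc1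
  rw [hd, ← pow_mul, ← pow_mul, Nat.pow_le_pow_iff_right hq.out.one_lt] at hidx
  obtain ⟨rfl, rfl⟩ := gr_arith (k := k) (d := d) hq.out hq2 hm hl
    (by
      change 2 * finrank (ZMod q) (fixSp (eaRep q ψ) {τ}) + _ < _ at hdim
      omega)
    (by rwa [mul_assoc])
  refine hD (hPR D (hRτ.trans ?_))
  rw [Subgroup.commutator_le]
  intro r hr a ha
  have hτ2 : τ * τ = 1 := by rw [hτ, ← pow_add, ← two_mul, ← pow_succ', hxn]
  obtain rfl | rfl : a = 1 ∨ a = τ := by
    obtain ⟨i, rfl⟩ := mem_powers_iff_mem_zpowers.2 ha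
    clear ha
    induction i with
    | zero => simp
    | succ i ih => rcases ih with h | h <;> simp only at h <;> simp [pow_succ, h, hτ2]
  · simp
  have hrR : ⁅r, τ⁆ ∈ R := by
    rw [commutatorElement_def, mul_assoc, mul_assoc, ← mul_assoc τ]
    exact mul_mem hr ((Subgroup.mem_normalizer_iff.1 (pow_mem hxR _) _).1 (inv_mem hr))
  obtain ⟨j, hj⟩ := hR ⟨_, hrR⟩
  have h1 := fx_eq_top_of_index_le hP hs4 hqs.symm (φ ⁅r, τ⁆) j
    (by rw [← map_pow, show ⁅r, τ⁆ ^ s ^ j = 1 from congrArg Subtype.val hj, map_one]) D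
    (hγD _ (hRZ _ hrR)) (by
      have h2 : (fx β D).comap (φ r⁻¹).toMonoidHom ⊓ fx β D ≤ fx (φ ⁅r, τ⁆) D := by
        rintro t ⟨h3, h4⟩
        have h5 := hγD _ (hRZ _ hr) _ h3
        have h6 := hγD _ (hRZ _ hr) _ (hγD _ hβ _ (hγD _ (hRZ _ (inv_mem hr)) _ h4))
        have h7 := D.mul_mem h5 h6
        rw [mem_fx, commutatorElement_def, inv_eq_of_mul_eq_one_right hτ2]
        simpa [hβτ] using h7
      refine (Subgroup.index_antitone h2).trans (Subgroup.index_inf_le.trans ?_)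
      rw [Subgroup.index_comap_of_surjective _ (φ r⁻¹).surjective]
      exact Nat.mul_le_mul hind hind)
  exact fun t => (h1 ▸ Subgroup.mem_top t : t ∈ fx _ D)

end H76
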