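import Cfsg.Agent.Base
import Cfsg.Agent.H76.GrB
import Cfsg.Agent.H22.FpfFit
import Cfsg.Agent.H48.NRes

/-! Gross's theorem on fixed-point-free automorphisms of `2`-power order. -/

set_option autoImplicit false

namespace H76

open Module Polynomial H22 H46 H48 Subgroup Cfsg
open scoped commutatorElement

universe u

variable {Γ : Type u} [Group Γ] [Finite Γ]

omit [Finite Γ] in
theorem coprime_zpowers_two {x : Γ} {n m : ℕ} (hx : x ^ 2 ^ n = 1) (hm : ¬ 2 ∣ m) :
    (Nat.card (zpowers x)).Coprime m := by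
  rw [Nat.card_zpowers]
  exact Nat.Coprime.coprime_dvd_left (orderOf_dvd_of_pow_eq_one hx)
    (Nat.Coprime.pow_left _ ((Nat.Prime.coprime_iff_not_dvd Nat.prime_two).2 hm))

theorem not_two_dvd_of_pgroup {q : ℕ} [hq : Fact q.Prime] (hq2 : q ≠ 2) {Q : Subgroup Γ}
    (hQ : IsPGroup q Q) : ¬ 2 ∣ Nat.card Q := by
  obtain ⟨k, hk⟩ := hQ.exists_card_eq
  rw [hk]
  exact fun h => hq2 ((Nat.prime_dvd_prime_iff_eq Nat.prime_two hq.out).1
    (Nat.prime_two.dvd_of_dvd_pow h)).symm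

theorem gr_amb {K W : Type*} [Field K] [AddCommGroup W] [Module K W] [IsAlgClosed K]
    [FiniteDimensional K W] (ρ : Representation K Γ W) {q s : ℕ} [hq : Fact q.Prime]
    [hs : Fact s.Prime] (hq2 : q ≠ 2) (hs2 : s ≠ 2) (hqs : q ≠ s) (hqK : (q : K) ≠ 0)
    (Q R : Subgroup Γ) (hQ : IsPGroup q Q) (hR : IsPGroup s R) (x : Γ) (n : ℕ)
    (hxn : x ^ 2 ^ (n + 1) = 1) (hxQ : x ∈ Nrm Q) (hxR : x ∈ Nrm R) (hRQ : R ≤ Nrm Q)
    (hρ : ∀ t ∈ Q, ρ t = 1 → t = 1) (hfix : fixSp ρ {x} = ⊥)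
    (hfpf : Q ⊓ centralizer {x} = ⊥) : ⁅R, zpowers (x ^ 2 ^ n)⁆ ≤ Cent Q := by
  have hp : Fact (Nat.Prime 2) := ⟨Nat.prime_two⟩
  set τ := x ^ 2 ^ n with hτ
  set A := ⁅R, zpowers τ⁆ with hA
  have hτR : zpowers τ ≤ Nrm R := zpowers_le.2 (pow_mem hxR _)
  have hAR : A ≤ R := H1.commutator_le_of_le_normalizer hτR
  have hAs : IsPGroup s A := hR.to_le hAR
  have hτ2 : τ ^ 2 ^ 1 = 1 := by rw [hτ, ← pow_mul, ← pow_add, hxn]
  have hAA : ⁅A, zpowers τ⁆ = A := H1.commutator_commutator_eq hτR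
    (coprime_zpowers_two hτ2 (not_two_dvd_of_pgroup hs2 hR))
    (Or.inr (H1.isSolvable_of_isPGroup hR))
  have hxA : zpowers x ≤ Nrm A := H1.le_normalizer_commutator (zpowers_le.2 hxR)
    (le_trans (by simp [centralizer_zpowers_eq, mem_centralizer_singleton_iff, hτ,
      (Commute.self_pow x _).eq]) (centralizer_le_normalizer _))
  set B := A ⊔ zpowers x with hB
  have hBA : B ≤ Nrm A := sup_le le_normalizer hxA
  by_contra hne
  obtain ⟨P, hPQ, hP⟩ := exists_minimal_le_of_wellFoundedLT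
    (fun P : Subgroup Γ => B ≤ Nrm P ∧ ⁅P, A⁆ ≠ ⊥) Q
    ⟨sup_le (hAR.trans hRQ) (zpowers_le.2 hxQ), fun h => hne (by
      rwa [H1.commutator_eq_bot_iff_le_centralizer'] at h)⟩
  obtain ⟨hBP, hPA⟩ := hP.prop
  have hPq : IsPGroup q P := hQ.to_le hPQ
  have hmin : ∀ U : Subgroup Γ, U < P → B ≤ Nrm U → ⁅U, A⁆ = ⊥ := by
    intro U hU hBU
    by_contra h
    exact hU.not_ge (hP.le_of_le ⟨hBU, h⟩ hU.le)
  have hcop : (Nat.card A).Coprime (Nat.card P) :=
    IsPGroup.coprime_card_of_ne s q hqs.symm A P hAs hPq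
  obtain ⟨h1, h2, h3, h4⟩ := minAction_facts (H1.isSolvable_of_isPGroup hPq) hBP le_sup_left hBA hcop
    hPA hmin
  have hxP : x ∈ Nrm P := hBP (mem_sup_right (mem_zpowers x))
  obtain ⟨g0, g1⟩ := natDegree_geom_sum_X (K := K) (2 ^ (n + 1)) (by positivity)
  have hρn : ρ x ^ 2 ^ (n + 1) = 1 := by rw [← map_pow, hxn, map_one]
  have hg := aeval_geom_sum_eq_zero ρ x _ hρn hfix
  by_cases hab : P ≤ Cent P
  · rcases hh_degree ρ hq2.symm hqK P hPq x hxP n hρn (by
      by_contra hc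
      push Not at hc
      have h5 : zpowers τ ≤ Cent P := by
        rw [zpowers_le]
        intro t ht
        have h6 := hc t ht
        rw [← map_pow, rep_comm_iff] at h6
        refine (commutatorElement_eq_one_iff_mul_comm.1 (hρ _ (hPQ ?_) h6)).symm
        exact mul_mem ((mem_normalizer_iff.1 (pow_mem hxP _) t).1 ht) (inv_mem ht)
      apply hPA
      rw [H1.commutator_eq_bot_iff_le_centralizer', ← hAA, commutator_comm]
      exact (H1.commutator_le_of_le_normalizer (K := Cent P) (A := A)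
        (nrm_cent (le_sup_left.trans hBP))).trans' (commutator_mono h5 le_rfl)) _ g0 hg with
      h | ⟨_, _, _, _, _, _, ⟨a, ha, b, hb, h⟩, _⟩
    · omega
    · exact h (by rw [← map_mul, ← map_mul, hab hb a ha])
  let φ : B →* MulAut P := P.normalizerMonoidHom.comp (inclusion hBP)
  have hφ : ∀ (b : B) (t : P), (φ b t : Γ) = b * t * (b : Γ)⁻¹ := fun _ _ => rfl
  have hcen : ∀ t : P, t ∈ center P ↔ (t : Γ) ∈ Cent P := by
    intro t
    rw [mem_center_iff]
    exact ⟨fun h s hs => congrArg Subtype.val (h ⟨s, hs⟩), fun h s => Subtype.ext (h s s.2)⟩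
  have hxB : x ∈ B := mem_sup_right (mem_zpowers x)
  have hZlt : P ⊓ Cent P < P := lt_of_le_of_ne inf_le_left fun h => hab (inf_eq_left.1 h)
  have hP0 : P ≠ ⊥ := by rintro rfl; exact hab bot_le
  have h5 := gr_core (ρ.comp P.subtype) hq2 hs2 hqs hqK hPq
    (fun s t => (hcen _).2 (h3 (commutator_mem_commutator s.2 t.2)))
    (fun t => (hcen _).2 (h3 (h2 _ (frattiniOf_lt hP0) (nrm_frattiniOf hBP)
      (pow_mem_frattiniOf hq.out hPq t.2))))
    ((injective_iff_map_eq_one _).2 fun t ht => Subtype.ext (hρ t (hPQ t.2) ht))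
    φ ⟨x, hxB⟩ n (Subtype.ext hxn) (A.subgroupOf B) (hAs.comap_subtype)
    (by
      rw [mem_normalizer_iff]
      intro b
      exact (mem_normalizer_iff.1 (hxA (mem_zpowers x)) b))
    (by
      rw [← map_le_map_iff_of_injective B.subtype_injective, map_commutator,
        subgroupOf_map_subtype, inf_eq_left.2 le_sup_left, MonoidHom.map_zpowers]
      exact hAA.ge)
    (by
      intro r hr z hz
      apply Subtype.ext
      have h6 := hmin _ hZlt (nrm_inf hBP (nrm_cent hBP))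
      rw [commutator_eq_bot_iff_le_centralizer] at h6
      rw [hφ, h6 ⟨z.2, (hcen z).1 hz⟩ r hr]; simp)
    (by
      intro U hU hx hr t ht
      rw [hcen]
      refine h3 (h2 (U.map P.subtype) (lt_of_le_of_ne (map_subtype_le _) fun h => hU ?_) ?_
        ⟨t, ht, rfl⟩)
      · rw [eq_top_iff]
        intro t _
        obtain ⟨t', ht', e⟩ : (t : Γ) ∈ U.map P.subtype := by rw [h]; exact t.2
        rwa [← Subtype.ext e]
      · refine sup_le (H1.le_normalizer_of_conj_mem ?_) (zpowers_le.2 ?_)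
        · rintro a ha _ ⟨u, hu, rfl⟩
          exact ⟨_, hr ⟨a, mem_sup_left ha⟩ ha u hu, rfl⟩
        · refine H1.le_normalizer_of_conj_mem (A := zpowers x) ?_ (mem_zpowers x)
          rintro a ha _ ⟨u, hu, rfl⟩
          obtain ⟨i, rfl⟩ := mem_powers_iff_mem_zpowers.2 ha
          refine ⟨φ (⟨x, hxB⟩ ^ i) u, ?_, rfl⟩
          clear ha
          induction i with
          | zero => simpa using hu
          | succ i ih => rw [pow_succ', map_mul]; exact hx _ ih)
    (by
      intro U hU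
      rw [eq_top_iff]
      intro t _
      have h6 : ⁅P, A⁆ ≤ U.map P.subtype := by
        rw [commutator_le]
        intro a ha b hb
        refine ⟨_, hU (x := ⟨b, mem_sup_left hb⟩) hb ⟨a⁻¹, inv_mem ha⟩, ?_⟩
        simp [hφ, commutatorElement_def, mul_assoc]
      obtain ⟨t', ht', e⟩ := h6 (h1.ge t.2)
      rwa [← Subtype.ext e])
    (fun h => hab fun t ht => (hcen ⟨t, ht⟩).1 (h ▸ mem_top _))
    (by
      intro t ht
      have h6 : (t : Γ) ∈ Q ⊓ centralizer {x} := by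
        refine ⟨hPQ t.2, mem_centralizer_singleton_iff.2 ?_⟩
        have h7 : x * t * x⁻¹ = t := congrArg Subtype.val ht
        conv_lhs => rw [← h7]
        group
      rw [hfpf] at h6
      exact Subtype.ext h6)
    (ρ x) (by
      intro t
      change ρ x * ρ t = ρ (x * t * x⁻¹) * ρ x
      rw [← map_mul, ← map_mul]; congr 1; group) hρn _ hg
  have h6 := natDegree_le_of_dvd h5 g0
  have h7 := natDegree_X_pow_sub_C (n := 2 ^ (n + 1)) (r := (1 : K))
  simp only [map_one] at h7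
  omega

theorem le_fit_of_cent {q : ℕ} {X L A : Subgroup Γ} (hK : L ⊴ X) (hFK : fittingOf X ≤ L)
    (hi : PNat {q} ((fittingOf X).relIndex L)) (hA : A ≤ L) (h2 : A ≤ Cent (Op' q (fittingOf X))) :
    A ≤ fittingOf X := by
  have hV : Op' q (fittingOf X) ⊴ X := (fittingOf_normalIn X).piCoreOf _
  have hL : L ⊓ Cent (Op' q (fittingOf X)) ⊴ X :=
    ⟨inf_le_left.trans hK.1, nrm_inf hK.2 (nrm_cent hV.2)⟩
  refine le_trans (le_inf hA h2) (le_fittingOf hL
    (nil_of_quo_of_central (N := Op' q (fittingOf X)) (le_cent_symm inf_le_right)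
      (IsPi.nil (p := q) ?_)))
  refine IsPi.of_le ?_ (quo_mono _ inf_le_left)
  rw [isPi_quo_iff (hK.1.trans hV.2), ← relIndex_mul_relIndex _ _ _ (piCoreOf_le _ _) hFK]
  exact PNat.mul (nil_piCoreOf_hall _ (fittingOf_nil X)).idx' hi

theorem gr_nil (G : Subgroup Γ) [G.Normal] [hG : Group.IsSolvable G] (x : Γ) (n : ℕ)
    (hxn : x ^ 2 ^ (n + 1) = 1) (hpG : ¬ 2 ∣ Nat.card G) (hsup : G ⊔ zpowers x = ⊤)
    (hfix : G ⊓ centralizer {x} = ⊥) :
    (⁅G, zpowers (x ^ 2 ^ n)⁆).Normal ∧ nres^[2] ⁅G, zpowers (x ^ 2 ^ n)⁆ = ⊥ := by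
  have hn := normal_commutator_of_sup G (zpowers x) (zpowers (x ^ 2 ^ n)) hsup
    (le_trans (by simp [centralizer_zpowers_eq, mem_centralizer_singleton_iff,
      (Commute.self_pow x _).eq]) (centralizer_le_normalizer _))
  refine ⟨hn, ?_⟩
  have : (nres ⁅G, zpowers (x ^ 2 ^ n)⁆).Normal := by
    rw [← normalizer_eq_top_iff, eq_top_iff]
    exact le_trans le_normalizer_of_normal (nrm_le_nrm_nresI 1 _)
  change nres (nres _) = ⊥
  rw [nres_eq_bot_iff]
  refine isNilpotent_of_forall_rep G _ (zpowers x)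
    ((nres_le_self _).trans (commutator_le_left _ _))
    (coprime_zpowers_two hxn hpG) (by rwa [centralizer_zpowers_eq]) ?_
  intro Γ' _ _ π hπ _ r _ W _ _ _ ρ _ h1 h2 h3 h4
  have : (G.map π).Normal := Subgroup.Normal.map inferInstance π hπ
  have hpG' : ¬ 2 ∣ Nat.card (G.map π) := fun h => hpG (h.trans (card_map_dvd G π))
  have hxn' : π x ^ 2 ^ (n + 1) = 1 := by rw [← map_pow, hxn, map_one]
  rw [MonoidHom.map_zpowers] at h2 h3
  rw [fixSp_zpowers] at h2
  rw [centralizer_zpowers_eq] at h3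
  rw [map_nres, map_commutator, MonoidHom.map_zpowers, map_pow, nres_eq_bot_iff]
  have hG' := H2.isSolvable_map G π
  generalize G.map π = G' at *
  generalize π x = y at *
  refine nil_of_le_fittingOf (X := G') ?_
  have hFn : (fittingOf G').Normal := by
    rw [← normalizer_eq_top_iff, eq_top_iff]
    exact nrm_fittingOf le_normalizer_of_normal
  let π₂ := QuotientGroup.mk' (fittingOf G')
  have hπ₂ : Function.Surjective π₂ := QuotientGroup.mk'_surjective _
  have hker : π₂.ker = fittingOf G' := QuotientGroup.ker_mk' _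
  have : (G'.map π₂).Normal := Subgroup.Normal.map inferInstance π₂ hπ₂
  rw [← hker, ← Subgroup.map_eq_bot_iff, map_commutator]
  refine commutator_eq_bot_of_forall_normal_pgroup _ _ (H2.isSolvable_map G' π₂) ?_ ?_
  · rw [MonoidHom.map_zpowers]
    exact coprime_zpowers_two (n := 1) (by rw [← map_pow, ← pow_mul, ← pow_add, hxn', map_one])
      fun h => hpG' (h.trans (card_map_dvd G' π₂))
  intro s hs hsG P hP hPG hPs
  have := Fact.mk hs
  by_contra hne
  have hPG' : P.comap π₂ ≤ G' := by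
    exact (comap_mono hPG).trans
      (comap_map_eq_self (f := π₂) (H := G') (hker.le.trans (fittingOf_le _))).le
  have hPn : (P.comap π₂).Normal := hP.comap π₂
  obtain ⟨s', hs', -, R, hRP, hRs, -, hyR, hRC⟩ := exists_invariant_pgroup_not_le (zpowers y)
    (P.comap π₂) ((Cent ((zpowers (y ^ 2 ^ n)).map π₂)).comap π₂) le_normalizer_of_normal
    (coprime_zpowers_two hxn' fun h => hpG' (h.trans (card_dvd_of_le hPG')))
    (Or.inr (sol_of_le hG' hPG')) (by rwa [comap_le_comap_of_surjective hπ₂])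
  have := Fact.mk hs'
  obtain rfl : s' = s := by
    by_contra h
    apply hRC
    have h5 : R.map π₂ = ⊥ := eq_bot_iff.2 ((le_inf le_rfl (map_le_iff_le_comap.2 hRP)).trans
      (IsPGroup.disjoint_of_ne s' s h _ _ (hRs.map π₂) hPs).le_bot)
    rw [← map_le_iff_le_comap, h5]; exact bot_le
  have hs2 : s' ≠ 2 := by rintro rfl; exact hpG' (hsG.trans (card_map_dvd G' π₂))
  have hAR : ⁅R, zpowers (y ^ 2 ^ n)⁆ ≤ R :=
    H1.commutator_le_of_le_normalizer (zpowers_le.2 (pow_mem (hyR (mem_zpowers y)) _))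
  have h5 : ⁅R, zpowers (y ^ 2 ^ n)⁆ ≤ fittingOf G' := by
    refine le_fit_of_cent (q := s') (L := P.comap π₂) ⟨hPG', le_normalizer_of_normal⟩
      (hker.ge.trans (ker_le_comap _ _)) ?_ (hAR.trans hRP) (le_cent_symm ?_)
    · have h6 := relIndex_ker (P.comap π₂) π₂
      rw [map_comap_eq_self_of_surjective hπ₂, hker] at h6
      rw [h6]
      exact (isPi_singleton hs').2 hPs
    refine nil_le_of_forall_Op (nil_of_le_fittingOf (piCoreOf_le _ _)) fun q hq hqd => ?_
    have := Fact.mk hq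
    have hqs : q ≠ s' := isPi_piCoreOf {s'}ᶜ (fittingOf G') q hq hqd
    refine ((piCoreOf_normalIn _ _).piCoreOf_le).trans ?_
    have hQG : Op q (fittingOf G') ≤ G' := (piCoreOf_le _ _).trans (fittingOf_le _)
    have hQq : IsPGroup q (Op q (fittingOf G')) := (isPi_singleton hq).1 (isPi_piCoreOf _ _)
    have hQn := normal_Op_fittingOf G' q
    by_cases hqr : q = r
    · subst hqr
      exact (h4 _ hQn hQG hQq).le.trans bot_le
    refine le_cent_symm (gr_amb ρ ?_ hs2 hqs (natCast_ne_zero_algClosure (by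
      rw [Nat.prime_dvd_prime_iff_eq Fact.out hq]; exact Ne.symm hqr)) _ R hQq hRs y n hxn'
      (le_normalizer_of_normal (mem_top _)) (hyR (mem_zpowers y)) le_normalizer_of_normal
      (fun t ht => h1 t (hQG ht)) h2 (eq_bot_iff.2 ((inf_le_inf_right _ hQG).trans h3.le)))
    rintro rfl
    exact hpG' (hqd.trans (card_dvd_of_le ((piCoreOf_le _ _).trans (fittingOf_le _))))
  apply hRC
  rw [← map_le_iff_le_comap, ← commutator_eq_bot_iff_le_centralizer, ← map_commutator,
    Subgroup.map_eq_bot_iff, hker]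
  exact h5

theorem gr_aut {G : Type u} [Group G] [Finite G] (hG : Group.IsSolvable G) (σ : MulAut G) (n : ℕ)
    (hσ : σ ^ 2 ^ (n + 1) = 1) (hfpf : ∀ g, σ g = g → g = 1) :
    ∃ N : Subgroup G, N.Normal ∧ (∀ x ∈ N, σ x ∈ N) ∧ nres^[2] N = ⊥ ∧
      ∀ g, g⁻¹ * (σ ^ 2 ^ n) g ∈ N := by
  have hp : Fact (Nat.Prime 2) := ⟨Nat.prime_two⟩
  obtain ⟨Γ, _, _, i, j, hi, hj, hn, hij, hsup⟩ := exists_ambient (zpowers σ).subtype
  let s : zpowers σ := ⟨σ, mem_zpowers σ⟩
  have hs : s ^ 2 ^ (n + 1) = 1 := Subtype.ext hσ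
  have hs' : zpowers s = ⊤ := by
    rw [eq_top_iff]
    rintro ⟨_, k, rfl⟩ _
    exact ⟨k, rfl⟩
  let e : G ≃* i.range := MonoidHom.ofInjective hi
  have : Group.IsSolvable i.range := H2.isSolvable_of_mulEquiv e
  have hr : j.range = zpowers (j s) := by
    rw [← MonoidHom.map_zpowers, hs', MonoidHom.range_eq_map]
  have hpG : ¬ 2 ∣ Nat.card G := not_dvd_card_of_pgroup_fpf (A := zpowers σ)
    (fun a => ⟨n + 1, by
      obtain ⟨k, rfl⟩ : a ∈ zpowers s := hs' ▸ mem_top a
      simp only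
      rw [← zpow_natCast, ← zpow_mul, mul_comm, zpow_mul, zpow_natCast, hs, one_zpow]⟩)
    (zpowers σ).subtype fun g hg => hfpf g (hg s)
  obtain ⟨hN, hnil⟩ := gr_nil i.range (j s) n (by rw [← map_pow, hs, map_one])
    (by rwa [← Nat.card_congr e.toEquiv]) (hr ▸ hsup) (by
      rw [eq_bot_iff]
      rintro _ ⟨⟨g, rfl⟩, hg⟩
      have h1 := hij s g
      rw [← mem_centralizer_singleton_iff.1 hg, mul_inv_cancel_right] at h1
      rw [hfpf g (hi h1), map_one]
      exact one_mem _)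
  set N := ⁅i.range, zpowers (j s ^ 2 ^ n)⁆
  refine ⟨N.comap i, hN.comap i, fun x hx => ?_, ?_, fun g => ?_⟩
  · have h1 := hij s x
    rw [mem_comap]
    erw [h1]
    exact hN.conj_mem _ hx _
  · rw [← map_eq_bot_iff_of_injective _ hi, map_nresI, eq_bot_iff, ← hnil]
    exact nresI_mono _ (map_comap_le _ _)
  have h1 := hij (s ^ 2 ^ n) g
  rw [mem_comap, map_mul, map_inv]
  have h2 : (i g)⁻¹ * i ((σ ^ 2 ^ n) g) = ⁅(i g)⁻¹, j s ^ 2 ^ n⁆ := by
    rw [commutatorElement_def, ← map_pow]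
    erw [h1]
    group
  rw [h2]
  exact commutator_mem_commutator (inv_mem ⟨g, rfl⟩) (mem_zpowers _)

theorem gross (base : ∀ (G : Type u) [Group G] [Finite G], Group.IsSolvable G → ∀ σ : MulAut G,
      σ ^ 4 = 1 → (∀ g, σ g = g → g = 1) → Group.IsNilpotent (_root_.commutator G)) (n : ℕ) :
    ∀ (G : Type u) [Group G] [Finite G], Group.IsSolvable G → ∀ σ : MulAut G,
      σ ^ 2 ^ (n + 2) = 1 → (∀ g, σ g = g → g = 1) → nres^[2 * n + 2] (⊤ : Subgroup G) = ⊥ := by
  induction n with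
  | zero =>
    intro G _ _ hG σ hσ h
    change nres (nres ⊤) = ⊥
    rw [eq_bot_iff, ← nres_eq_bot_iff.2 (base G hG σ hσ h)]
    exact nres_mono (nres_le _ 1)
  | succ n ih =>
    intro G _ _ hG σ hσ h
    obtain ⟨N, hN, h1, h2, h3⟩ := gr_aut hG σ (n + 2) hσ h
    obtain ⟨τ, h4, h5⟩ := exists_quotient_aut N σ h1
    have h6 := ih _ inferInstance τ (by
      ext g
      obtain ⟨g, rfl⟩ := QuotientGroup.mk_surjective g
      rw [h4]
      exact (QuotientGroup.eq.2 (h3 g)).symm) (h5 h)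
    rw [← map_top_of_surjective _ (QuotientGroup.mk'_surjective N), ← map_nresI,
      Subgroup.map_eq_bot_iff,
      QuotientGroup.ker_mk'] at h6
    rw [show 2 * (n + 1) + 2 = 2 + (2 * n + 2) by ring, Function.iterate_add_apply, eq_bot_iff, ← h2]
    exact nresI_mono _ h6

end H76
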