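import Cfsg.Agent.H76.Tits4
import Cfsg.Agent.H34.BS
import Cfsg.Agent.H42.OddOrder
import Cfsg.Agent.H83.InvPair
import Cfsg.Agent.H2.MinNormal

/-! M. Hall: 4-transitive groups whose four-point stabilisers have odd order. -/

set_option autoImplicit false

namespace H76.Hall4

open MulAction H76.Tits4

variable {G Ω : Type*} [Group G] [MulAction G Ω]

/-- 4-transitive, faithful, elements fixing four points have odd order -/
structure O4 (G Ω : Type*) [Group G] [MulAction G Ω] : Prop where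
  tr : IsMultiplyPretransitive G Ω 4
  fa : ∀ g : G, (∀ x : Ω, g • x = x) → g = 1
  od : ∀ {a b c d : Ω}, D4 a b c d → ∀ {g : G}, g • a = a → g • b = b → g • c = c → g • d = d →
    Odd (orderOf g)

theorem zpow_fix {g : G} {x : Ω} (h : g • x = x) (k : ℤ) : g ^ k • x = x :=
  (stabilizer G x).zpow_mem (show g ∈ stabilizer G x from h) k

theorem pow_fix {g : G} {x : Ω} (h : g • x = x) (k : ℕ) : g ^ k • x = x :=
  (stabilizer G x).pow_mem (show g ∈ stabilizer G x from h) k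

theorem D4.smul {a b c d : Ω} (h : D4 a b c d) (g : G) : D4 (g • a) (g • b) (g • c) (g • d) := by
  obtain ⟨h1, h2, h3, h4, h5, h6⟩ := h
  refine ⟨?_, ?_, ?_, ?_, ?_, ?_⟩ <;> rwa [Ne, smul_left_cancel_iff]

theorem reg_d4 {t u : G} (tt : t * t = 1) (tu : t * u = u * t) {x : Ω} (h1 : t • x ≠ x)
    (h2 : u • x ≠ x) (h3 : t • u • x ≠ x) : D4 x (t • x) (u • x) (t • u • x) :=
  ⟨h1.symm, h2.symm, h3.symm, fun e => h3 (by rw [← e, ← mul_smul, tt, one_smul]),
    fun e => h2 (MulAction.injective t e).symm,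
    fun e => h1 (MulAction.injective u (show u • t • x = u • x by
      rw [← mul_smul, ← tu, mul_smul, ← e]))⟩

section
variable (h : O4 G Ω)
include h

theorem O4.ex4 {a b c d a' b' c' d' : Ω} (h1 : D4 a b c d) (h2 : D4 a' b' c' d') :
    ∃ g : G, g • a = a' ∧ g • b = b' ∧ g • c = c' ∧ g • d = d' := by
  have h' : IsPretransitive G (Fin 4 ↪ Ω) := h.tr
  obtain ⟨g, hg⟩ := exists_smul_eq G (emb h1) (emb h2)
  have k : ∀ i, g • emb h1 i = emb h2 i := fun i => by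
    have := congrArg (fun y : Fin 4 ↪ Ω => y i) hg
    simpa using this
  exact ⟨g, k 0, k 1, k 2, k 3⟩

theorem O4.inv1 {a b c d : Ω} (h1 : D4 a b c d) {g : G} (gg : g * g = 1) (ha : g • a = a)
    (hb : g • b = b) (hc : g • c = c) (hd : g • d = d) : g = 1 :=
  orderOf_eq_one_iff.1 (Nat.eq_one_of_dvd_coprimes (Nat.coprime_two_left.2 (h.od h1 ha hb hc hd))
    (orderOf_dvd_of_pow_eq_one (by rw [sq, gg])) dvd_rfl)

theorem O4.adj {a b : G} (aa : a * a = 1) (bb : b * b = 1) {p q r s : Ω} (d : D4 p q r s)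
    (hp : a • p = b • p) (hq : a • q = b • q) (hr : a • r = b • r) (hs : a • s = b • s) :
    ∃ k : G, k * a * k⁻¹ = b ∧ k • p = p ∧ k • q = q ∧ k • r = r ∧ k • s = s ∧
      ∀ c : G, Commute c a → Commute c b → Commute c k := by
  have f : ∀ y : Ω, a • y = b • y → (a * b) • y = y := fun y hy => by
    rw [mul_smul, ← hy, ← mul_smul, aa, one_smul]
  obtain ⟨k, hk⟩ := H83.exists_zpow_conj_of_odd aa bb (h.od d (f _ hp) (f _ hq) (f _ hr) (f _ hs))
  exact ⟨_, hk, zpow_fix (f _ hp) k, zpow_fix (f _ hq) k, zpow_fix (f _ hr) k, zpow_fix (f _ hs) k,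
    fun c h1 h2 => (h1.mul_right h2).zpow_right k⟩

theorem O4.adj2 {t t' g : G} (tt : t * t = 1) (tt' : t' * t' = 1) {p q r s : Ω} (d : D4 p q r s)
    (hp : g • t • p = t' • g • p) (hq : g • t • q = t' • g • q) (hr : g • t • r = t' • g • r)
    (hs : g • t • s = t' • g • s) :
    ∃ k : G, k * t * k⁻¹ = t' ∧ k • p = g • p ∧ k • q = g • q ∧ k • r = g • r ∧ k • s = g • s ∧
      ∀ c c' : G, g * c * g⁻¹ = c' → Commute c t → Commute c' t' → k * c * k⁻¹ = c' := by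
  have f : ∀ y : Ω, (g * t * g⁻¹) • g • y = g • t • y := fun y => by simp [mul_smul]
  obtain ⟨k, hk, k1, k2, k3, k4, k5⟩ := h.adj (a := g * t * g⁻¹) (b := t')
    (by rw [conj_mul, tt]; simp) tt' (D4.smul d g) (by rw [f, hp]) (by rw [f, hq]) (by rw [f, hr])
    (by rw [f, hs])
  refine ⟨k * g, by rw [← hk]; group, by rw [mul_smul, k1], by rw [mul_smul, k2],
    by rw [mul_smul, k3], by rw [mul_smul, k4], fun c c' e h1 h2 => ?_⟩
  have := k5 c' (by rw [← e]; exact h1.map (MulAut.conj g)) h2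
  calc k * g * c * (k * g)⁻¹ = k * (g * c * g⁻¹) * k⁻¹ := by group
    _ = c' := by rw [e, ← this.eq, mul_inv_cancel_right]

/-- an odd power of `g` is an involution -/
theorem O4.pw {g : G} {p q r s : Ω} (d : D4 p q r s) (hp : g • g • p = p) (hq : g • g • q = q)
    (hr : g • g • r = r) (hs : g • g • s = s) :
    ∃ j : ℕ, (g * (g * g) ^ j) * (g * (g * g) ^ j) = 1 := by
  obtain ⟨j, hj⟩ := h.od d (g := g * g) (by rwa [mul_smul]) (by rwa [mul_smul]) (by rwa [mul_smul])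
    (by rwa [mul_smul])
  refine ⟨j, ?_⟩
  rw [← pow_orderOf_eq_one (g * g), hj, ← sq g, ← pow_mul, ← pow_mul, ← pow_succ', ← pow_add]
  congr 1
  ring

/-- two four-groups with regular points are conjugate -/
theorem O4.pair {t u t' u' : G} (tt : t * t = 1) (uu : u * u = 1) (tu : t * u = u * t)
    (tt' : t' * t' = 1) (uu' : u' * u' = 1) (tu' : t' * u' = u' * t') {x x' : Ω}
    (d : D4 x (t • x) (u • x) (t • u • x)) (d' : D4 x' (t' • x') (u' • x') (t' • u' • x')) :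
    ∃ g : G, g • x = x' ∧ g * t * g⁻¹ = t' ∧ g * u * g⁻¹ = u' := by
  have a1 : ∀ y : Ω, t • t • y = y := fun y => by rw [← mul_smul, tt, one_smul]
  have a2 : ∀ y : Ω, u • u • y = y := fun y => by rw [← mul_smul, uu, one_smul]
  have a3 : ∀ y : Ω, u • t • y = t • u • y := fun y => by rw [← mul_smul, ← tu, mul_smul]
  have b1 : ∀ y : Ω, t' • t' • y = y := fun y => by rw [← mul_smul, tt', one_smul]
  have b2 : ∀ y : Ω, u' • u' • y = y := fun y => by rw [← mul_smul, uu', one_smul]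
  have b3 : ∀ y : Ω, u' • t' • y = t' • u' • y := fun y => by rw [← mul_smul, ← tu', mul_smul]
  obtain ⟨g, g1, g2, g3, g4⟩ := h.ex4 d d'
  obtain ⟨k, hk, k1, k2, k3, k4, -⟩ := h.adj2 (g := g) tt tt' d (by rw [g1, g2])
    (by rw [a1, g1, g2, b1]) (by rw [g3, g4]) (by rw [a1, g3, g4, b1])
  rw [g1] at k1
  rw [g2] at k2
  rw [g3] at k3
  rw [g4] at k4
  obtain ⟨l, hl, l1, -, -, -, l5⟩ := h.adj2 (g := k) uu uu' d (by rw [k1, k3])
    (by rw [a3, k2, k4, b3]) (by rw [a2, k1, k3, b2]) (by rw [a3, a2, k2, k4, b3, b2])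
  exact ⟨l, l1.trans k1, l5 t t' hk tu tu', hl⟩

end

/-- the configuration with the group relations -/
structure C2 (t u : G) (p1 p2 p3 p4 p5 p6 : Ω) : Prop extends Cfg t u p1 p2 p3 p4 p5 p6 where
  tt : t * t = 1
  uu : u * u = 1
  tu : t * u = u * t

section
variable {t u : G} {p1 p2 p3 p4 p5 p6 : Ω} (c : C2 t u p1 p2 p3 p4 p5 p6)
include c

theorem C2.ttx (x : Ω) : t • t • x = x := by rw [← mul_smul, c.tt, one_smul]

theorem C2.uux (x : Ω) : u • u • x = x := by rw [← mul_smul, c.uu, one_smul]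

theorem C2.utx (x : Ω) : u • t • x = t • u • x := by rw [← mul_smul, ← c.tu, mul_smul]

theorem C2.ww : t * u * (t * u) = 1 := by
  rw [mul_assoc, ← mul_assoc u, ← c.tu, mul_assoc, c.uu, mul_one, c.tt]

theorem C2.t_ne : t ≠ 1 := fun e => c.d.2.2.2.2.2 (by rw [← c.t3, e, one_smul])

theorem C2.u_ne : u ≠ 1 := fun e => c.d.1 (by rw [← c.u1, e, one_smul])

theorem C2.t6 : t • p6 = p5 := by rw [← c.t5, c.ttx]

theorem C2.u6 : u • p6 = p5 := by rw [← c.u5, c.uux]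

variable (h : O4 G Ω)
include h

theorem C2.fix_t {x : Ω} (hx : t • x = x) (h1 : x ≠ p1) (h2 : x ≠ p2) : u • x = x := by
  by_contra hne
  have k1 : u • x ≠ p1 := fun e => h2 (by rw [← c.uux x, e, c.u1])
  have k2 : u • x ≠ p2 := fun e => h1 (by rw [← c.uux x, e, c.u2])
  exact c.t_ne (h.inv1 (a := p1) (b := p2) (c := x) (d := u • x)
    ⟨c.d.1, h1.symm, k1.symm, h2.symm, k2.symm, fun e => hne e.symm⟩ c.tt c.t1 c.t2 hx
    (by rw [← c.utx, hx]))

theorem C2.fix_u {x : Ω} (hx : u • x = x) (h1 : x ≠ p3) (h2 : x ≠ p4) : t • x = x := by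
  by_contra hne
  have k1 : t • x ≠ p3 := fun e => h2 (by rw [← c.ttx x, e, c.t3])
  have k2 : t • x ≠ p4 := fun e => h1 (by rw [← c.ttx x, e, c.t4])
  exact c.u_ne (h.inv1 (a := p3) (b := p4) (c := x) (d := t • x)
    ⟨c.d.2.2.2.2.2, h1.symm, k1.symm, h2.symm, k2.symm, fun e => hne e.symm⟩ c.uu c.u3 c.u4 hx
    (by rw [c.utx, hx]))

theorem C2.fix_w {x : Ω} (hx : t • u • x = x) (h1 : x ≠ p5) (h2 : x ≠ p6) : t • x = x := by
  by_contra hne
  have k1 : t • x ≠ p5 := fun e => h2 (by rw [← c.ttx x, e, c.t5])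
  have k2 : t • x ≠ p6 := fun e => h1 (by rw [← c.ttx x, e, c.t6])
  have := h.inv1 (a := p5) (b := p6) (c := x) (d := t • x) (g := t * u)
    ⟨c.n56, h1.symm, k1.symm, h2.symm, k2.symm, fun e => hne e.symm⟩ c.ww
    (by rw [mul_smul, c.u5, c.t6]) (by rw [mul_smul, c.u6, c.t5]) (by rw [mul_smul, hx])
    (by rw [mul_smul, c.utx, hx])
  have h3 : (t * u) • p1 = p2 := by rw [mul_smul, c.u1, c.t2]
  rw [this, one_smul] at h3
  exact c.d.1 h3

theorem C2.fix_uniq {x y : Ω} (hx : t • x = x) (hx' : u • x = x) (hy : t • y = y)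
    (hy' : u • y = y) : x = y := by
  by_contra hne
  have k : ∀ z : Ω, u • z = z → p1 ≠ z ∧ p2 ≠ z := fun z hz =>
    ⟨fun e => c.d.1 (by rw [← c.u1, e, hz]), fun e => c.d.1 (by rw [← c.u2, e, hz])⟩
  exact c.t_ne (h.inv1 (a := p1) (b := p2) (c := x) (d := y)
    ⟨c.d.1, (k x hx').1, (k y hy').1, (k x hx').2, (k y hy').2, hne⟩ c.tt c.t1 c.t2 hx hy)

theorem C2.swap {x : Ω} (h1 : t • x ≠ x) (h2 : u • x ≠ x) (h3 : t • u • x ≠ x) :
    ∃ g : G, g * g = 1 ∧ g • x = x ∧ g • t • x = t • x ∧ g • u • x = t • u • x ∧ g * t = t * g ∧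
      g • p1 = p2 ∧ g • p2 = p1 ∧ (g • p3 = p5 ∨ g • p3 = p6) := by
  have d1 := reg_d4 c.tt c.tu h1 h2 h3
  obtain ⟨e1, e2, e3, e4, e5, e6⟩ := id d1
  obtain ⟨k, k1, kt, ku⟩ := h.pair (t' := t) (u' := t * u) (x' := x) c.tt c.uu c.tu c.tt c.ww
    (by rw [mul_assoc, ← c.tu]) d1 (by
      rw [mul_smul, c.ttx]
      exact ⟨e1, e3, e2, e5, e4, e6.symm⟩)
  have kt' : k * t = t * k := mul_inv_eq_iff_eq_mul.1 kt
  have ku' : k * u = t * u * k := mul_inv_eq_iff_eq_mul.1 ku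
  have ktx : ∀ y : Ω, k • t • y = t • k • y := fun y => by rw [← mul_smul, kt', mul_smul]
  have kux : ∀ y : Ω, k • u • y = t • u • k • y := fun y => by
    rw [← mul_smul, ku', mul_smul, mul_smul]
  obtain ⟨j, hj⟩ := h.pw (g := k) d1 (by rw [k1, k1]) (by rw [ktx, ktx, k1, k1])
    (by rw [kux, ktx, kux, k1, k1, c.ttx]) (by rw [ktx, ktx, kux, ktx, kux, k1, k1, c.ttx])
  have ct : Commute ((k * k) ^ j) t := ((Commute.mul_left kt' kt') : Commute (k * k) t).pow_left j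
  have cu : Commute ((k * k) ^ j) u := (show Commute (k * k) u by
    show k * k * u = u * (k * k)
    rw [mul_assoc, ku', ← mul_assoc, ← mul_assoc, kt', mul_assoc t, ku', ← mul_assoc t,
      ← mul_assoc t, c.tt, one_mul, mul_assoc]).pow_left j
  have fx : (k * k) ^ j • x = x := pow_fix (by rw [mul_smul, k1, k1]) j
  set g := k * (k * k) ^ j with hg
  have gt : g * t = t * g := by rw [hg, mul_assoc, ct.eq, ← mul_assoc, kt', mul_assoc]
  have gu : g * u = t * u * g := by rw [hg, mul_assoc, cu.eq, ← mul_assoc, ku', mul_assoc]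
  have gtx : ∀ y : Ω, t • g • y = g • t • y := fun y => by rw [← mul_smul, ← gt, mul_smul]
  have gux : ∀ y : Ω, t • u • g • y = g • u • y := fun y => by
    rw [← mul_smul, ← mul_smul, ← gu, mul_smul]
  have g1 : g • x = x := by rw [hg, mul_smul, fx, k1]
  have g2 : g • t • x = t • x := by rw [← gtx, g1]
  have g3 : g • u • x = t • u • x := by rw [← gux, g1]
  have k : ∀ y : Ω, t • y = y → u • y ≠ y → g • y = p1 ∨ g • y = p2 := fun y hy hy' => by
    by_contra hne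
    push Not at hne
    have e1 : t • g • y = g • y := by rw [gtx, hy]
    have e2 := c.fix_t h e1 hne.1 hne.2
    have e3 := gux y
    rw [e2, e1] at e3
    exact hy' (MulAction.injective g e3).symm
  have a1 := k p1 c.t1 (by rw [c.u1]; exact c.d.1.symm)
  have a2 := k p2 c.t2 (by rw [c.u2]; exact c.d.1)
  have x1 : ∀ y : Ω, t • y = y → x ≠ y ∧ t • x ≠ y := fun y hy =>
    ⟨fun e => h1 (by rw [e, hy]), fun e => h1 (by rw [← c.ttx x, e, hy, hy])⟩
  have a3 : g • p1 = p2 ∧ g • p2 = p1 := by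
    rcases a1 with a1 | a1 <;> rcases a2 with a2 | a2
    · exact absurd (MulAction.injective g (a1.trans a2.symm)) c.d.1
    · have := h.inv1 (a := x) (b := t • x) (c := p1) (d := p2)
        ⟨h1.symm, (x1 _ c.t1).1, (x1 _ c.t2).1, (x1 _ c.t1).2, (x1 _ c.t2).2, c.d.1⟩ hj g1 g2 a1 a2
      rw [this, one_smul] at g3
      exact absurd g3 e6
    · exact ⟨a1, a2⟩
    · exact absurd (MulAction.injective g (a1.trans a2.symm)) c.d.1
  refine ⟨g, hj, g1, g2, g3, gt, a3.1, a3.2, ?_⟩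
  by_contra hne
  push Not at hne
  have e1 : t • u • g • p3 = g • p3 := by rw [gux, c.u3]
  have e2 := c.fix_w h e1 hne.1 hne.2
  rw [gtx, c.t3] at e2
  exact c.d.2.2.2.2.2 (MulAction.injective g e2).symm

theorem C2.swap' {x : Ω} (h1 : t • x ≠ x) (h2 : u • x ≠ x) (h3 : t • u • x ≠ x) :
    ∃ (g : G) (y : Ω), g * g = 1 ∧ (y = x ∨ y = u • x) ∧ g • y = y ∧ g • t • y = t • y ∧
      g • p1 = p2 ∧ g • p2 = p1 ∧ g • p3 = p5 ∧ g • p4 = p6 := by
  obtain ⟨g, gg, g1, g2, g3, gt, a1, a2, a3⟩ := c.swap h h1 h2 h3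
  have gtx : ∀ y : Ω, g • t • y = t • g • y := fun y => by rw [← mul_smul, gt, mul_smul]
  rcases a3 with a3 | a3
  · exact ⟨g, x, gg, Or.inl rfl, g1, g2, a1, a2, a3, by rw [← c.t3, gtx, a3, c.t5]⟩
  · refine ⟨t * g, u • x, ?_, Or.inr rfl, ?_, ?_, ?_, ?_, ?_, ?_⟩
    · rw [mul_assoc, ← mul_assoc g, gt, mul_assoc, gg, mul_one, c.tt]
    · rw [mul_smul, g3, c.ttx]
    · rw [mul_smul, gtx, g3, c.ttx]
    · rw [mul_smul, a1, c.t2]
    · rw [mul_smul, a2, c.t1]
    · rw [mul_smul, a3, c.t6]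
    · rw [mul_smul, ← c.t3, gtx, a3, c.t6, c.t5]

/-- a regular orbit fixed by the four-point stabiliser is the only regular orbit -/
theorem C2.only {x y : Ω} (x1 : t • x ≠ x) (x2 : u • x ≠ x) (x3 : t • u • x ≠ x)
    (y1 : t • y ≠ y) (y2 : u • y ≠ y) (y3 : t • u • y ≠ y)
    (hH : ∀ k : G, k • p1 = p1 → k • p2 = p2 → k • p3 = p3 → k • p4 = p4 →
      k • x = x ∧ k • t • x = t • x ∧ k • u • x = u • x ∧ k • t • u • x = t • u • x)
    (z1 : y ≠ x) (z2 : y ≠ t • x) (z3 : y ≠ u • x) (z4 : y ≠ t • u • x) : False := by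
  obtain ⟨g, x', gg, hx', g1, g2, a1, a2, a3, a4⟩ := c.swap' h x1 x2 x3
  obtain ⟨k, y', kk, hy', k1, k2, b1, b2, b3, b4⟩ := c.swap' h y1 y2 y3
  obtain ⟨l, hl, l1, l2, l3, l4, -⟩ := h.adj gg kk c.d (by rw [a1, b1]) (by rw [a2, b2])
    (by rw [a3, b3]) (by rw [a4, b4])
  obtain ⟨m1, m2, m3, m4⟩ := hH l l1 l2 l3 l4
  have n1 : l • x' = x' ∧ l • t • x' = t • x' := by
    rcases hx' with rfl | rfl
    exacts [⟨m1, m2⟩, ⟨m3, m4⟩]
  have n2 : ∀ z : Ω, l • z = z → g • z = z → k • z = z := fun z e1 e2 => by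
    rw [← hl, mul_smul, mul_smul, inv_smul_eq_iff.2 e1.symm, e2, e1]
  have m1 : ∀ z : Ω, (z = x ∨ z = u • x) → t • z ≠ z := by
    rintro z (rfl | rfl)
    · exact x1
    · intro e
      rw [← c.utx] at e
      exact x1 (MulAction.injective u e)
  have m2 : ∀ z : Ω, (z = y ∨ z = u • y) → t • z ≠ z := by
    rintro z (rfl | rfl)
    · exact y1
    · intro e
      rw [← c.utx] at e
      exact y1 (MulAction.injective u e)
  have m3 : x' ≠ y' ∧ t • x' ≠ y' := by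
    rcases hx' with rfl | rfl <;> rcases hy' with rfl | rfl
    · exact ⟨fun e => z1 e.symm, fun e => z2 e.symm⟩
    · exact ⟨fun e => z3 (by rw [e, c.uux]), fun e => z4 (by rw [← c.utx, e, c.uux])⟩
    · exact ⟨fun e => z3 e.symm, fun e => z4 e.symm⟩
    · exact ⟨fun e => z1 (MulAction.injective u e).symm,
        fun e => z2 (MulAction.injective u (show u • y = u • t • x by rw [c.utx, e]))⟩
  have := h.inv1 (a := x') (b := t • x') (c := y') (d := t • y')
    ⟨(m1 _ hx').symm, m3.1, fun e => m3.2 (by rw [e, c.ttx]), m3.2,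
      fun e => m3.1 (MulAction.injective t e), (m2 _ hy').symm⟩ kk (n2 _ n1.1 g1) (n2 _ n1.2 g2) k1 k2
  rw [this, one_smul] at b1
  exact c.d.1 b1

/-- no four-group fixes two points -/
theorem C2.no_four {x : Ω} (x1 : t • x ≠ x) (x2 : u • x ≠ x) (x3 : t • u • x ≠ x)
    {r s : G} (rr : r * r = 1) (ss : s * s = 1) (rs : r * s = s * r) (r1 : r ≠ 1) (s1 : s ≠ 1)
    {a b : Ω} (hab : a ≠ b) (ra : r • a = a) (rb : r • b = b) (sa : s • a = a) (sb : s • b = b) :
    s = r := by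
  by_contra hne
  obtain ⟨y, hy⟩ : ∃ y : Ω, r • y ≠ y := by
    by_contra hh
    push Not at hh
    exact r1 (h.fa r hh)
  have rrx : ∀ z : Ω, r • r • z = z := fun z => by rw [← mul_smul, rr, one_smul]
  have srx : ∀ z : Ω, s • r • z = r • s • z := fun z => by rw [← mul_smul, ← rs, mul_smul]
  have n : ∀ z : Ω, r • z = z → z ≠ y ∧ z ≠ r • y := fun z hz =>
    ⟨fun e => hy (by rw [← e, hz]), fun e => hy (by rw [← rrx y, ← e, hz, hz])⟩
  have d : D4 a b y (r • y) := ⟨hab, (n a ra).1, (n a ra).2, (n b rb).1, (n b rb).2, hy.symm⟩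
  have y2 : s • y ≠ y := fun e => s1 (h.inv1 d ss sa sb e (by rw [srx, e]))
  have y3 : r • s • y ≠ y := fun e => by
    have := h.inv1 d (g := r * s) (by rw [mul_assoc, ← mul_assoc s, ← rs, mul_assoc, ss, mul_one, rr])
      (by rw [mul_smul, sa, ra]) (by rw [mul_smul, sb, rb]) (by rw [mul_smul, e])
      (by rw [mul_smul, srx, e])
    exact hne (by rw [← one_mul s, ← rr, mul_assoc, this, mul_one])
  obtain ⟨g, -, gt, gu⟩ := h.pair rr ss rs c.tt c.uu c.tu (reg_d4 rr rs hy y2 y3)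
    (reg_d4 c.tt c.tu x1 x2 x3)
  have f : ∀ (v : G) (z : Ω), v • z = z → (g * v * g⁻¹) • g • z = g • z := fun v z hz => by
    simp [mul_smul, hz]
  exact hab (MulAction.injective g (c.fix_uniq h (gt ▸ f r a ra) (gu ▸ f s a sa) (gt ▸ f r b rb)
    (gu ▸ f s b sb)))

end

end H76.Hall4
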