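import Cfsg.Agent.H76.Hall4

/-! M. Hall's theorem, second part. -/

set_option autoImplicit false

namespace H76.Hall4

open MulAction H76.Tits4
open scoped Pointwise

variable {G Ω : Type*} [Group G] [MulAction G Ω]

theorem O4.two (h : O4 G Ω) {a b c d c' d' : Ω} (h1 : D4 a b c d) (h2 : D4 a b c' d') :
    ∃ g : (stabilizer G a ⊓ stabilizer G b : Subgroup G), (g : G) • c = c' ∧ (g : G) • d = d' := by
  obtain ⟨g, g1, g2, g3, g4⟩ := h.ex4 h1 h2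
  exact ⟨⟨g, g1, g2⟩, g3, g4⟩

/-- the two-point stabiliser is affine -/
theorem O4.zlem [Finite G] (h : O4 G Ω) {t : G} (tt : t * t = 1) {a b c e : Ω} (ta : t • a = a)
    (tb : t • b = b) (d : D4 a b c (t • c)) (d' : D4 a b c e) (he : e ≠ t • c)
    (hiso : ∀ s : G, s * s = 1 → t * s = s * t → s ≠ 1 → s • a = a → s • b = b → s = t) :
    ∃ p : Ω, p ≠ a ∧ p ≠ b ∧ t • p = p ∧
      ∀ y : G, y • a = a → y • b = b → y • c = c → y • t • c = t • c → Commute y t ∧ y • p = p := by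
  set X : Subgroup G := stabilizer G a ⊓ stabilizer G b with hX
  have t1 : t ≠ 1 := fun e => d.2.2.2.2.2 (by rw [e, one_smul])
  let t' : X := ⟨t, ta, tb⟩
  have tt' : t' * t' = 1 := Subtype.ext tt
  have t1' : t' ≠ 1 := fun e => t1 (congrArg Subtype.val e)
  have hz := H34.zstar (u := t') ⟨orderOf_eq_prime (by rw [sq, tt']) t1', fun g hg => by
    apply Subtype.ext
    refine hiso _ ?_ (congrArg Subtype.val hg.eq) ?_ (g * t' * g⁻¹).2.1 (g * t' * g⁻¹).2.2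
    · rw [← Subgroup.coe_mul, conj_mul, tt']; simp
    · intro e
      exact t1' (by simpa using (Subtype.ext e : g * t' * g⁻¹ = 1))⟩
  have hO : Cfsg.oddCore X ≠ ⊥ := by
    intro h0
    obtain ⟨g, g1, g2⟩ := h.two d d'
    have := hz g
    rw [h0, Subgroup.mem_bot, mul_inv_eq_one, mul_inv_eq_iff_eq_mul] at this
    have e1 : t * g = g * t := congrArg Subtype.val this
    exact he (by rw [← g2, ← mul_smul, ← e1, mul_smul, g1])
  have := H42.odd_order (H2.odd_card_oddCore X)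
  obtain ⟨r, R, -, hRn, hRO, hR, hRe, -, -⟩ := H2.exists_elementaryAbelian_normal_le _ hO
  have hc : ∀ x ∈ R, ∀ y ∈ R, (x : G) * y = y * x := fun x hx y hy =>
    congrArg (fun z : R => ((z : X) : G)) (hRe.1.is_comm.comm ⟨x, hx⟩ ⟨y, hy⟩)
  have out : ∀ (g : X) (v : Ω), v ≠ a → v ≠ b → (g : G) • v ≠ a ∧ (g : G) • v ≠ b :=
    fun g v h1 h2 => ⟨fun e => h1 (MulAction.injective (g : G) (e.trans (g.2.1 : _ • a = a).symm)),
      fun e => h2 (MulAction.injective (g : G) (e.trans (g.2.2 : _ • b = b).symm))⟩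
  have tr : ∀ v w : Ω, v ≠ a → v ≠ b → w ≠ a → w ≠ b → ∃ ρ ∈ R, (ρ : G) • v = w := by
    intro v w v1 v2 w1 w2
    by_cases hvw : v = w
    · exact ⟨1, R.one_mem, by rw [hvw]; exact one_smul _ _⟩
    obtain ⟨⟨ρ, hρ⟩, hρ1⟩ := (Subgroup.ne_bot_iff_exists_ne_one).1 hR
    obtain ⟨z, hz⟩ : ∃ z : Ω, (ρ : G) • z ≠ z := by
      by_contra hh
      push Not at hh
      exact hρ1 (Subtype.ext (Subtype.ext (h.fa _ hh)))
    have z1 : z ≠ a := fun e => hz (by rw [e]; exact ρ.2.1)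
    have z2 : z ≠ b := fun e => hz (by rw [e]; exact ρ.2.2)
    obtain ⟨g, g1, g2⟩ := h.two (c := z) (d := (ρ : G) • z) (c' := v) (d' := w)
      ⟨d.1, z1.symm, (out ρ z z1 z2).1.symm, z2.symm, (out ρ z z1 z2).2.symm, hz.symm⟩
      ⟨d.1, v1.symm, w1.symm, v2.symm, w2.symm, hvw⟩
    exact ⟨g * ρ * g⁻¹, hRn.conj_mem ρ hρ g, by rw [← g1, ← g2]; simp [mul_smul]⟩
  have cen : ∀ (y : X) (v : Ω), v ≠ a → v ≠ b → (y : G) • v = v →
      (∀ ρ ∈ R, (y : G) * ρ = ρ * y) → y = 1 := by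
    intro y v v1 v2 hy hcm
    refine Subtype.ext (h.fa _ fun w => ?_)
    by_cases w1 : w = a
    · rw [w1]; exact y.2.1
    by_cases w2 : w = b
    · rw [w2]; exact y.2.2
    obtain ⟨σ, hσ, rfl⟩ := tr v w v1 v2 w1 w2
    rw [← mul_smul, hcm σ hσ, mul_smul, hy]
  have reg : ∀ ρ ∈ R, ∀ σ ∈ R, ∀ v : Ω, v ≠ a → v ≠ b → (ρ : G) • v = (σ : G) • v → ρ = σ := by
    intro ρ hρ σ hσ v v1 v2 e
    have hm := R.mul_mem (R.inv_mem hσ) hρ
    have := cen (σ⁻¹ * ρ) v v1 v2 (by rw [Subgroup.coe_mul, mul_smul, e]; simp) fun x hx => hc _ hm _ hx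
    exact (inv_mul_eq_one.1 this).symm
  have c1 := d.2.1.symm
  have c2 := d.2.2.2.1.symm
  have ttx : ∀ z : Ω, t • t • z = z := fun z => by rw [← mul_smul, tt, one_smul]
  have ti : t⁻¹ = t := inv_eq_of_mul_eq_one_right tt
  obtain ⟨ρ, hρ, e1⟩ := tr c (t • c) c1 c2 d.2.2.1.symm d.2.2.2.2.1.symm
  obtain ⟨j, hj⟩ : Odd (orderOf ρ) :=
    Odd.of_dvd_nat (H2.odd_card_oddCore X) (Subgroup.orderOf_dvd_natCard _ (hRO hρ))
  have e2 : t' * ρ * t'⁻¹ = ρ⁻¹ := reg _ (hRn.conj_mem ρ hρ t') _ (R.inv_mem hρ) (t • c)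
    d.2.2.1.symm d.2.2.2.2.1.symm (by
      show (t * ρ * t⁻¹) • t • c = (ρ : G)⁻¹ • t • c
      rw [mul_smul, mul_smul, inv_smul_smul, e1, ttx, ← e1, inv_smul_smul])
  have e3 : ρ ^ (j + 1) * ρ ^ (j + 1) = ρ := by
    rw [← pow_add, show j + 1 + (j + 1) = 2 * j + 1 + 1 by ring, pow_succ, ← hj, pow_orderOf_eq_one,
      one_mul]
  have e4 : t' * ρ ^ (j + 1) * t'⁻¹ = (ρ ^ (j + 1))⁻¹ := by rw [← conj_pow, e2, inv_pow]
  set σ := ρ ^ (j + 1) with hσ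
  have e5 : t • (σ : G) • c = (σ : G) • c := by
    have e6 : t * σ = (σ : G)⁻¹ * t := mul_inv_eq_iff_eq_mul.1 (congrArg Subtype.val e4)
    have e7 : (σ : G) * σ = ρ := congrArg Subtype.val e3
    rw [← mul_smul, e6, mul_smul, ← e1, ← e7, mul_smul, inv_smul_smul]
  obtain ⟨q1, q2⟩ := out σ c c1 c2
  have fixp : ∀ v : Ω, v ≠ a → v ≠ b → t • v = v → v = (σ : G) • c := fun v v1 v2 hv => by
    by_contra hne
    exact t1 (h.inv1 (a := a) (b := b) (c := v) (d := (σ : G) • c)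
      ⟨d.1, v1.symm, q1.symm, v2.symm, q2.symm, hne⟩ tt ta tb hv e5)
  have inv : ∀ x ∈ R, t' * x * t'⁻¹ = x⁻¹ := fun x hx => by
    have hm := hRn.conj_mem x hx t'
    have hm' := R.mul_mem hx hm
    have k1 : t * (x * (t * x * t⁻¹)) = (x * (t * x * t⁻¹)) * t := by
      have k2 : (x : G) * (t * x * t⁻¹) = (t * x * t⁻¹) * x := hc _ hx _ hm
      conv_lhs => rw [k2]
      rw [ti]
      calc t * (t * x * t * x) = (t * t) * x * t * x := by group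
        _ = x * (t * x * t) * t := by rw [tt, one_mul, mul_assoc _ _ t, mul_assoc _ t t, tt]; group
    have k3 : ((x * (t' * x * t'⁻¹) : X) : G) • (σ : G) • c = (σ : G) • c :=
      fixp _ (out _ _ q1 q2).1 (out _ _ q1 q2).2 (by
        show t • ((x : G) * (t * x * t⁻¹)) • _ = ((x : G) * (t * x * t⁻¹)) • _
        rw [← mul_smul, k1, mul_smul, e5])
    exact eq_inv_of_mul_eq_one_right (reg _ hm' _ R.one_mem _ q1 q2 (k3.trans (one_smul _ _).symm))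
  refine ⟨_, q1, q2, e5, fun y ya yb yc ytc => ?_⟩
  let y' : X := ⟨y, ya, yb⟩
  have f1 : y' * ρ * y'⁻¹ = ρ := reg _ (hRn.conj_mem ρ hρ y') _ hρ c c1 c2 (by
    show (y * ρ * y⁻¹) • c = _
    rw [mul_smul, mul_smul, inv_smul_eq_iff.2 yc.symm, e1, ytc])
  have f2 : y' * σ * y'⁻¹ = σ := by rw [hσ, ← conj_pow, f1]
  have f3 : y • (σ : G) • c = (σ : G) • c := by
    have f4 : y * σ = σ * y := mul_inv_eq_iff_eq_mul.1 (congrArg Subtype.val f2)
    rw [← mul_smul, f4, mul_smul, yc]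
  refine ⟨?_, f3⟩
  have f5 := cen (y'⁻¹ * t'⁻¹ * y' * t') _ q1 q2 (by
    show (y⁻¹ * t⁻¹ * y * t) • _ = _
    rw [mul_smul, mul_smul, mul_smul, e5, f3, ti, e5, inv_smul_eq_iff, f3]) fun x hx => by
      have k1 := inv x hx
      have k2 := inv _ (hRn.conj_mem x hx y')
      have k3 : (y'⁻¹ * t'⁻¹ * y' * t') * x * (y'⁻¹ * t'⁻¹ * y' * t')⁻¹ = x := by
        calc _ = y'⁻¹ * t'⁻¹ * (y' * (t' * x * t'⁻¹) * y'⁻¹) * t' * y' := by group
          _ = y'⁻¹ * t'⁻¹ * (y' * x * y'⁻¹)⁻¹ * t' * y' := by rw [k1]; group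
          _ = x := by rw [← k2]; group
      exact congrArg Subtype.val (mul_inv_eq_iff_eq_mul.1 k3)
  have f6 : y⁻¹ * t⁻¹ * y * t = 1 := congrArg Subtype.val f5
  show y * t = t * y
  calc y * t = t * y * (y⁻¹ * t⁻¹ * y * t) := by group
    _ = t * y := by rw [f6, mul_one]

theorem O4.exists_c2 (h : O4 G Ω) (hbig : ∀ s : Finset Ω, s.card ≤ 7 → ∃ x, x ∉ s) :
    ∃ (t u : G) (p1 p2 p3 p4 p5 p6 : Ω), C2 t u p1 p2 p3 p4 p5 p6 := by
  classical
  obtain ⟨p1, -⟩ := hbig ∅ (by simp)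
  obtain ⟨p2, h2⟩ := hbig {p1} (by simp)
  obtain ⟨p3, h3⟩ := hbig {p1, p2} (Finset.card_le_two.trans (by norm_num))
  obtain ⟨p4, h4⟩ := hbig {p1, p2, p3} (Finset.card_le_three.trans (by norm_num))
  obtain ⟨q1, h5⟩ := hbig {p1, p2, p3, p4} (Finset.card_le_four.trans (by norm_num))
  obtain ⟨q2, h6⟩ := hbig {p1, p2, p3, p4, q1} (Finset.card_le_five.trans (by norm_num))
  simp only [Finset.mem_insert, Finset.mem_singleton, not_or] at h2 h3 h4 h5 h6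
  have d : D4 p1 p2 p3 p4 := ⟨Ne.symm h2, Ne.symm h3.1, Ne.symm h4.1, Ne.symm h3.2, Ne.symm h4.2.1,
    Ne.symm h4.2.2⟩
  obtain ⟨d1, d2, d3, d4, d5, d6⟩ := id d
  have act : ∀ (g : G) (j : ℕ) (y : Ω), g • g • y = y → (g * (g * g) ^ j) • y = g • y :=
    fun g j y hy => by rw [mul_smul, pow_fix (by rwa [mul_smul]) j]
  obtain ⟨t0, s1, s2, s3, s4⟩ := h.ex4 d (⟨d1, d3, d2, d5, d4, d6.symm⟩ : D4 p1 p2 p4 p3)
  obtain ⟨j, tt⟩ := h.pw (g := t0) d (by rw [s1, s1]) (by rw [s2, s2]) (by rw [s3, s4]) (by rw [s4, s3])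
  have t1 := (act t0 j p1 (by rw [s1, s1])).trans s1
  have t2 := (act t0 j p2 (by rw [s2, s2])).trans s2
  have t3 := (act t0 j p3 (by rw [s3, s4])).trans s3
  have t4 := (act t0 j p4 (by rw [s4, s3])).trans s4
  generalize t0 * (t0 * t0) ^ j = t at tt t1 t2 t3 t4
  obtain ⟨u0, r1, r2, r3, r4⟩ := h.ex4 d (⟨d1.symm, d4, d5, d2, d3, d6⟩ : D4 p2 p1 p3 p4)
  obtain ⟨k, kt, k1, k2, k3, k4, -⟩ := h.adj2 (g := u0) tt tt d (by rw [t1, r1, t2])
    (by rw [t2, r2, t1]) (by rw [t3, r3, r4, t3]) (by rw [t4, r3, r4, t4])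
  rw [r1] at k1
  rw [r2] at k2
  rw [r3] at k3
  rw [r4] at k4
  obtain ⟨i, uu⟩ := h.pw (g := k) d (by rw [k1, k2]) (by rw [k2, k1]) (by rw [k3, k3]) (by rw [k4, k4])
  have u1 := (act k i p1 (by rw [k1, k2])).trans k1
  have u2 := (act k i p2 (by rw [k2, k1])).trans k2
  have u3 := (act k i p3 (by rw [k3, k3])).trans k3
  have u4 := (act k i p4 (by rw [k4, k4])).trans k4
  have kt' : Commute t k := (mul_inv_eq_iff_eq_mul.1 kt).symm
  have tu := (kt'.mul_right ((kt'.mul_right kt').pow_right i)).eq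
  generalize k * (k * k) ^ i = u at uu u1 u2 u3 u4 tu
  have ttx : ∀ x : Ω, t • t • x = x := fun x => by rw [← mul_smul, tt, one_smul]
  have tne : t ≠ 1 := fun e => d6 (by rw [← t3, e, one_smul])
  obtain ⟨a, a1, a3, a4⟩ : ∃ a : Ω, t • a ≠ a ∧ a ≠ p3 ∧ a ≠ p4 := by
    by_contra hne
    push Not at hne
    exact tne (h.inv1 (a := p1) (b := p2) (c := q1) (d := q2)
      ⟨d1, Ne.symm h5.1, Ne.symm h6.1, Ne.symm h5.2.1, Ne.symm h6.2.1, Ne.symm h6.2.2.2.2⟩ tt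
      t1 t2 (by_contra fun e => h5.2.2.2 (hne _ e h5.2.2.1))
      (by_contra fun e => h6.2.2.2.1 (hne _ e h6.2.2.1)))
  have d' : D4 p3 p4 a (t • a) := ⟨d6, a3.symm, fun e => a4 (by rw [← ttx a, ← e, t3]), a4.symm,
    fun e => a3 (by rw [← ttx a, ← e, t4]), a1.symm⟩
  obtain ⟨g0, g1, g2, g3, g4⟩ := h.ex4 d' d
  obtain ⟨g, gt, -⟩ := h.adj2 (g := g0) (t' := t * u) tt
    (by rw [mul_assoc, ← mul_assoc u, ← tu, mul_assoc, uu, mul_one, tt]) d'
    (by rw [t3, g1, g2, mul_smul, u1, t2]) (by rw [t4, g1, g2, mul_smul, u2, t1])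
    (by rw [g3, g4, mul_smul, u3, t3]) (by rw [ttx, g3, g4, mul_smul, u4, t4])
  have w : ∀ y : Ω, t • y = y → t • u • g • y = g • y := fun y hy => by
    rw [← mul_smul t, ← gt, mul_smul, mul_smul, inv_smul_smul, hy]
  by_contra hne
  have key : ∀ y : Ω, t • u • y = y → t • y = y := fun y hy => by_contra fun hy' =>
    hne ⟨t, u, p1, p2, p3, p4, y, t • y, ⟨d, t1, t2, t3, t4, u1, u2, u3, u4, rfl,
      by rw [← ttx (u • y), hy], Ne.symm hy'⟩, tt, uu, tu⟩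
  have n : ∀ y : Ω, t • u • y = y → p1 ≠ y ∧ p2 ≠ y := fun y hy =>
    ⟨fun e => d1 (by rw [← e, u1, t2] at hy; exact hy.symm),
      fun e => d1 (by rw [← e, u2, t1] at hy; exact hy)⟩
  exact tne (h.inv1 (a := p1) (b := p2) (c := g • p1) (d := g • p2)
    ⟨d1, (n _ (w _ t1)).1, (n _ (w _ t2)).1, (n _ (w _ t1)).2, (n _ (w _ t2)).2,
      fun e => d1 (MulAction.injective g e)⟩ tt t1 t2 (key _ (w _ t1)) (key _ (w _ t2)))

/-- pointwise stabiliser of four points -/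
def st4 (G : Type*) [Group G] [MulAction G Ω] (a b c d : Ω) : Subgroup G :=
  stabilizer G a ⊓ stabilizer G b ⊓ stabilizer G c ⊓ stabilizer G d

theorem mem_st4 {a b c d : Ω} {g : G} :
    g ∈ st4 G a b c d ↔ g • a = a ∧ g • b = b ∧ g • c = c ∧ g • d = d := by
  simp [st4, and_assoc]

/-- the fixed points of a four-point stabiliser do not number seven -/
theorem O4.fix_ne_seven [Finite G] [Finite Ω] (h : O4 G Ω) {a b c d : Ω} (d1 : D4 a b c d) :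
    {z : Ω | ∀ k ∈ st4 G a b c d, k • z = z}.ncard ≠ 7 := by
  set Φ := {z : Ω | ∀ k ∈ st4 G a b c d, k • z = z} with hΦ
  have K : ∀ x : Fin 4 ↪ Φ, D4 (x 0 : Ω) (x 1) (x 2) (x 3) ∧
      st4 G a b c d = st4 G (x 0 : Ω) (x 1) (x 2) (x 3) := fun x => by
    have d2 : D4 (x 0 : Ω) (x 1) (x 2) (x 3) := by
      refine ⟨?_, ?_, ?_, ?_, ?_, ?_⟩ <;>
        exact fun e => absurd (x.injective (Subtype.ext e)) (by decide)
    refine ⟨d2, Subgroup.eq_of_le_of_card_ge (fun k hk => mem_st4.2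
      ⟨(x 0).2 k hk, (x 1).2 k hk, (x 2).2 k hk, (x 3).2 k hk⟩) ?_⟩
    obtain ⟨g, g1, g2, g3, g4⟩ := h.ex4 d1 d2
    refine Nat.card_le_card_of_injective (fun k => ⟨g⁻¹ * k * g, ?_⟩) fun k l e => ?_
    · obtain ⟨k1, k2, k3, k4⟩ := mem_st4.1 k.2
      simp only [mem_st4, mul_smul, g1, g2, g3, g4, k1, k2, k3, k4, inv_smul_eq_iff, and_self]
    · exact Subtype.ext (by simpa using congrArg Subtype.val e)
  have M : ∀ (x y : Fin 4 ↪ Φ) (g : G), (∀ i, g • (x i : Ω) = y i) → ∀ z ∈ Φ, g • z ∈ Φ := by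
    intro x y g hg z hz k hk
    have : g⁻¹ * k * g ∈ st4 G a b c d := by
      rw [(K x).2, mem_st4]
      simp only [mul_smul, hg, (y _).2 k hk, inv_smul_eq_iff, and_self]
    have := hz _ this
    rwa [mul_smul, mul_smul, inv_smul_eq_iff] at this
  have hS : SharpT (toPermHom (stabilizer G Φ) Φ).range Φ 4 := by
    refine ⟨⟨fun x y => ?_⟩, fun x => ?_⟩
    · obtain ⟨g, g1, g2, g3, g4⟩ := h.ex4 (K x).1 (K y).1
      have hg : ∀ i, g • (x i : Ω) = y i := fun i => by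
        fin_cases i
        exacts [g1, g2, g3, g4]
      have hg' : g ∈ stabilizer G Φ := by
        rw [mem_stabilizer_iff]
        refine Set.Subset.antisymm ?_ fun z hz => ?_
        · rintro _ ⟨z, hz, rfl⟩
          exact M x y g hg z hz
        · exact ⟨g⁻¹ • z, M y x g⁻¹ (fun i => inv_smul_eq_iff.2 (hg i).symm) z hz, smul_inv_smul g z⟩
      refine ⟨⟨_, ⟨g, hg'⟩, rfl⟩, ?_⟩
      ext i
      exact hg i
    · rw [Subgroup.eq_bot_iff_forall]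
      rintro ⟨_, g, rfl⟩ hg
      rw [mem_stabilizer_emb_iff] at hg
      have hg' : ∀ i, (g : G) • (x i : Ω) = x i := fun i => congrArg Subtype.val (hg i)
      have : (g : G) ∈ st4 G a b c d := by
        rw [(K x).2]
        exact mem_st4.2 ⟨hg' 0, hg' 1, hg' 2, hg' 3⟩
      ext z
      exact z.2 _ this
  exact hS.four_ne_seven

theorem O4.sharp [Finite G] [Finite Ω] (h : O4 G Ω) (hn : 8 ≤ Nat.card Ω) : SharpT G Ω 4 := by
  classical
  have := Fintype.ofFinite Ω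
  have hbig : ∀ s : Finset Ω, s.card ≤ 7 → ∃ x, x ∉ s := fun s hs => by
    by_contra hne
    push Not at hne
    rw [Finset.eq_univ_iff_forall.2 hne, Finset.card_univ, ← Nat.card_eq_fintype_card] at hs
    omega
  obtain ⟨t, u, p1, p2, p3, p4, p5, p6, c⟩ := h.exists_c2 hbig
  obtain ⟨d1, d2, d3, d4, d5, d6⟩ := c.d
  have m5 : t • p5 ≠ p5 := by rw [c.t5]; exact c.n56.symm
  have m6 : t • p6 ≠ p6 := by rw [c.t6]; exact c.n56
  have m5' : u • p5 ≠ p5 := by rw [c.u5]; exact c.n56.symm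
  have m6' : u • p6 ≠ p6 := by rw [c.u6]; exact c.n56
  have m3 : t • p3 ≠ p3 := by rw [c.t3]; exact d6.symm
  have m4 : t • p4 ≠ p4 := by rw [c.t4]; exact d6
  have ne : ∀ {g : G} {x y : Ω}, g • x = x → g • y ≠ y → x ≠ y := fun h1 h2 e => h2 (e ▸ h1)
  have reg : ∀ p : Ω, (∀ x : Ω, t • x = x → u • x = x → x = p) →
      ∀ x : Ω, x ∉ ({p1, p2, p3, p4, p5, p6, p} : Finset Ω) →
      t • x ≠ x ∧ u • x ≠ x ∧ t • u • x ≠ x := fun p hp x hx => by
    simp only [Finset.mem_insert, Finset.mem_singleton, not_or] at hx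
    obtain ⟨x1, x2, x3, x4, x5, x6, x7⟩ := hx
    have k1 : t • x ≠ x := fun e => x7 (hp x e (c.fix_t h e x1 x2))
    exact ⟨k1, fun e => k1 (c.fix_u h e x3 x4), fun e => k1 (c.fix_w h e x5 x6)⟩
  obtain ⟨x0, x1, x2, x3⟩ : ∃ x : Ω, t • x ≠ x ∧ u • x ≠ x ∧ t • u • x ≠ x := by
    obtain ⟨p, hp⟩ : ∃ p : Ω, ∀ x : Ω, t • x = x → u • x = x → x = p := by
      by_cases hex : ∃ p : Ω, t • p = p ∧ u • p = p
      · obtain ⟨p, h1, h2⟩ := hex
        exact ⟨p, fun x hx hx' => c.fix_uniq h hx hx' h1 h2⟩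
      · exact ⟨p1, fun x hx hx' => absurd ⟨x, hx, hx'⟩ hex⟩
    obtain ⟨x, hx⟩ := hbig {p1, p2, p3, p4, p5, p6, p}
      (by simpa using List.toFinset_card_le [p1, p2, p3, p4, p5, p6, p])
    exact ⟨x, reg p hp x hx⟩
  obtain ⟨p, q1, q2, tp, hp⟩ := h.zlem c.tt (c := p3) (e := p5) c.t1 c.t2 (by rw [c.t3]; exact c.d)
    ⟨d1, d2, ne c.t1 m5, d4, ne c.t2 m5, ne c.u3 m5'⟩ (by rw [c.t3]; exact (ne c.u4 m5').symm)
    fun s ss ts s1 sa sb => c.no_four h x1 x2 x3 c.tt ss ts c.t_ne s1 d1 c.t1 c.t2 sa sb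
  obtain ⟨p', -, -, -, hu⟩ := h.zlem c.uu (c := p1) (e := p5) c.u3 c.u4
    (by rw [c.u1]; exact ⟨d6, d2.symm, d4.symm, d3.symm, d5.symm, d1⟩)
    ⟨d6, d2.symm, ne c.u3 m5', d3.symm, ne c.u4 m5', ne c.t1 m5⟩
    (by rw [c.u1]; exact (ne c.t2 m5).symm)
    fun s ss ts s1 sa sb => c.no_four h x1 x2 x3 c.uu ss ts c.u_ne s1 d6 c.u3 c.u4 sa sb
  have up := c.fix_t h tp q1 q2
  have hH : ∀ k ∈ st4 G p1 p2 p3 p4, (∀ z : Ω, k • t • z = t • k • z) ∧
      (∀ z : Ω, k • u • z = u • k • z) ∧ k • p = p := fun k hk => by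
    obtain ⟨k1, k2, k3, k4⟩ := mem_st4.1 hk
    obtain ⟨a1, a2⟩ := hp k k1 k2 k3 (by rw [c.t3, k4])
    obtain ⟨a3, -⟩ := hu k k3 k4 k1 (by rw [c.u1, k2])
    exact ⟨fun z => by rw [← mul_smul, a1.eq, mul_smul], fun z => by rw [← mul_smul, a3.eq, mul_smul],
      a2⟩
  have h5 : ∀ k ∈ st4 G p1 p2 p3 p4, k • p5 = p5 := fun k hk => by
    obtain ⟨a1, a2, -⟩ := hH k hk
    by_contra hne
    have e1 : k • p5 = p6 := by_contra fun e => m5 (MulAction.injective k (show k • t • p5 = k • p5 by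
      rw [a1]; exact c.fix_w h (by rw [← a2, ← a1, c.u5, c.t6]) hne e))
    obtain ⟨k1, k2, k3, k4⟩ := mem_st4.1 hk
    obtain ⟨j, hj⟩ := h.od c.d k1 k2 k3 k4
    have e2 : (k * k) • p5 = p5 := by rw [mul_smul, e1, ← c.t5, a1, e1, c.t6]
    have e3 : k * (k * k) ^ j = 1 := by
      rw [← pow_orderOf_eq_one k, hj, ← sq, ← pow_mul, pow_succ']
    have e4 : (k * (k * k) ^ j) • p5 = p5 := by rw [e3, one_smul]
    rw [mul_smul, pow_fix e2] at e4
    exact hne e4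
  set Φ := {z : Ω | ∀ k ∈ st4 G p1 p2 p3 p4, k • z = z} with hΦ
  have hsub : ((({p1, p2, p3, p4, p5, p6, p} : Finset Ω)) : Set Ω) ⊆ Φ := by
    intro z hz k hk
    obtain ⟨k1, k2, k3, k4⟩ := mem_st4.1 hk
    simp only [Finset.coe_insert, Finset.coe_singleton, Set.mem_insert_iff, Set.mem_singleton_iff]
      at hz
    rcases hz with rfl | rfl | rfl | rfl | rfl | rfl | rfl
    exacts [k1, k2, k3, k4, h5 k hk, by rw [← c.t5, (hH k hk).1, h5 k hk], (hH k hk).2.2]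
  have hcard : ({p1, p2, p3, p4, p5, p6, p} : Finset Ω).card = 7 := by
    have : [p1, p2, p3, p4, p5, p6, p].Nodup := by
      simp [d1, d2, d3, d4, d5, d6, ne c.t1 m5, ne c.t1 m6, ne c.t2 m5, ne c.t2 m6, ne c.u3 m5',
        ne c.u3 m6', ne c.u4 m5', ne c.u4 m6', c.n56, q1.symm, q2.symm, (ne tp m3).symm,
        (ne tp m4).symm, (ne tp m5).symm, (ne tp m6).symm]
    simpa using List.toFinset_card_of_nodup this
  obtain ⟨x, hx, hx'⟩ : ∃ x ∈ Φ, x ∉ ({p1, p2, p3, p4, p5, p6, p} : Finset Ω) := by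
    by_contra hne
    push Not at hne
    apply h.fix_ne_seven c.d
    rw [← hΦ, Set.Subset.antisymm (fun z hz => Finset.mem_coe.2 (hne z hz)) hsub, Set.ncard_coe_finset,
      hcard]
  have hpu : ∀ x : Ω, t • x = x → u • x = x → x = p := fun x hx hx' => c.fix_uniq h hx hx' tp up
  obtain ⟨y1, y2, y3⟩ := reg p hpu x hx'
  have hO : ∀ k ∈ st4 G p1 p2 p3 p4,
      k • x = x ∧ k • t • x = t • x ∧ k • u • x = u • x ∧ k • t • u • x = t • u • x := fun k hk => by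
    obtain ⟨a1, a2, -⟩ := hH k hk
    simp only [a1, a2, hx k hk, and_self]
  have hall : ∀ k ∈ st4 G p1 p2 p3 p4, k = 1 := fun k hk => h.fa k fun z => by
    by_cases hz : z ∈ ({p1, p2, p3, p4, p5, p6, p} : Finset Ω)
    · exact hsub (Finset.mem_coe.2 hz) k hk
    obtain ⟨z1, z2, z3⟩ := reg p hpu z hz
    obtain ⟨b1, b2, b3, b4⟩ := hO k hk
    by_contra hne
    exact c.only h y1 y2 y3 z1 z2 z3 (fun l l1 l2 l3 l4 => hO l (mem_st4.2 ⟨l1, l2, l3, l4⟩))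
      (ne b1 hne).symm (ne b2 hne).symm (ne b3 hne).symm (ne b4 hne).symm
  refine ⟨h.tr, fun y => ?_⟩
  rw [Subgroup.eq_bot_iff_forall]
  intro k hk
  rw [mem_stabilizer_emb_iff] at hk
  obtain ⟨g, g1, g2, g3, g4⟩ := h.ex4 c.d (a' := y 0) (b' := y 1) (c' := y 2) (d' := y 3) (by
    refine ⟨?_, ?_, ?_, ?_, ?_, ?_⟩ <;> exact fun e => absurd (y.injective e) (by decide))
  have := hall (g⁻¹ * k * g) (by
    simp only [mem_st4, mul_smul, g1, g2, g3, g4, hk, inv_smul_eq_iff, and_self])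
  simpa [mul_assoc, inv_mul_eq_one] using this

end H76.Hall4
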