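import Cfsg.Agent.S4221
import Cfsg.Agent.H17.SylowIn

/-! Multiply transitive groups with odd-order stabilisers; a `(k+1)`-set with the alternating
group induced. -/

set_option autoImplicit false

namespace H76.LW

open MulAction H76.Tits4 H76.Hall4 SubMulAction

universe u v

variable {G Ω : Type*} [Group G] [MulAction G Ω] {k : ℕ}

/-- `k`-transitive, faithful, elements fixing `k` points have odd order -/
structure Ok (G Ω : Type*) [Group G] [MulAction G Ω] (k : ℕ) : Prop where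
  tr : IsMultiplyPretransitive G Ω k
  fa : ∀ g : G, (∀ x : Ω, g • x = x) → g = 1
  od : ∀ (x : Fin k ↪ Ω) (g : G), (∀ i, g • x i = x i) → Odd (orderOf g)

/-- some element acts as a 3-cycle -/
def T3 (G Ω : Type*) [Group G] [MulAction G Ω] : Prop :=
  ∃ (g : G) (a b c : Ω), a ≠ b ∧ a ≠ c ∧ b ≠ c ∧ g • a = b ∧ g • b = c ∧ g • c = a ∧
    ∀ x, x ≠ a → x ≠ b → x ≠ c → g • x = x

theorem ex_emb (h : IsMultiplyPretransitive G Ω k) (x y : Fin k ↪ Ω) :
    ∃ g : G, ∀ i, g • x i = y i := by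
  have h' : IsPretransitive G (Fin k ↪ Ω) := h
  obtain ⟨g, hg⟩ := exists_smul_eq G x y
  exact ⟨g, fun i => by simpa using congrArg (fun z : Fin k ↪ Ω => z i) hg⟩

theorem tr_of (h : ∀ x y : Fin k ↪ Ω, ∃ g : G, ∀ i, g • x i = y i) :
    IsMultiplyPretransitive G Ω k :=
  ⟨fun x y => by
    obtain ⟨g, hg⟩ := h x y
    exact ⟨g, by ext i; simpa using hg i⟩⟩

theorem tr_range (h : IsMultiplyPretransitive G Ω k) :
    IsMultiplyPretransitive (toPermHom G Ω).range Ω k :=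
  tr_of fun x y => by
    obtain ⟨g, hg⟩ := ex_emb h x y
    exact ⟨⟨_, g, rfl⟩, hg⟩

theorem T3.alt [Fintype Ω] [DecidableEq Ω] (h : T3 G Ω) (h2 : IsMultiplyPretransitive G Ω 2) :
    alternatingGroup Ω ≤ (toPermHom G Ω).range := by
  obtain ⟨g, a, b, c, h1, h3, h4, ga, gb, gc, hg⟩ := h
  refine Equiv.Perm.alternatingGroup_le_of_isPreprimitive_of_isThreeCycle_mem
    (isPreprimitive_of_is_two_pretransitive (tr_range h2)) (g := toPermHom G Ω g)
    (card_support_eq_three_iff.1 ?_) ⟨g, rfl⟩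
  rw [Finset.card_eq_three]
  refine ⟨a, b, c, h1, h3, h4, ?_⟩
  ext x
  simp only [Equiv.Perm.mem_support, toPermHom_apply, toPerm_apply, Finset.mem_insert,
    Finset.mem_singleton]
  constructor
  · intro hx
    by_contra hne
    push Not at hne
    exact hx (hg x hne.1 hne.2.1 hne.2.2)
  · rintro (rfl | rfl | rfl)
    · rw [ga]; exact h1.symm
    · rw [gb]; exact h4.symm
    · rw [gc]; exact h3

theorem t3_of_alt [Fintype Ω] [DecidableEq Ω] (h : alternatingGroup Ω ≤ (toPermHom G Ω).range)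
    (h3 : 2 < Fintype.card Ω) : T3 G Ω := by
  obtain ⟨a, b, c, h1, h2, h4⟩ := Fintype.two_lt_card_iff.1 h3
  obtain ⟨g, hg⟩ := h (x := Equiv.swap a b * Equiv.swap b c) (by
    rw [Equiv.Perm.mem_alternatingGroup]; simp [h1, h4])
  have k : ∀ x, g • x = Equiv.swap a b (Equiv.swap b c x) := fun x => by
    simpa using congrArg (fun σ : Equiv.Perm Ω => σ x) hg
  refine ⟨g, a, b, c, h1, h2, h4, ?_, ?_, ?_, fun x x1 x2 x3 => ?_⟩ <;> rw [k]
  · rw [Equiv.swap_apply_of_ne_of_ne h1 h2, Equiv.swap_apply_left]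
  · rw [Equiv.swap_apply_left, Equiv.swap_apply_of_ne_of_ne h2.symm h4.symm]
  · rw [Equiv.swap_apply_right, Equiv.swap_apply_right]
  · rw [Equiv.swap_apply_of_ne_of_ne x2 x3, Equiv.swap_apply_of_ne_of_ne x1 x2]

theorem Ok.o4 (h : Ok G Ω 4) : O4 G Ω :=
  ⟨h.tr, h.fa, fun hd g ga gb gc gd => h.od (emb hd) g fun i => by
    fin_cases i
    exacts [ga, gb, gc, gd]⟩

theorem Ok.base [Finite G] [Finite Ω] (h : Ok G Ω 4) (hk : 4 ≤ Nat.card Ω) :
    (T3 G Ω ∧ Nat.card Ω ≤ 7) ∨ (SharpT G Ω 4 ∧ Nat.card Ω = 11) := by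
  classical
  by_cases h8 : 8 ≤ Nat.card Ω
  · have hS := h.o4.sharp h8
    have := deg4 hS hk
    exact Or.inr ⟨hS, by omega⟩
  have := Fintype.ofFinite Ω
  obtain ⟨x⟩ : Nonempty (Fin 4 ↪ Ω) := exists_emb_fin hk
  have hc : Nat.card Ω = Fintype.card Ω := Nat.card_eq_fintype_card
  refine Or.inl ⟨t3_of_alt ?_ (by omega), by omega⟩
  have := Cfsg.Agent.S4221.result (toPermHom G Ω).range (tr_range h.tr) x (by
    rw [← Nat.not_even_iff_odd, even_iff_two_dvd]
    intro hd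
    obtain ⟨⟨⟨_, g, rfl⟩, hg⟩, ho⟩ := exists_prime_orderOf_dvd_card' 2 hd
    have h1 := h.od x g ((mem_stabilizer_emb_iff (G := (toPermHom G Ω).range) x _).1 hg)
    have h2 : orderOf (toPermHom G Ω g) = 2 := by
      rw [← ho, ← Subgroup.orderOf_coe, ← Subgroup.orderOf_coe]
    exact absurd (Odd.of_dvd_nat h1 (h2 ▸ orderOf_map_dvd _ g)) (by decide))
  rcases this with ⟨-, h1⟩ | ⟨-, h1⟩ | ⟨h1, -⟩
  · rw [h1]; exact le_top
  · rw [h1]
  · omega

/-- add a point in front of a tuple of other points -/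
def cons (a : Ω) (x : Fin k ↪ ofStabilizer G a) : Fin (k + 1) ↪ Ω :=
  ⟨Fin.cons a fun i => (x i : Ω), Fin.cons_injective_iff.2
    ⟨by rintro ⟨i, hi⟩; exact (x i).2 hi, fun _ _ e => x.injective (Subtype.ext e)⟩⟩

theorem cons_fix {a : Ω} (x : Fin k ↪ ofStabilizer G a) (g : stabilizer G a)
    (hg : ∀ i, g • x i = x i) (i : Fin (k + 1)) : (g : G) • cons a x i = cons a x i := by
  refine Fin.cases ?_ (fun j => ?_) i
  · exact g.2
  · exact congrArg Subtype.val (hg j)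

theorem Ok.stab [Finite Ω] (h : Ok G Ω (k + 1)) (hk : k + 1 ≤ Nat.card Ω) (a : Ω) :
    Ok (stabilizer G a) (ofStabilizer G a) k := by
  have h1 := h.tr
  have : IsPretransitive G Ω :=
    is_one_pretransitive_iff.1 (isMultiplyPretransitive_of_le (n := k + 1) (by omega) hk)
  refine ⟨ofStabilizer.isMultiplyPretransitive.1 h1, fun g hg => Subtype.ext (h.fa g fun x => ?_),
    fun x g hg => ?_⟩
  · by_cases hx : x = a
    · rw [hx]; exact g.2
    · exact congrArg Subtype.val (hg ⟨x, hx⟩)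
  · rw [← Subgroup.orderOf_coe]
    exact h.od _ _ (cons_fix x g hg)

theorem Ok.cases (k : ℕ) : ∀ (G : Type u) (Ω : Type v) [Group G] [MulAction G Ω] [Finite G]
    [Finite Ω], Ok G Ω (k + 4) → k + 4 ≤ Nat.card Ω →
    (T3 G Ω ∧ Nat.card Ω ≤ k + 7) ∨ (SharpT G Ω (k + 4) ∧ Nat.card Ω = k + 11) := by
  induction k with
  | zero => intro G Ω _ _ _ _ h hk; simpa using h.base hk
  | succ k ih =>
    intro G Ω _ _ _ _ h hk
    have : Nonempty Ω := (Nat.card_pos_iff.1 (by omega)).1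
    obtain ⟨a⟩ := this
    have hc := card_ofStabilizer (G := G) a
    rcases ih _ _ (Ok.stab (k := k + 4) h hk a) (by omega) with
      ⟨⟨g, b, c, d, h1, h2, h3, gb, gc, gd, hg⟩, h4⟩ | ⟨h1, h2⟩
    · refine Or.inl ⟨⟨g, b, c, d, fun e => h1 (Subtype.ext e), fun e => h2 (Subtype.ext e),
        fun e => h3 (Subtype.ext e), congrArg Subtype.val gb, congrArg Subtype.val gc,
        congrArg Subtype.val gd, fun x x1 x2 x3 => ?_⟩, by omega⟩
      by_cases hx : x = a
      · rw [hx]; exact g.2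
      · exact congrArg Subtype.val (hg ⟨x, hx⟩ (fun e => x1 (congrArg Subtype.val e))
          (fun e => x2 (congrArg Subtype.val e)) (fun e => x3 (congrArg Subtype.val e)))
    · refine Or.inr ⟨⟨h.tr, fun y => ?_⟩, by omega⟩
      obtain ⟨x⟩ : Nonempty (Fin (k + 4) ↪ ofStabilizer G a) := exists_emb_fin (by omega)
      obtain ⟨g, hg⟩ := ex_emb h.tr (cons a x) y
      rw [Subgroup.eq_bot_iff_forall]
      intro l hl
      rw [mem_stabilizer_emb_iff] at hl
      have k1 : ∀ i, (g⁻¹ * l * g) • cons a x i = cons a x i := fun i => by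
        rw [mul_smul, mul_smul, hg, hl, inv_smul_eq_iff, hg]
      have k2 : (⟨g⁻¹ * l * g, k1 0⟩ : stabilizer G a) ∈ stabilizer (stabilizer G a) x :=
        (mem_stabilizer_emb_iff x _).2 fun i => Subtype.ext (k1 i.succ)
      rw [h1.2] at k2
      simpa [mul_assoc, inv_mul_eq_one] using congrArg Subtype.val (Subgroup.mem_bot.1 k2)

/-- the alternating group is induced on some `(k+1)`-tuple -/
def Good (G Ω : Type*) [Group G] [MulAction G Ω] (k : ℕ) : Prop :=
  ∃ x : Fin (k + 1) ↪ Ω, ∀ σ : Equiv.Perm (Fin (k + 1)), Equiv.Perm.sign σ = 1 →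
    ∃ g : G, ∀ i, g • x i = x (σ i)

theorem good_of_alt [Fintype Ω] [DecidableEq Ω] (h : alternatingGroup Ω ≤ (toPermHom G Ω).range)
    (hk : k + 1 ≤ Nat.card Ω) : Good G Ω k := by
  obtain ⟨x⟩ : Nonempty (Fin (k + 1) ↪ Ω) := exists_emb_fin hk
  refine ⟨x, fun σ hσ => ?_⟩
  obtain ⟨g, hg⟩ := h (x := σ.viaEmbedding x) (by
    rw [Equiv.Perm.mem_alternatingGroup, ← hσ]
    exact @Equiv.Perm.sign_extendDomain _ _ _ _ _ _ _ _ (Classical.decPred _) _)
  exact ⟨g, fun i => by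
    rw [← Equiv.Perm.viaEmbedding_apply σ x i, ← hg]; rfl⟩

theorem all_of_swaps {n : ℕ} (x : Fin n ↪ Ω)
    (h : ∀ i j, i ≠ j → ∃ g : G, ∀ l, g • x l = x (Equiv.swap i j l)) (σ : Equiv.Perm (Fin n)) :
    ∃ g : G, ∀ i, g • x i = x (σ i) := by
  induction σ using Equiv.Perm.swap_induction_on with
  | one => exact ⟨1, fun i => one_smul _ _⟩
  | swap_mul f i j hij ih =>
    obtain ⟨g, hg⟩ := ih
    obtain ⟨s, hs⟩ := h i j hij
    exact ⟨s * g, fun l => by rw [mul_smul, hg, hs]; rfl⟩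

theorem no_four' [Finite G] [Finite Ω] (h : O4 G Ω) (hn : 8 ≤ Nat.card Ω)
    {r s : G} (rr : r * r = 1) (ss : s * s = 1) (rs : r * s = s * r) (r1 : r ≠ 1) (s1 : s ≠ 1)
    {a b : Ω} (hab : a ≠ b) (ra : r • a = a) (rb : r • b = b) (sa : s • a = a) (sb : s • b = b) :
    s = r := by
  classical
  have := Fintype.ofFinite Ω
  have hbig : ∀ s : Finset Ω, s.card ≤ 7 → ∃ x, x ∉ s := fun s hs => by
    by_contra hne
    push Not at hne
    rw [Finset.eq_univ_iff_forall.2 hne, Finset.card_univ, ← Nat.card_eq_fintype_card] at hs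
    omega
  obtain ⟨t, u, p1, p2, p3, p4, p5, p6, c⟩ := h.exists_c2 hbig
  obtain ⟨p, hp⟩ : ∃ p : Ω, ∀ x : Ω, t • x = x → u • x = x → x = p := by
    by_cases hex : ∃ p : Ω, t • p = p ∧ u • p = p
    · obtain ⟨p, h1, h2⟩ := hex
      exact ⟨p, fun x hx hx' => c.fix_uniq h hx hx' h1 h2⟩
    · exact ⟨p1, fun x hx hx' => absurd ⟨x, hx, hx'⟩ hex⟩
  obtain ⟨x, hx⟩ := hbig {p1, p2, p3, p4, p5, p6, p}
    (by simpa using List.toFinset_card_le [p1, p2, p3, p4, p5, p6, p])
  simp only [Finset.mem_insert, Finset.mem_singleton, not_or] at hx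
  obtain ⟨x1, x2, x3, x4, x5, x6, x7⟩ := hx
  have k1 : t • x ≠ x := fun e => x7 (hp x e (c.fix_t h e x1 x2))
  exact c.no_four h k1 (fun e => k1 (c.fix_u h e x3 x4)) (fun e => k1 (c.fix_w h e x5 x6))
    rr ss rs r1 s1 hab ra rb sa sb

/-- an involution fixes a number of points of the parity of the degree -/
theorem card_fix_mod [Fintype Ω] [DecidableEq Ω] {g : G} (gg : g * g = 1) :
    (Finset.univ.filter fun x : Ω => g • x = x).card % 2 = Fintype.card Ω % 2 := by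
  have := Equiv.Perm.card_compl_support_modEq (p := 2) (n := 1) (σ := toPermHom G Ω g)
    (by rw [← map_pow, pow_one, sq, gg, map_one])
  rw [← this]
  congr 2
  ext x
  simp

end H76.LW
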