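import Cfsg.Agent.H76.LW1

/-! A `(k+1)`-set with the alternating group induced (for `k`-transitive groups, `k ≥ 4`). -/

set_option autoImplicit false

namespace H76.LW

open MulAction H76.Tits4 H76.Hall4 Equiv

variable {G Ω : Type*} [Group G] [MulAction G Ω] {k : ℕ}

/-- `g` induces `σ` on the tuple `y` -/
def Ind (y : Fin k ↪ Ω) (σ : Perm (Fin k)) (g : G) : Prop := ∀ l, g • y l = y (σ l)

theorem Ind.mul {y : Fin k ↪ Ω} {σ τ : Perm (Fin k)} {g g' : G} (h1 : Ind y σ g) (h2 : Ind y τ g') :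
    Ind y (σ * τ) (g * g') := fun l => by rw [mul_smul, h2, h1]; rfl

theorem Ind.inv {y : Fin k ↪ Ω} {σ : Perm (Fin k)} {g : G} (h1 : Ind y σ g) : Ind y σ⁻¹ g⁻¹ :=
  fun l => by rw [inv_smul_eq_iff, h1]; simp

theorem ind_one (y : Fin k ↪ Ω) : Ind y 1 (1 : G) := fun _ => one_smul _ _

theorem ex_ind (h : IsMultiplyPretransitive G Ω k) (y : Fin k ↪ Ω) (σ : Perm (Fin k)) :
    ∃ g : G, Ind y σ g := ex_emb h y (σ.toEmbedding.trans y)

theorem ind_eq (h : SharpT G Ω k) {y : Fin k ↪ Ω} {σ : Perm (Fin k)} {g g' : G} (h1 : Ind y σ g)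
    (h2 : Ind y σ g') : g = g' := by
  have : g'⁻¹ * g ∈ stabilizer G y := (mem_stabilizer_emb_iff y _).2 fun i => by
    rw [mul_smul, h1, inv_smul_eq_iff, h2]
  rw [h.2, Subgroup.mem_bot, inv_mul_eq_one] at this
  exact this.symm

theorem Ind.ne_one {y : Fin k ↪ Ω} {σ : Perm (Fin k)} {g : G} (h1 : Ind y σ g) (hσ : σ ≠ 1) :
    g ≠ 1 := by
  rintro rfl
  exact hσ (Equiv.ext fun l => (y.injective ((one_smul G _).symm.trans (h1 l))).symm)

theorem card_rest (y : Fin k ↪ Ω) {i j : Fin k} (hij : i ≠ j) :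
    (((Finset.univ.erase i).erase j).map y).card = k - 2 := by
  rw [Finset.card_map, Finset.card_erase_of_mem (by simp [hij.symm]),
    Finset.card_erase_of_mem (Finset.mem_univ _), Finset.card_univ, Fintype.card_fin]
  omega

theorem uniq_out (h : SharpT G Ω k) {y : Fin k ↪ Ω} {i j : Fin k} (hij : i ≠ j) {g : G}
    (hg : Ind y (swap i j) g) {u v : Ω} (hu : g • u = u) (hv : g • v = v) (hu' : u ∉ Set.range y)
    (hv' : v ∉ Set.range y) : u = v := by
  classical
  by_contra hne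
  refine hg.ne_one (swap_eq_one_iff.not.2 hij) (eq_one_of_fix_set h.2
    ((insert u (insert v (((Finset.univ.erase i).erase j).map y)) : Finset Ω) : Set Ω)
    (Finset.finite_toSet _) ?_ ?_)
  · have k1 : ∀ w, w ∉ Set.range y → w ∉ ((Finset.univ.erase i).erase j).map y := fun w hw e => by
      obtain ⟨l, -, rfl⟩ := Finset.mem_map.1 e
      exact hw ⟨l, rfl⟩
    rw [Set.ncard_coe_finset, Finset.card_insert_of_notMem (by
      rw [Finset.mem_insert, not_or]; exact ⟨hne, k1 u hu'⟩),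
      Finset.card_insert_of_notMem (k1 v hv'), card_rest y hij]
    omega
  · intro w hw
    simp only [Finset.coe_insert, Set.mem_insert_iff, Finset.mem_coe, Finset.mem_map,
      Finset.mem_erase] at hw
    rcases hw with rfl | rfl | ⟨l, hl, rfl⟩
    exacts [hu, hv, by rw [hg, swap_apply_of_ne_of_ne hl.2.1 hl.1]]

theorem ex_out [Finite Ω] (hn : (Nat.card Ω + k) % 2 = 1) {y : Fin k ↪ Ω} {i j : Fin k} (hij : i ≠ j)
    {g : G} (gg : g * g = 1) (hg : Ind y (swap i j) g) : ∃ a ∉ Set.range y, g • a = a := by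
  classical
  have := Fintype.ofFinite Ω
  by_contra hne
  push Not at hne
  have h1 := card_fix_mod (Ω := Ω) gg
  have h2 : (Finset.univ.filter fun x : Ω => g • x = x) = ((Finset.univ.erase i).erase j).map y := by
    ext w
    simp only [Finset.mem_filter, Finset.mem_univ, true_and, Finset.mem_map, Finset.mem_erase]
    constructor
    · intro hw
      obtain ⟨l, rfl⟩ : w ∈ Set.range y := by_contra fun e => hne w e hw
      have := y.injective ((hg l).symm.trans hw)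
      refine ⟨l, ⟨?_, ?_, trivial⟩, rfl⟩ <;> rintro rfl
      · rw [swap_apply_right] at this; exact hij this
      · rw [swap_apply_left] at this; exact hij this.symm
    · rintro ⟨l, hl, rfl⟩
      rw [hg, swap_apply_of_ne_of_ne hl.2.1 hl.1]
  have h3 : 2 ≤ k := by
    have := Fintype.one_lt_card_iff.2 ⟨i, j, hij⟩
    rwa [Fintype.card_fin] at this
  rw [h2, card_rest y hij, ← Nat.card_eq_fintype_card] at h1
  omega

/-- the element inducing the transposition `(i j)` fixes `a` -/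
def Fx (G : Type*) [Group G] [MulAction G Ω] (y : Fin k ↪ Ω) (a : Ω) (i j : Fin k) : Prop :=
  ∀ g : G, Ind y (swap i j) g → g • a = a

theorem ex_fx [Finite Ω] (h : SharpT G Ω k) (hn : Nat.card Ω = k + 7) (y : Fin k ↪ Ω) {i j : Fin k}
    (hij : i ≠ j) : ∃ a ∉ Set.range y, Fx G y a i j := by
  obtain ⟨g, hg⟩ := ex_ind h.1 y (swap i j)
  obtain ⟨a, h1, h2⟩ := ex_out (by omega) hij
    (ind_eq h (hg.mul hg) (by rw [swap_mul_self]; exact ind_one y)) hg
  exact ⟨a, h1, fun g' hg' => by rw [ind_eq h hg' hg, h2]⟩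

theorem Fx.conj (h : SharpT G Ω k) {y : Fin k ↪ Ω} {a : Ω} (ha : a ∉ Set.range y) {i j : Fin k}
    (hij : i ≠ j) {τ : Perm (Fin k)} {g : G} (hg : Ind y τ g) (h1 : Fx G y a i j)
    (h2 : Fx G y a (τ i) (τ j)) : g • a = a := by
  obtain ⟨s, hs⟩ := ex_ind h.1 y (swap i j)
  have h3 := (hg.mul hs).mul hg.inv
  rw [← swap_apply_apply] at h3
  refine uniq_out h (τ.injective.ne hij) h3 (by simp [mul_smul, h1 s hs]) (h2 _ h3) ?_ ha
  rintro ⟨l, hl⟩
  exact ha ⟨τ⁻¹ l, by rw [← hg.inv l, hl, inv_smul_smul]⟩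

theorem Fx.disj (h : SharpT G Ω k) {y : Fin k ↪ Ω} {a : Ω} (ha : a ∉ Set.range y) {i j l m : Fin k}
    (hij : i ≠ j) (h1 : Fx G y a i j) (hd : swap l m i = i ∧ swap l m j = j) : Fx G y a l m :=
  fun _ hg => Fx.conj h ha hij hg h1 (by rw [hd.1, hd.2]; exact h1)

theorem Fx.symm {y : Fin k ↪ Ω} {a : Ω} {i j : Fin k} (h1 : Fx G y a i j) : Fx G y a j i :=
  fun g hg => h1 g (by rwa [swap_comm])

theorem fx5 [Finite Ω] (h : SharpT G Ω 5) (hn : Nat.card Ω = 5 + 7) (y : Fin 5 ↪ Ω) :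
    ∃ a ∉ Set.range y, ∀ i j, i ≠ j → Fx G y a i j := by
  obtain ⟨a, ha, h1⟩ := ex_fx h hn y (i := 0) (j := 1) (by decide)
  refine ⟨a, ha, fun l m hlm => ?_⟩
  have : ∀ l m : Fin 5, l ≠ m → (swap l m 0 = 0 ∧ swap l m 1 = 1) ∨ ∃ b c : Fin 5, b ≠ c ∧
      (swap b c 0 = 0 ∧ swap b c 1 = 1) ∧ swap l m b = b ∧ swap l m c = c := by decide
  rcases this l m hlm with h2 | ⟨b, c, h2, h3, h4⟩
  · exact h1.disj h ha (by decide) h2
  · exact (h1.disj h ha (by decide) h3).disj h ha h2 h4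

theorem fx4 [Finite G] [Finite Ω] (h : SharpT G Ω 4) (hn : Nat.card Ω = 4 + 7) (y : Fin 4 ↪ Ω) :
    ∃ a ∉ Set.range y, ∀ i j, i ≠ j → Fx G y a i j := by
  have hO : O4 G Ω := Ok.o4 ⟨h.1, fun g hg => eq_one_of_fix_set h.2 Set.univ Set.finite_univ
    (by rw [Set.ncard_univ]; omega) fun a _ => hg a, fun x g hg => by
      rw [ind_eq h (y := x) (σ := 1) hg (ind_one x), orderOf_one]; exact odd_one⟩
  obtain ⟨a, ha, a1⟩ := ex_fx h hn y (i := 0) (j := 1) (by decide)
  obtain ⟨b, hb, b1⟩ := ex_fx h hn y (i := 0) (j := 2) (by decide)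
  obtain ⟨c, hc, c1⟩ := ex_fx h hn y (i := 0) (j := 3) (by decide)
  have a2 := a1.disj h ha (l := 2) (m := 3) (by decide) (by decide)
  have b2 := b1.disj h hb (l := 1) (m := 3) (by decide) (by decide)
  have c2 := c1.disj h hc (l := 1) (m := 2) (by decide) (by decide)
  obtain ⟨w, hw⟩ := ex_ind h.1 y (swap 0 1 * swap 2 3)
  obtain ⟨v, hv⟩ := ex_ind h.1 y (swap 0 2 * swap 1 3)
  have key : ∀ p q : Ω, w • p = p → v • p = p → w • q = q → v • q = q → p = q := by
    intro p q h1 h2 h3 h4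
    by_contra hne
    have := no_four' hO (by omega) (r := w) (s := v)
      (ind_eq h (hw.mul hw) (by rw [show _ * _ = (1 : Perm (Fin 4)) by decide]; exact ind_one y))
      (ind_eq h (hv.mul hv) (by rw [show _ * _ = (1 : Perm (Fin 4)) by decide]; exact ind_one y))
      (ind_eq h (hw.mul hv) (by
        rw [show swap (0 : Fin 4) 1 * swap 2 3 * (swap 0 2 * swap 1 3) =
          swap 0 2 * swap 1 3 * (swap 0 1 * swap 2 3) by decide]
        exact hv.mul hw))
      (hw.ne_one (by decide)) (hv.ne_one (by decide)) hne h1 h3 h2 h4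
    exact absurd (y.injective ((hv 0).symm.trans (this ▸ hw 0))) (by decide)
  have wa := Fx.conj h ha (by decide) hw a1 a1.symm
  have va := Fx.conj h ha (by decide) hv a1 a2
  obtain rfl := key a b wa va (Fx.conj h hb (by decide) hw b1 b2) (Fx.conj h hb (by decide) hv b1 b1.symm)
  obtain rfl := key a c wa va (Fx.conj h hc (by decide) hw c1 c2) (Fx.conj h hc (by decide) hv c1 c2.symm)
  refine ⟨a, ha, fun i j hij => ?_⟩
  fin_cases i <;> fin_cases j
  exacts [absurd rfl hij, a1, b1, c1, a1.symm, absurd rfl hij, c2, b2, b1.symm, c2.symm,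
    absurd rfl hij, a2, c1.symm, b2.symm, a2.symm, absurd rfl hij]

theorem good_of_fx [Finite Ω] (h : SharpT G Ω k) (hk : 3 ≤ k) (hn : k ≤ Nat.card Ω)
    (hC : ∀ y : Fin k ↪ Ω, ∃ a ∉ Set.range y, ∀ i j, i ≠ j → Fx G y a i j) : Good G Ω k := by
  classical
  obtain ⟨y⟩ : Nonempty (Fin k ↪ Ω) := exists_emb_fin hn
  obtain ⟨a, ha, h1⟩ := hC y
  let x : Fin (k + 1) ↪ Ω := ⟨Fin.cons a y, Fin.cons_injective_iff.2 ⟨ha, y.injective⟩⟩
  have x0 : x 0 = a := rfl
  have xs : ∀ i : Fin k, x i.succ = y i := fun _ => rfl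
  have key : ∀ j : Fin k, ∃ g : G, ∀ l, g • x l = x (swap 0 j.succ l) := by
    intro j
    obtain ⟨i, m, hij, hjm, him⟩ : ∃ i m : Fin k, i ≠ j ∧ j ≠ m ∧ i ≠ m := by
      have : 1 < (Finset.univ.erase j).card := by
        rw [Finset.card_erase_of_mem (Finset.mem_univ _), Finset.card_univ, Fintype.card_fin]; omega
      obtain ⟨i, hi, m, hm, him⟩ := Finset.one_lt_card.1 this
      exact ⟨i, m, Finset.ne_of_mem_erase hi, (Finset.ne_of_mem_erase hm).symm, him⟩
    let y' : Fin k ↪ Ω := y.trans (swap (y i) a).toEmbedding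
    have e1 : y' i = a := swap_apply_left _ _
    have e2 : ∀ l, l ≠ i → y' l = y l := fun l hl =>
      swap_apply_of_ne_of_ne (y.injective.ne hl) fun e => ha ⟨l, e⟩
    obtain ⟨b, hb, h2⟩ := hC y'
    obtain ⟨s, hs⟩ := ex_ind h.1 y (swap j m)
    have hs' : Ind y' (swap j m) s := fun l => by
      by_cases hl : l = i
      · rw [hl, swap_apply_of_ne_of_ne hij him, e1, h1 j m hjm s hs]
      · rw [e2 l hl, hs, e2]
        rw [Ne, swap_apply_eq_iff, swap_apply_of_ne_of_ne hij him]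
        exact hl
    have e3 : b = y i := uniq_out h hjm hs' (h2 j m hjm s hs')
      (by rw [hs, swap_apply_of_ne_of_ne hij him]) hb (by
        rintro ⟨l, hl⟩
        by_cases hli : l = i
        · rw [hli, e1] at hl; exact ha ⟨i, hl.symm⟩
        · rw [e2 l hli] at hl; exact hli (y.injective hl))
    obtain ⟨g, hg⟩ := ex_ind h.1 y' (swap i j)
    refine ⟨g, fun l => Fin.cases ?_ (fun l => ?_) l⟩
    · rw [swap_apply_left, x0, xs, ← e1, hg, swap_apply_left, e2 j hij.symm]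
    · by_cases hl : l = j
      · rw [hl, swap_apply_right, x0, xs, ← e2 j hij.symm, hg, swap_apply_right, e1]
      · rw [swap_apply_of_ne_of_ne (Fin.succ_ne_zero l) (fun e => hl (Fin.succ_injective _ e)), xs]
        by_cases hli : l = i
        · rw [hli, ← e3]; exact h2 i j hij g hg
        · rw [← e2 l hli, hg, swap_apply_of_ne_of_ne hli hl]
  refine ⟨x, fun σ _ => all_of_swaps x (fun i j => ?_) σ⟩
  refine Fin.cases ?_ (fun i => ?_) i <;> refine Fin.cases ?_ (fun j => ?_) j <;> intro hij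
  · exact absurd rfl hij
  · exact key j
  · rw [swap_comm]; exact key i
  · have hij' : i ≠ j := fun e => hij (congrArg _ e)
    obtain ⟨s, hs⟩ := ex_ind h.1 y (swap i j)
    refine ⟨s, fun l => Fin.cases ?_ (fun l => ?_) l⟩
    · rw [swap_apply_of_ne_of_ne (Fin.succ_ne_zero i).symm (Fin.succ_ne_zero j).symm, x0]
      exact h1 i j hij' s hs
    · rw [(Fin.succ_injective k).swap_apply, xs, xs, hs]

theorem Ok.good [Finite G] [Finite Ω] (h : Ok G Ω k) (hk : 4 ≤ k) (hn : k + 1 ≤ Nat.card Ω) :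
    Good G Ω k := by
  classical
  have := Fintype.ofFinite Ω
  obtain ⟨j, rfl⟩ : ∃ j, k = j + 4 := ⟨k - 4, by omega⟩
  rcases Ok.cases j G Ω h (by omega) with ⟨h1, -⟩ | ⟨h1, h2⟩
  · have := h.tr
    exact good_of_alt (h1.alt (isMultiplyPretransitive_of_le (n := j + 4) (by omega) (by omega))) hn
  · rcases j with _ | _ | j
    · exact good_of_fx h1 (by omega) (by omega) (fx4 h1 h2)
    · exact good_of_fx h1 (by omega) (by omega) (fx5 h1 h2)
    · have := degk j G Ω h1 (by omega)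
      omega

theorem exists_central_inv {T : Type*} [Group T] [Finite T] (hT : IsPGroup 2 T) (Q A : Subgroup T)
    [Q.Normal] [hA : A.Normal] (h : ¬ A ≤ Q) :
    ∃ s ∈ A, s ∉ Q ∧ s * s ∈ Q ∧ ∀ t, t * s * t⁻¹ * s⁻¹ ∈ Q := by
  have h1 := hT.to_quotient Q
  have := h1.isNilpotent
  have := hA.map _ (QuotientGroup.mk'_surjective Q)
  have h2 := H2.inf_center_ne_bot_of_isNilpotent (A.map (QuotientGroup.mk' Q))
    (by rwa [Ne, Subgroup.map_eq_bot_iff, QuotientGroup.ker_mk'])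
  obtain ⟨n, hn⟩ := IsPGroup.iff_card.1
    (h1.to_subgroup (A.map (QuotientGroup.mk' Q) ⊓ Subgroup.center (T ⧸ Q)))
  obtain ⟨⟨_, ⟨s, hs, rfl⟩, hz⟩, ho⟩ := exists_prime_orderOf_dvd_card'
    (G := (A.map (QuotientGroup.mk' Q) ⊓ Subgroup.center (T ⧸ Q) : Subgroup (T ⧸ Q))) 2 (by
      rw [hn]
      exact dvd_pow_self 2 fun e => h2 (Subgroup.eq_bot_of_card_eq _ (by rw [hn, e, pow_zero])))
  replace ho : orderOf (s : T ⧸ Q) = 2 := by rw [← ho, ← Subgroup.orderOf_coe]; rfl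
  refine ⟨s, hs, fun e => ?_, ?_, fun t => ?_⟩
  · rw [(QuotientGroup.eq_one_iff s).2 e, orderOf_one] at ho
    exact absurd ho (by decide)
  · rw [← QuotientGroup.eq_one_iff, ← sq, QuotientGroup.mk_pow, ← ho]
    exact pow_orderOf_eq_one _
  · rw [← QuotientGroup.eq_one_iff]
    have := Subgroup.mem_center_iff.1 hz (t : T ⧸ Q)
    simp only [QuotientGroup.mk'_apply] at this
    simp only [QuotientGroup.mk_mul, QuotientGroup.mk_inv, this, mul_inv_cancel_right, mul_inv_cancel]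

theorem pg_sup {Q : Subgroup G} (hQ : IsPGroup 2 Q) {s : G} (hs : s ∈ Subgroup.normalizer (Q : Set G))
    (ss : s * s ∈ Q) : IsPGroup 2 (Subgroup.zpowers s ⊔ Q : Subgroup G) := by
  obtain ⟨e, he⟩ := H17.isPGroup_subgroup_iff.1 hQ _ ss
  exact (H17.isPGroup_zpowers (k := e + 1) (by rw [pow_succ', pow_mul, sq, he])).to_sup_of_normal_right'
    hQ (Subgroup.zpowers_le.2 hs)

theorem step_inv [Finite G] {Q F : Subgroup G} (hQ : IsPGroup 2 Q) (hQF : Q ≤ F)
    (hn : ¬ H17.SylIn 2 Q F) {t : G} (ht : t ∈ Subgroup.normalizer (Q : Set G))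
    (htF : t ∈ Subgroup.normalizer (F : Set G)) (tt : t * t ∈ Q) :
    ∃ s ∈ F, s ∈ Subgroup.normalizer (Q : Set G) ∧ s ∉ Q ∧ s * s ∈ Q ∧ t * s * t⁻¹ * s⁻¹ ∈ Q := by
  set M := F ⊓ Subgroup.normalizer (Q : Set G) with hM
  have hN : Subgroup.zpowers t ⊔ M ≤ Subgroup.normalizer (M : Set G) :=
    sup_le (Subgroup.zpowers_le.2 (Subgroup.inf_normalizer_le_normalizer_inf
      ⟨htF, Subgroup.le_normalizer ht⟩)) Subgroup.le_normalizer
  obtain ⟨T, hT1, hT⟩ := H17.exists_sylIn_ge (H := Subgroup.zpowers t ⊔ M)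
    (sup_le_sup_left (le_inf hQF Subgroup.le_normalizer) _) (pg_sup hQ ht tt)
  have hS := hT.inf_of_normal le_sup_right hN
  have hTQ : T ≤ Subgroup.normalizer (Q : Set G) :=
    hT.1.trans (sup_le (Subgroup.zpowers_le.2 ht) inf_le_right)
  have := Subgroup.normal_subgroupOf_of_le_normalizer hTQ
  have := Subgroup.normal_subgroupOf_of_le_normalizer (hT.1.trans hN)
  obtain ⟨s, s1, s2, s3, s4⟩ := exists_central_inv hT.2.1 (Q.subgroupOf T) (M.subgroupOf T) fun hle => by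
    have : T ⊓ M = Q := le_antisymm (fun x hx => hle (show (⟨x, hx.1⟩ : T) ∈ M.subgroupOf T from hx.2))
      (le_inf (le_sup_right.trans hT1) (le_inf hQF Subgroup.le_normalizer))
    rw [this] at hS
    exact hn (H17.sylIn_of_sylIn_normalizer hS)
  exact ⟨s, s1.1, s1.2, s2, s3, s4 ⟨t, hT1 (Subgroup.mem_sup_left (Subgroup.mem_zpowers t))⟩⟩

end H76.LW
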