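import Cfsg.Agent.H76.LW2

/-! A `(k+1)`-set with the alternating group induced: the main lemma. -/

set_option autoImplicit false

namespace H76.LW

open MulAction Equiv

variable {G Ω : Type*} [Group G] [MulAction G Ω] {k : ℕ}

/-- the normaliser of `Q` acts on the fixed points of `Q` -/
def fixSub (Ω : Type*) [MulAction G Ω] (Q : Subgroup G) :
    SubMulAction (Subgroup.normalizer (Q : Set G)) Ω where
  carrier := {z | ∀ q ∈ Q, q • z = z}
  smul_mem' := fun g z hz q hq => by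
    have := hz _ ((Subgroup.mem_normalizer_iff''.1 g.2 q).1 hq)
    rw [mul_smul, mul_smul, inv_smul_eq_iff] at this
    exact this

theorem good_a [Finite G] [Finite Ω] (h : IsMultiplyPretransitive G Ω k) (hk : 4 ≤ k)
    {Q : Subgroup G} (hn : k + 1 ≤ Nat.card (fixSub Ω Q))
    (hS : ∀ y : Fin k ↪ Ω, (∀ i, y i ∈ fixSub Ω Q) → H17.SylIn 2 Q (stabilizer G y)) :
    Good G Ω k := by
  have hS' := fun x : Fin k ↪ fixSub Ω Q =>
    hS (x.trans (Function.Embedding.subtype _)) fun i => (x i).2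
  have hK : Ok (toPermHom (Subgroup.normalizer (Q : Set G)) (fixSub Ω Q)).range (fixSub Ω Q) k := by
    refine ⟨tr_range (tr_of fun x y => ?_), fun g hg => Subtype.ext (Equiv.ext hg), ?_⟩
    · obtain ⟨g, hg⟩ := ex_emb h (x.trans (Function.Embedding.subtype _))
        (y.trans (Function.Embedding.subtype _))
      have h1 : (stabilizer G (x.trans (Function.Embedding.subtype _))).map
          (MulAut.conj g).toMonoidHom = stabilizer G (y.trans (Function.Embedding.subtype _)) := by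
        ext l
        rw [H17.mem_map_conj_iff, mem_stabilizer_emb_iff, mem_stabilizer_emb_iff]
        simp only [mul_smul, inv_smul_eq_iff, hg]
      have h2 := (hS' x).map_conj g
      rw [h1] at h2
      obtain ⟨l, hl, e⟩ := (hS' y).exists_conj_eq h2
      rw [H17.map_conj_map_conj, H17.map_conj_eq_iff_mem_normalizer] at e
      refine ⟨⟨l * g, e⟩, fun i => Subtype.ext ?_⟩
      show (l * g) • (x i : Ω) = y i
      rw [mul_smul]
      exact (congrArg _ (hg i)).trans ((mem_stabilizer_emb_iff _ _).1 hl i)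
    · rintro x ⟨_, g, rfl⟩ hg
      obtain ⟨a, m, hm, e⟩ := Nat.exists_eq_two_pow_mul_odd (orderOf_pos (g : G)).ne'
      have h1 : (g : G) ^ m ∈ stabilizer G (x.trans (Function.Embedding.subtype _)) :=
        Subgroup.pow_mem _ ((mem_stabilizer_emb_iff _ _).2 fun i => congrArg Subtype.val (hg i)) m
      have h2 := (hS' x).eq_of_le ((H17.isPGroup_zpowers (k := a) (x := (g : G) ^ m) (by
          rw [← pow_mul, mul_comm, ← e, pow_orderOf_eq_one])).to_sup_of_normal_right' (hS' x).2.1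
          (Subgroup.zpowers_le.2 (Subgroup.pow_mem _ g.2 m)))
        (sup_le (Subgroup.zpowers_le.2 h1) (hS' x).1) le_sup_right
      have h3 : (g : G) ^ m ∈ Q := h2.le (Subgroup.mem_sup_left (Subgroup.mem_zpowers _))
      refine Odd.of_dvd_nat hm (orderOf_dvd_of_pow_eq_one (Subtype.ext ?_))
      rw [Subgroup.coe_pow, ← map_pow]
      ext z
      exact z.2 _ h3
  obtain ⟨x, hx⟩ := hK.good hk hn
  refine ⟨x.trans (Function.Embedding.subtype _), fun σ hσ => ?_⟩
  obtain ⟨⟨_, g, rfl⟩, hg⟩ := hx σ hσ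
  exact ⟨g, fun i => congrArg Subtype.val (hg i)⟩

theorem mem_normalizer_fix [Finite G] {t : G} {s : Set Ω} (h : ∀ z ∈ s, t • z ∈ s) :
    t⁻¹ ∈ Subgroup.normalizer (fixingSubgroup G s : Set G) := by
  refine Subgroup.mem_normalizer_fintype fun g hg => ?_
  rw [SetLike.mem_coe, mem_fixingSubgroup_iff] at hg ⊢
  intro z hz
  rw [inv_inv, mul_smul, mul_smul, hg _ (h z hz), inv_smul_smul]

theorem good_b [Finite G] [Finite Ω] (hk : 2 ≤ k) {Q : Subgroup G} (hQ : IsPGroup 2 Q)
    (hn : k + 1 ≤ Nat.card (fixSub Ω Q))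
    (hmax : ∀ R : Subgroup G, IsPGroup 2 R → k + 1 ≤ Nat.card (fixSub Ω R) → Q ≤ R → R = Q)
    (hS : ∀ s : Finset Ω, s.card = k → (∀ z ∈ s, z ∈ fixSub Ω Q) →
      ¬ H17.SylIn 2 Q (fixingSubgroup G (s : Set Ω))) : Good G Ω k := by
  classical
  have B : ∀ (s : Finset Ω) (t : G), s.card = k → (∀ z ∈ s, z ∈ fixSub Ω Q) →
      t ∈ Subgroup.normalizer (Q : Set G) → t * t ∈ Q → (∀ z ∈ s, t • z ∈ s) →
      ∃ r ∈ Subgroup.normalizer (Q : Set G), r * r ∈ Q ∧
        (∀ z ∈ fixSub Ω Q, r • z = z ↔ z ∈ s) ∧ ∀ z ∈ fixSub Ω Q, t • r • z = r • t • z := by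
    intro s t h1 h2 h3 h4 h5
    obtain ⟨r, r1, r2, r3, r4, r5⟩ := step_inv hQ
      (fun q hq => (mem_fixingSubgroup_iff G).2 fun z hz => h2 z hz q hq) (hS s h1 h2) h3
      (inv_inv t ▸ Subgroup.inv_mem _ (mem_normalizer_fix h5)) h4
    rw [mem_fixingSubgroup_iff] at r1
    refine ⟨r, r2, r4, fun z hz => ⟨fun e => ?_, r1 z⟩, fun z hz => ?_⟩
    · by_contra hne
      have := hmax _ (pg_sup hQ r2 r4) (by
        rw [← h1, ← Finset.card_insert_of_notMem hne, ← Set.ncard_coe_finset]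
        refine Set.ncard_le_ncard (t := (fixSub Ω _ : Set Ω)) fun w hw => ?_
        have : Subgroup.zpowers r ⊔ Q ≤ stabilizer G w := by
          rcases Finset.mem_insert.1 hw with rfl | hw
          · exact sup_le (Subgroup.zpowers_le.2 e) hz
          · exact sup_le (Subgroup.zpowers_le.2 (r1 w hw)) (h2 w hw)
        exact this) le_sup_right
      exact r3 (this ▸ Subgroup.mem_sup_left (Subgroup.mem_zpowers r))
    · have := ((fixSub Ω Q).smul_mem (⟨r, r2⟩ * ⟨t, h3⟩) hz) _ r5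
      simpa [Subgroup.smul_def, mul_smul] using this
  obtain ⟨x0⟩ : Nonempty (Fin (k + 1) ↪ fixSub Ω Q) := exists_emb_fin hn
  let x : Fin (k + 1) ↪ Ω := x0.trans (Function.Embedding.subtype _)
  have hx : ∀ i, x i ∈ fixSub Ω Q := fun i => (x0 i).2
  refine ⟨x, fun σ _ => all_of_swaps x (fun i j hij => ?_) σ⟩
  obtain ⟨l, hli, hlj⟩ : ∃ l, l ≠ i ∧ l ≠ j := by
    have : 0 < ((Finset.univ.erase i).erase j).card := by
      rw [← Finset.card_map x, card_rest x hij]; omega
    obtain ⟨l, hl⟩ := Finset.card_pos.1 this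
    simp only [Finset.mem_erase] at hl
    exact ⟨l, hl.2.1, hl.1⟩
  obtain ⟨t, t1, t2, t3, -⟩ := B ((Finset.univ.erase l).map x) 1 (by simp)
    (fun z hz => by obtain ⟨m, -, rfl⟩ := Finset.mem_map.1 hz; exact hx m) (Subgroup.one_mem _)
    (by simp) (by simp)
  have t4 : ∀ m, t • x m = x m ↔ m ≠ l := fun m => by rw [t3 _ (hx m)]; simp
  have ttx : ∀ z ∈ fixSub Ω Q, t • t • z = z := fun z hz => by rw [← mul_smul]; exact hz _ t2
  have t5 : t • x l ∈ fixSub Ω Q := (fixSub Ω Q).smul_mem ⟨t, t1⟩ (hx l)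
  have t6 : ∀ m, t • x l ≠ x m := fun m e => by
    by_cases hm : m = l
    · exact (t4 l).1 (hm ▸ e) rfl
    · exact hm (x.injective (by rw [← ttx _ (hx l), e, (t4 m).2 hm]))
  obtain ⟨r, r1, -, r3, r4⟩ := B (insert (t • x l) (((Finset.univ.erase i).erase j).map x)) t
    (by
      rw [Finset.card_insert_of_notMem (fun e => by
        obtain ⟨m, -, hm⟩ := Finset.mem_map.1 e
        exact t6 m hm.symm), card_rest x hij]
      omega)
    (fun z hz => by
      rcases Finset.mem_insert.1 hz with rfl | hz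
      · exact t5
      · obtain ⟨m, -, rfl⟩ := Finset.mem_map.1 hz; exact hx m) t1 t2
    (fun z hz => by
      rcases Finset.mem_insert.1 hz with rfl | hz
      · rw [ttx _ (hx l)]; simp [hli, hlj]
      · obtain ⟨m, hm, rfl⟩ := Finset.mem_map.1 hz
        by_cases hml : m = l
        · rw [hml]; exact Finset.mem_insert_self _ _
        · rw [(t4 m).2 hml]; exact Finset.mem_insert_of_mem hz)
  have r5 : ∀ m, r • x m = x m ↔ m ≠ i ∧ m ≠ j := fun m => by
    rw [r3 _ (hx m)]; simp [(t6 m).symm, and_comm]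
  have r6 : ∀ m, m ≠ l → ∃ m', r • x m = x m' := fun m hm => by
    have := (t3 _ ((fixSub Ω Q).smul_mem ⟨r, r1⟩ (hx m))).1
      ((r4 _ (hx m)).trans (by rw [(t4 m).2 hm]; rfl))
    obtain ⟨m', -, e⟩ := Finset.mem_map.1 this
    exact ⟨m', e.symm⟩
  have r7 : ∀ m m', r • x m = x m' → (m = i ∨ m = j) → m' ≠ m ∧ (m' = i ∨ m' = j) := by
    intro m m' e hm
    have h1 : m' ≠ m := by
      rintro rfl
      have := (r5 m').1 e
      tauto
    refine ⟨h1, by_contra fun hne => h1 (x.injective (MulAction.injective r ?_))⟩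
    show r • x m' = r • x m
    rw [e, (r5 m').2 (by tauto)]
  refine ⟨r, fun m => ?_⟩
  by_cases hi : m = i
  · obtain ⟨m', e⟩ := r6 i hli.symm
    have := r7 i m' e (Or.inl rfl)
    rw [hi, swap_apply_left, e, show m' = j by tauto]
  by_cases hj : m = j
  · obtain ⟨m', e⟩ := r6 j hlj.symm
    have := r7 j m' e (Or.inr rfl)
    rw [hj, swap_apply_right, e, show m' = i by tauto]
  · rw [swap_apply_of_ne_of_ne hi hj, (r5 m).2 ⟨hi, hj⟩]

theorem stab_eq_fix (y : Fin k ↪ Ω) : stabilizer G y = fixingSubgroup G (Set.range y) := by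
  ext g
  rw [mem_stabilizer_emb_iff, mem_fixingSubgroup_iff]
  simp

theorem card_fix_eq [Finite G] [Finite Ω] (h : IsMultiplyPretransitive G Ω k) {s s' : Set Ω}
    (hs : s.ncard = k) (hs' : s'.ncard = k) :
    Nat.card (fixingSubgroup G s) = Nat.card (fixingSubgroup G s') := by
  have h1 := (h.index_of_fixingSubgroup_mul hs).trans (h.index_of_fixingSubgroup_mul hs').symm
  have h2 := Nat.eq_of_mul_eq_mul_right (Nat.factorial_pos _) h1
  have h3 := (fixingSubgroup G s).index_mul_card.trans (fixingSubgroup G s').index_mul_card.symm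
  rw [h2] at h3
  exact Nat.eq_of_mul_eq_mul_left (Nat.pos_of_ne_zero Subgroup.index_ne_zero_of_finite) h3

theorem good [Finite G] [Finite Ω] (h : IsMultiplyPretransitive G Ω k) (hk : 4 ≤ k)
    (hn : k + 1 ≤ Nat.card Ω) : Good G Ω k := by
  obtain ⟨Q, ⟨hQ, h1⟩, hmax⟩ := H2.exists_maximal_subgroup
    (fun Q : Subgroup G => IsPGroup 2 Q ∧ k + 1 ≤ Nat.card (fixSub Ω Q)) ⟨⊥, IsPGroup.of_bot, by
      refine hn.trans (Nat.card_le_card_of_injective (fun z => ⟨z, fun q hq => ?_⟩)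
        fun a b e => congrArg Subtype.val e)
      rw [Subgroup.mem_bot.1 hq, one_smul]⟩
  by_cases hc : ∃ s : Finset Ω, s.card = k ∧ H17.SylIn 2 Q (fixingSubgroup G (s : Set Ω))
  · obtain ⟨s, hs, hS⟩ := hc
    refine good_a h hk h1 fun y hy => ?_
    rw [stab_eq_fix]
    refine H17.sylIn_of_card_eq (fun q hq => (mem_fixingSubgroup_iff G).2 ?_) ?_
    · rintro _ ⟨i, rfl⟩
      exact hy i q hq
    · rw [hS.card_eq, card_fix_eq h (s' := Set.range y) (by rw [Set.ncard_coe_finset, hs])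
        (by rw [Set.ncard_range_of_injective y.injective]; simp)]
  · exact good_b (by omega) hQ h1 (fun R r1 r2 r3 => hmax R ⟨r1, r2⟩ r3)
      fun s hs _ hS => hc ⟨s, hs, hS⟩

end H76.LW
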