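/- Tower ND: characters over a central linear character. -/
import Cfsg.Agent.H23.NDSpec
import Cfsg.Agent.H33.IndTools

set_option autoImplicit false
set_option linter.unusedSectionVars false
open Cfsg H28 H32 H44 H93.DG H55.Nd MulAction H23.ND

namespace H76.NDK

universe u

variable {G : Type u} [Group G] [Finite G] {P A B Z : Subgroup G}

/-- `A` acts through `μ`. -/
def Ov (θ : P → ℂ) (μ : Lin A) : Prop :=
  ∀ a : P, (a : G) ∈ A → ∀ x : P, θ (a * x) = (ev μ a : ℂ) * θ x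

theorem Ov.cen {θ : P → ℂ} {μ : Lin A} (h : Ov θ μ) {a : P} (ha : (a : G) ∈ A) : a ∈ charCenter θ :=
  ⟨_, h a ha⟩

theorem Ov.ker {θ : P → ℂ} {μ : Lin A} (h : Ov θ μ) (hθ : IsIrrCharacter P θ) {a : P}
    (ha : (a : G) ∈ A) : a ∈ charKer θ ↔ ev μ a = 1 := by
  refine ⟨fun k => ?_, fun k x => by rw [h a ha, k, Units.val_one, one_mul]⟩
  have := (h a ha 1).symm.trans (k 1)
  exact Units.ext ((mul_eq_right₀ hθ.apply_one_ne_zero).1 this)

theorem Ov.kr {θ : P → ℂ} {μ : Lin A} (h : Ov θ μ) (hθ : IsIrrCharacter P θ) (hA : A ≤ P)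
    (hB : B ≤ A) : Kr B θ ↔ μ ∈ VV B A :=
  ⟨fun k x hx hb => (h.ker hθ (a := ⟨x, hA hx⟩) hx).1 (k hb),
    fun k x hx => (h.ker hθ (hB hx)).2 (k x (hB hx) hx)⟩

theorem Ov.kr_self {θ : P → ℂ} {μ : Lin A} (h : Ov θ μ) (hθ : IsIrrCharacter P θ) (hA : A ≤ P) :
    Kr A θ ↔ μ = 1 := by
  rw [h.kr hθ hA le_rfl]
  exact ⟨fun k => ev_ext fun x hx => (k x hx hx).trans ev_lone.symm, fun k => k ▸ one_mem _⟩

theorem cen_of {θ : P → ℂ} (hθ : IsIrrCharacter P θ) (hZ : ⁅Z, P⁆ ≤ B) (hk : Kr B θ) :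
    Z.subgroupOf P ≤ charCenter θ := fun _ hz =>
  hθ.mem_charCenter_iff_commutator.2 fun g => hk (hZ (Subgroup.commutator_mem_commutator hz g.2))

theorem exists_mu {θ : P → ℂ} (hθ : IsIrrCharacter P θ) (hA : A ≤ P) (hB : ⁅A, P⁆ ≤ B) (hk : Kr B θ) :
    ∃ μ : Lin A, Ov θ μ := by
  obtain ⟨lam, hl⟩ := exists_hom_of_le_charCenter hθ.ne_zero (cen_of hθ hB hk)
  refine ⟨lam.comp (Subgroup.subgroupOfEquivOfLe hA).symm.toMonoidHom, fun a ha x => ?_⟩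
  exact (hl ⟨a, ha⟩ x).trans (congrArg (fun t : ℂˣ => (t : ℂ) * θ x)
    (ev_of (ν := lam.comp (Subgroup.subgroupOfEquivOfLe hA).symm.toMonoidHom) ha).symm)

theorem fix_of [A.Normal] (hB : ⁅A, P⁆ ≤ B) {μ : Lin A} (hμ : μ ∈ VV B A) {g : G} (hg : g ∈ P) :
    g • μ = μ :=
  smul_of_cm fun x hx => hμ _ (mul_mem (Subgroup.Normal.conj_mem inferInstance x hx g) (inv_mem hx))
    (hB (Subgroup.commutator_comm P A ▸ Subgroup.commutator_mem_commutator hg hx))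

theorem exists_theta [A.Normal] (hA : A ≤ P) (hB : ⁅A, P⁆ ≤ B) {μ : Lin A} (hμ : μ ∈ VV B A) :
    ∃ θ : P → ℂ, IsIrrCharacter P θ ∧ Ov θ μ := by
  have := Fintype.ofFinite A
  have := Fintype.ofFinite P
  obtain ⟨θ, hθ, h⟩ := H33.exists_irr_over_hom (Subgroup.inclusion hA) (Subgroup.inclusion_injective hA)
    (isIrr_ch μ)
  have h1 := clifford_le_inertia hA (isIrr_ch μ) (fun g hg => by
    rw [inertia_ch]; exact fix_of hB hμ hg) hθ h
  set e := classInner (fun n : A => θ ⟨n, hA n.2⟩) (ch μ)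
  have h2 : ∀ a : A, θ ⟨a, hA a.2⟩ = e * μ.hom a := fun a => congrFun h1 a
  have h3 : θ 1 = e := (h2 1).trans (by simp)
  refine ⟨θ, hθ, fun a ha x => ?_⟩
  have h4 : θ a = θ 1 * μ.hom ⟨a, ha⟩ := h3 ▸ h2 ⟨a, ha⟩
  have h5 : a ∈ charCenter θ := by
    rw [hθ.mem_charCenter, h4, norm_mul, ← hθ.cast_charDegree]
    have : ‖((μ.hom ⟨a, ha⟩ : ℂˣ) : ℂ)‖ = 1 := by
      have h6 : ((μ.hom ⟨a, ha⟩ : ℂˣ) : ℂ) ^ Nat.card A = 1 := by
        rw [← Units.val_pow_eq_pow_val, ← map_pow, pow_card_eq_one', map_one, Units.val_one]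
      exact Complex.norm_eq_one_of_pow_eq_one h6 Nat.card_pos.ne'
    simp [this]
  rw [apply_mul_of_mem_charCenter hθ.apply_one_ne_zero h5, h4, ev_of ha,
    mul_div_cancel_left₀ _ hθ.apply_one_ne_zero]

theorem exists_vv [B.Normal] (hB : ⁅A, A⁆ ≤ B) {w : G} (hw : w ∈ A) (hn : w ∉ B) :
    ∃ μ ∈ VV B A, ev μ w ≠ 1 := by
  obtain ⟨l, h1, h2⟩ := exists_hom_ne_one_of_commutator_le (B.subgroupOf A) (fun x hx =>
    hB (A.map_subtype_commutator ▸ Subgroup.mem_map_of_mem _ hx)) (a := ⟨w, hw⟩) hn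
  exact ⟨l, fun x hx hb => (ev_of hx).trans (h1 ⟨x, hx⟩ hb), fun k => h2 ((ev_of (ν := l) hw).symm.trans k)⟩

theorem vv_smul [A.Normal] [hB : B.Normal] (g : G) {μ : Lin A} (hμ : μ ∈ VV B A) : g • μ ∈ VV B A :=
  fun x hx hb => (ev_smul hx).trans
    (hμ _ (Subgroup.Normal.conj_mem' inferInstance x hx g) (hB.conj_mem' x hb g))

theorem ct_le [A.Normal] [B.Normal] {μ : Lin A} (hμ : μ ∈ VV B A) : Ct A B ≤ stabilizer G μ :=
  fun g hg => smul_of_cm fun x hx =>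
    hμ _ (mul_mem (Subgroup.Normal.conj_mem inferInstance x hx g) (inv_mem hx)) (hg x hx)

theorem mem_ct [A.Normal] [B.Normal] (hB : ⁅A, A⁆ ≤ B) {g : G} (h : ∀ μ ∈ VV B A, g • μ = μ) :
    g ∈ Ct A B := fun a ha => by
  by_contra hn
  obtain ⟨μ, h1, h2⟩ := exists_vv hB
    (mul_mem (Subgroup.Normal.conj_mem inferInstance a ha g) (inv_mem ha)) hn
  exact h2 (ev_cm (h μ h1) ha)

theorem Ov.inertia_le [P.Normal] [A.Normal] {θ : P → ℂ} {μ : Lin A} (h : Ov θ μ)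
    (hθ : IsIrrCharacter P θ) (hA : A ≤ P) : inertia θ ≤ stabilizer G μ := fun g hg =>
  smul_of_cj fun x hx => by
    have h1 := mem_inertia_iff.1 hg ⟨x, hA hx⟩
    have h2 := h ⟨x, hA hx⟩ hx 1
    have h3 := h ⟨g * x * g⁻¹, hA (Subgroup.Normal.conj_mem inferInstance x hx g)⟩
      (Subgroup.Normal.conj_mem inferInstance x hx g) 1
    rw [mul_one] at h2 h3
    exact Units.ext (mul_right_cancel₀ hθ.apply_one_ne_zero (h3.symm.trans (h1.trans h2)))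

theorem comm_of {h d c : G} (hd : d ∈ Subgroup.zpowers h) (hc : c ∈ C0 P h) : d * c = c * d := by
  obtain ⟨k, rfl⟩ := hd
  exact (Commute.zpow_left (mem_C0.1 hc).2 k).eq

theorem Ov.inertia_eq [P.Normal] [hA' : A.Normal] [hZ' : Z.Normal] {θ : P → ℂ} {μ : Lin A} (ho : Ov θ μ)
    (hθ : IsIrrCharacter P θ) (hA : A ≤ P) {h : G} (gen : P ⊔ Subgroup.zpowers h = ⊤)
    (hZ : Z = C0 P h ⊔ A) (hv : ∀ x : P, (x : G) ∉ Z → θ x = 0) : inertia θ = stabilizer G μ := by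
  refine le_antisymm (ho.inertia_le hθ hA) fun g hg => ?_
  obtain ⟨x, hx, d, hd, rfl⟩ := dec_gen gen g
  have h1 : x ∈ inertia θ := le_inertia hθ.isClassFunction hx
  have h2 : d • μ = μ := (mul_mem_cancel_left (ho.inertia_le hθ hA h1)).1 hg
  refine mul_mem h1 (mem_inertia_iff.2 fun n => ?_)
  by_cases hn : (n : G) ∈ Z
  · rw [hZ, sup_comm] at hn
    obtain ⟨a, ha, c, hc, e⟩ := Subgroup.mem_sup_of_normal_left.1 hn
    have h3 := ho ⟨a, hA ha⟩ ha ⟨c, hc.1⟩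
    have h4 := ho ⟨d * a * d⁻¹, hA (hA'.conj_mem a ha d)⟩ (hA'.conj_mem a ha d) ⟨c, hc.1⟩
    rw [ev_cj h2 ha, ← h3] at h4
    convert h4 using 2
    · refine Subtype.ext ?_
      change d * n * d⁻¹ = d * a * d⁻¹ * c
      rw [← e, mul_assoc (d * a), comm_of (inv_mem hd) hc]
      group
    · exact Subtype.ext e.symm
  · rw [hv n hn, hv]
    exact fun k => hn (by simpa [mul_assoc] using hZ'.conj_mem' _ k d)

theorem cop {p : ℕ} (hp : p.Prime) (hP : IsPGroup p P) (hA : A ≤ P) {n : ℕ} (hn : n.Coprime p) :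
    n.Coprime (Nat.card (Lin A)) := by
  have := Fact.mk hp
  obtain ⟨k, hk⟩ := (hP.to_le hA).exists_card_eq
  exact ((hn.pow_right k).coprime_dvd_right (hk ▸ Subgroup.index_dvd_card (commutator A))).coprime_dvd_right
    (card_lin (G := A)).dvd

theorem deg_ne {θ : P → ℂ} (hθ : IsIrrCharacter P θ) (hA : A ≤ L2 P) (hk : ¬ Kr A θ) :
    charDegree θ ≠ 1 := fun e =>
  hk fun x hx => hθ.charDegree_eq_one_iff.1 e (mem_comm (hA hx) x.2)

end H76.NDK
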