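/- Tower ND, slot C2: the commutator of `C` and `P`. -/
import Cfsg.Agent.H76.NDK

set_option autoImplicit false
open Cfsg H28 H32 H44 H93.DG H55.Nd MulAction H23.ND H76.NDK

namespace H76.NDC2

universe u

variable {G : Type u} [Group G] [Finite G] {P : Subgroup G} [hP : P.Normal] {h : G}

omit [Finite G] hP in
theorem pl {x t : G} (hx : x ∈ P) (ht : t ∈ L2 P) : x * t * x⁻¹ * t⁻¹ ∈ L3 P :=
  (Subgroup.commutator_comm P (L2 P)).le (Subgroup.commutator_mem_commutator hx ht)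

theorem step (g : GF1 P h) (J : Subgroup G) [J.Normal] (h3 : L3 P ≤ J) (h0 : ⁅C0 P h, C0 P h⁆ ≤ J) :
    ⁅CC P, P⁆ ≤ J := by
  obtain ⟨d, hd, hdP, hT⟩ := g.g1 (L2 P) (L3 P) (Subgroup.commutator_le_left _ _) le_rfl le_rfl
  have hC : CC P ≤ Ct (C0 P h) J := g.g0 ▸ sup_le (le_Ct.2 h0)
    (le_Ct.2 ((Subgroup.commutator_mono le_rfl inf_le_left).trans h3))
  have hPC : P ≤ Ct (C0 P h) J := fun x hx => by
    obtain ⟨y, hy, c', hc', rfl⟩ := g.sj d hd hdP x hx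
    refine mul_mem (fun c hc => h3 ?_) (hC hc')
    have hu : y * c * y⁻¹ * c⁻¹ ∈ L2 P := cm_mem hy hc.1
    have ht : d * y * d⁻¹ * y⁻¹ ∈ P := mul_mem (hP.conj_mem y hy d) (inv_mem hy)
    have h1 := mul_mem (pl ht (inv_mem hu))
      (Subgroup.Normal.conj_mem' inferInstance _ (hT _ hu) (y * c * y⁻¹ * c⁻¹))
    have e := comm_of hd hc
    have e1 : c⁻¹ * d * c = d := by rw [mul_assoc, e, inv_mul_cancel_left]
    have e2 : c⁻¹ * d⁻¹ = d⁻¹ * c⁻¹ := by rw [← mul_inv_rev, e, mul_inv_rev]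
    convert h1 using 1
    calc _ = d * y * d⁻¹ * y⁻¹ * c * y * d * y⁻¹ * (d⁻¹ * c⁻¹) := by group
      _ = d * y * d⁻¹ * y⁻¹ * c * y * (c⁻¹ * d * c) * y⁻¹ * (c⁻¹ * d⁻¹) := by rw [e1, e2]
      _ = _ := by group
  rw [g.g0]
  refine le_Ct.1 (sup_le (le_Ct.2 ?_) (le_Ct.2 h3))
  rw [Subgroup.commutator_comm]
  exact le_Ct.1 hPC

theorem exists_norm {X : Subgroup G} [X.Normal] (h : G) (μ : Lin X) : ∃ ν : Lin X, h • ν = ν ∧
    (∀ K : Subgroup G, K.Normal → μ ∈ VV K X → ν ∈ VV K X) ∧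
    ∀ w ∈ X, h * w = w * h → ev ν w = ev μ w ^ orderOf h := by
  refine ⟨∏ i ∈ Finset.range (orderOf h), h ^ i • μ, ?_, fun K _ hK => prod_mem fun i _ => vv_smul _ hK,
    fun w hw e => ?_⟩
  · rw [Finset.smul_prod']
    simp only [smul_smul, ← pow_succ']
    have h1 := Finset.prod_range_succ (fun i => h ^ i • μ) (orderOf h)
    have h2 := Finset.prod_range_succ' (fun i => h ^ i • μ) (orderOf h)
    rw [h1, pow_orderOf_eq_one, pow_zero] at h2
    exact (mul_right_cancel h2).symm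
  · rw [ev_of hw, ← Lin.ev_apply, map_prod, Finset.prod_congr rfl (g := fun _ => ev μ w) fun i _ => ?_]
    · simp
    · rw [Lin.ev_apply, ← ev_of hw, ev_smul hw, mul_assoc, ← (Commute.pow_left e i).eq,
        inv_mul_cancel_left]

theorem jobC2 : JobC2.{u} := by
  intro G _ _ p P hP h c g hT
  by_cases h0 : ⁅C0 P h, C0 P h⁆ ≤ L3 P
  · exact step g _ le_rfl h0
  exfalso
  have hA : L2 P ≤ P := Subgroup.commutator_le_left _ _
  have hAA : ⁅L2 P, L2 P⁆ ≤ L3 P := Subgroup.commutator_mono le_rfl hA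
  have hPT : P ≤ Ct (L2 P) (L3 P) := fun x hx t ht => pl hx ht
  have hh : h ∉ Ct (L2 P) (L3 P) := fun k =>
    hT (eq_top_iff.2 (c.b.gen ▸ sup_le hPT (Subgroup.zpowers_le.2 k)))
  have h02 : ⁅C0 P h, C0 P h⁆ ≤ L2 P := Subgroup.commutator_mono inf_le_left inf_le_left
  have h00 : ⁅C0 P h, C0 P h⁆ ≤ C0 P h := Subgroup.commutator_le.2 fun a ha b hb =>
    mul_mem (mul_mem (mul_mem ha hb) (inv_mem ha)) (inv_mem hb)
  have hJ : ⁅CC P, P⁆ ≤ cY (L3 P) := by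
    have : (cY (L3 P)).Normal := by unfold cY; infer_instance
    refine step g _ (fun t ht => mem_cY.2 fun x =>
      mul_mem (Subgroup.Normal.conj_mem inferInstance t ht x) (inv_mem ht)) fun t ht => mem_cY.2 fun x => ?_
    obtain ⟨x, hx, d, hd, rfl⟩ := dec_gen c.b.gen x
    convert pl hx (h02 ht) using 2
    rw [mul_assoc x, comm_of hd (h00 ht)]
    group
  obtain ⟨w, hw, hw'⟩ := SetLike.not_le_iff_exists.1 h0
  have cp := cop c.b.hp c.pg hA c.co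
  obtain ⟨μ, m1, m2⟩ := exists_vv hAA (h02 hw) hw'
  obtain ⟨μ1, a1, a2, a3⟩ := exists_norm h μ
  replace a2 := a2 _ inferInstance m1
  have a4 : ev μ1 w ≠ 1 := fun k => m2 (eq_one_of_pows
    ((a3 w (h02 hw) (mem_C0.1 (h00 hw)).2).symm.trans k) (ev_tor pow_card_eq_one' w) cp)
  obtain ⟨ν, n1, n2⟩ : ∃ ν ∈ VV (L3 P) (L2 P), h • ν ≠ ν := by
    by_contra! k
    exact hh (mem_ct hAA k)
  set μ2 : Lin (L2 P) := h • ν * ν⁻¹ with hμ2
  have b1 : μ2 ∈ VV (L3 P) (L2 P) := mul_mem (vv_smul h n1) (inv_mem n1)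
  have b2 : ∀ t ∈ L2 P, t ∈ cY (L3 P) → ev μ2 t = 1 := fun t ht k => by
    have h3 : h⁻¹ * t * h⁻¹⁻¹ ∈ L2 P := Subgroup.Normal.conj_mem inferInstance t ht h⁻¹
    have h4 := n1 _ (mul_mem h3 (inv_mem ht)) (mem_cY.1 k h⁻¹)
    rw [ev_mul h3 (inv_mem ht), ev_inv ht, inv_inv] at h4
    rw [hμ2, ev_lmul, ev_linv, ev_smul ht, h4]
  have b3 : h • μ2 ≠ μ2 := fun k => by
    have e : h • ν = ν * μ2 := by rw [hμ2, mul_comm, inv_mul_cancel_right]
    have k1 : ∀ i : ℕ, h ^ i • ν = ν * μ2 ^ i := fun i => by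
      induction i with
      | zero => simp
      | succ i ih => rw [pow_succ', mul_smul, ih, smul_mul', smul_pow', k, e, pow_succ', mul_assoc]
    have k2 := k1 (orderOf h)
    rw [pow_orderOf_eq_one, one_smul, left_eq_mul] at k2
    exact n2 (by rw [e, eq_one_of_pows k2 pow_card_eq_one' cp, mul_one])
  have hwJ : w ∈ cY (L3 P) := hJ (Subgroup.commutator_mono (g.g0 ▸ le_sup_left) inf_le_left hw)
  obtain ⟨θ1, t1, o1⟩ := exists_theta hA le_rfl a2
  obtain ⟨θ2, t2, o2⟩ := exists_theta hA le_rfl (mul_mem a2 b1)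
  have k1 : ¬ Kr (L2 P) θ1 := fun k => a4 ((o1.kr_self t1 hA).1 k ▸ ev_lone)
  have k2 : ¬ Kr (L2 P) θ2 := fun k => a4 (by
    have := ev_lmul (ν := μ1) (μ := μ2) (x := w)
    rw [(o2.kr_self t2 hA).1 k, ev_lone, b2 w (h02 hw) hwJ, mul_one] at this
    exact this.symm)
  have van : ∀ θ : P → ℂ, IsIrrCharacter P θ → ¬ Kr (L2 P) θ → ∀ x : P, (x : G) ∉ CC P → θ x = 0 :=
    fun θ hθ hk x hx => (c.f.cl x x.2 hx).van x.2 hθ hk
  have cen : ∀ θ : P → ℂ, IsIrrCharacter P θ → ¬ Kr (L2 P) θ → ∀ x ∈ charCenter θ, (x : G) ∈ CC P :=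
    fun θ hθ hk x ⟨e, he⟩ => by
      by_contra hx
      have := he 1
      rw [mul_one, van θ hθ hk x hx] at this
      exact mul_ne_zero e.ne_zero hθ.apply_one_ne_zero this.symm
  have kk : ∀ x : P, (x : G) ∈ CC P → (x ∈ charCenter θ1 ↔ x ∈ charCenter θ2) := fun x hx => by
    rw [t1.mem_charCenter_iff_commutator, t2.mem_charCenter_iff_commutator]
    refine forall_congr' fun y => ?_
    have h1 : ((x * y * x⁻¹ * y⁻¹ : P) : G) ∈ L2 P := cm_mem x.2 y.2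
    rw [o1.ker t1 h1, o2.ker t2 h1, ev_lmul,
      b2 _ h1 (hJ (Subgroup.commutator_mem_commutator hx y.2)), mul_one]
  have ce : charCenter θ1 = charCenter θ2 :=
    Subgroup.ext fun x => ⟨fun k => (kk x (cen _ t1 k1 x k)).1 k, fun k => (kk x (cen _ t2 k2 x k)).2 k⟩
  have cm : ∀ x ∈ commutator P, (x : G) ∈ L2 P := fun x hx =>
    (P.map_subtype_commutator).le (Subgroup.mem_map_of_mem _ hx)
  have dg : charDegree θ1 = charDegree θ2 := Nat.pow_left_injective two_ne_zero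
    ((t1.degree_sq_eq_index_of_commutator_le (fun x hx => o1.cen (cm x hx)) t1.cast_charDegree.symm).trans
      (ce ▸ (t2.degree_sq_eq_index_of_commutator_le (fun x hx => o2.cen (cm x hx))
        t2.cast_charDegree.symm).symm))
  have i1 := o1.inertia_eq t1 hA c.b.gen g.g0 (van _ t1 k1)
  have i2 := o2.inertia_eq t2 hA c.b.gen g.g0 (van _ t2 k2)
  have s1 : stabilizer G μ1 = ⊤ :=
    eq_top_iff.2 (c.b.gen ▸ sup_le (fun x hx => fix_of le_rfl a2 hx) (Subgroup.zpowers_le.2 a1))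
  have d1 := c.f.dd θ1 t1
  have d2 := c.f.dd θ2 t2
  rw [DD, i1, s1, Subgroup.index_top, one_mul] at d1
  rw [DD, i2, ← dg, mul_comm] at d2
  have h5 : h • (μ1 * μ2) = μ1 * μ2 :=
    (Subgroup.index_eq_one.1 (c.b.nd.mul d1 d2 (deg_ne t1 le_rfl k1) dvd_rfl)).ge (Subgroup.mem_top h)
  rw [smul_mul', a1, mul_right_inj] at h5
  exact b3 h5

end H76.NDC2
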