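/- Tower ND, slot Lev: the level lemma. -/
import Cfsg.Agent.H76.NDK

set_option autoImplicit false
open Cfsg H28 H32 H44 H93.DG H55.Nd MulAction H23.ND H76.NDK

namespace H76.NDLev

universe u

theorem jobLev : JobLev.{u} := by
  intro G _ _ p P A B Z _ _ _ _ h c hA2 hB hZ hC hn hcl
  have hA : A ≤ P := hA2.trans (Subgroup.commutator_le_left _ _)
  have hBA : B ≤ A := hB ▸ Subgroup.commutator_le_left _ _
  have hAA : ⁅A, A⁆ ≤ B := hB ▸ Subgroup.commutator_mono le_rfl hA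
  have hZP : ⁅Z, P⁆ ≤ B := le_Ct.1 (hZ ▸ sup_le (le_Ct.2 hC) (le_Ct.2 hB.ge))
  have hPT : P ≤ Ct A B := le_Ct.2 (Subgroup.commutator_comm A P ▸ hB.ge)
  have van : ∀ θ : P → ℂ, IsIrrCharacter P θ → ¬ Kr A θ → ∀ x : P, (x : G) ∉ Z → θ x = 0 :=
    fun θ hθ hk x hx => (hcl x x.2 hx).van x.2 hθ hk
  have sq : ∀ θ : P → ℂ, IsIrrCharacter P θ → Kr B θ → ¬ Kr A θ → charDegree θ ^ 2 = Z.relIndex P :=
    fun θ hθ h1 h2 => (hθ.degree_sq_eq_index_iff (cen_of hθ hZP h1) hθ.cast_charDegree.symm).2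
      (van θ hθ h2)
  have ine : ∀ (θ : P → ℂ) (μ : Lin A), IsIrrCharacter P θ → ¬ Kr A θ → Ov θ μ →
      inertia θ = stabilizer G μ := fun θ μ hθ h2 ho => ho.inertia_eq hθ hA c.b.gen hZ (van θ hθ h2)
  obtain ⟨μ0, m0, n0, s0⟩ : ∃ μ ∈ VV B A, μ ≠ 1 ∧ stabilizer G μ = Ct A B := by
    obtain ⟨μ, hμ, hr⟩ := H23.Garr.reg (VV B A) (Q := Subgroup.zpowers h) (fun x _ m hm => vv_smul x hm)
      (fun x hx y hy => by
        obtain ⟨i, rfl⟩ := hx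
        obtain ⟨j, rfl⟩ := hy
        exact zpow_mul_comm h i j)
      fun x hx => cop c.b.hp c.pg hA (c.co.coprime_dvd_left (orderOf_dvd_of_mem_zpowers hx))
    have h1 : stabilizer G μ ≤ Ct A B := fun g hg => by
      obtain ⟨x, hx, d, hd, rfl⟩ := dec_gen c.b.gen g
      exact mul_mem (hPT hx) (mem_ct hAA (hr d hd ((mul_mem_cancel_left (ct_le hμ (hPT hx))).1 hg)))
    by_cases e : μ = 1
    · obtain ⟨w, hw, hw'⟩ := SetLike.not_le_iff_exists.1 hn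
      obtain ⟨ν, h2, h3⟩ := exists_vv hAA hw hw'
      refine ⟨ν, h2, fun k => h3 (k ▸ ev_lone), le_antisymm (fun g _ => h1 ?_) (ct_le h2)⟩
      rw [e]
      exact smul_one g
    · exact ⟨μ, hμ, e, le_antisymm h1 (ct_le hμ)⟩
  obtain ⟨θ0, t0, o0⟩ := exists_theta hA hB.ge m0
  have k0 : Kr B θ0 := (o0.kr t0 hA hBA).2 m0
  have k0' : ¬ Kr A θ0 := fun k => n0 ((o0.kr_self t0 hA).1 k)
  have q1 := deg_ne t0 hA2 k0'
  have d0 : DD θ0 = charDegree θ0 * (Ct A B).index := by rw [DD, ine θ0 μ0 t0 k0' o0, s0, mul_comm]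
  have deg : ∀ θ : P → ℂ, IsIrrCharacter P θ → Kr B θ → ¬ Kr A θ → charDegree θ = charDegree θ0 :=
    fun θ hθ h1 h2 => Nat.pow_left_injective two_ne_zero ((sq θ hθ h1 h2).trans (sq θ0 t0 k0 k0').symm)
  have dd : ∀ θ : P → ℂ, IsIrrCharacter P θ → Kr B θ → ¬ Kr A θ →
      DD θ = charDegree θ0 * (Ct A B).index := fun θ hθ h1 h2 => by
    obtain ⟨μ, ho⟩ := exists_mu hθ hA hB.ge h1
    refine c.b.nd.eq (c.f.dd θ hθ) (d0 ▸ c.f.dd θ0 t0) (fun e => ?_) ?_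
    · exact deg_ne hθ hA2 h2 (Nat.eq_one_of_mul_eq_one_left e)
    · rw [DD, deg θ hθ h1 h2, mul_comm, ine θ μ hθ h2 ho]
      exact Nat.mul_dvd_mul_left _ (Subgroup.index_dvd_of_le (ct_le ((ho.kr hθ hA hBA).1 h1)))
  refine ⟨charDegree θ0, q1, sq θ0 t0 k0 k0', d0 ▸ c.f.dd θ0 t0, dd, fun g a ha hb hg => ?_⟩
  have st : ∀ μ ∈ VV B A, μ ≠ 1 → stabilizer G μ ≤ Ct A B := fun μ hμ h1 => by
    obtain ⟨θ, hθ, ho⟩ := exists_theta hA hB.ge hμ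
    have h2 : Kr B θ := (ho.kr hθ hA hBA).2 hμ
    have h3 : ¬ Kr A θ := fun k => h1 ((ho.kr_self hθ hA).1 k)
    have h4 := dd θ hθ h2 h3
    rw [DD, deg θ hθ h2 h3, mul_comm, ine θ μ hθ h3 ho, Nat.mul_right_inj t0.charDegree_pos.ne'] at h4
    have h5 := Subgroup.relIndex_mul_index (ct_le (G := G) hμ)
    rw [h4] at h5
    exact Subgroup.relIndex_eq_one.1 ((mul_eq_right₀ Subgroup.index_ne_zero_of_finite).1 h5)
  by_contra hT
  let f : VV B A → VV B A := fun μ => ⟨g⁻¹ • μ.1 * μ.1⁻¹, mul_mem (vv_smul _ μ.2) (inv_mem μ.2)⟩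
  have hf : Function.Injective f := fun μ ν e => by
    have e1 : g⁻¹ • μ.1 * μ.1⁻¹ = g⁻¹ • ν.1 * ν.1⁻¹ := congrArg Subtype.val e
    by_contra hne
    refine hT (inv_mem_iff.1 (st (μ.1 * ν.1⁻¹) (mul_mem μ.2 (inv_mem ν.2))
      (fun k => hne (Subtype.ext (mul_inv_eq_one.1 k))) ?_))
    rw [mem_stabilizer_iff, smul_mul', smul_inv', mul_inv_eq_iff_eq_mul.1 e1]
    rw [mul_comm (g⁻¹ • ν.1), mul_right_comm, mul_inv_cancel_right, mul_comm]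
  obtain ⟨ν, h1, h2⟩ := exists_vv hAA ha hb
  obtain ⟨μ, e⟩ := Finite.injective_iff_surjective.1 hf ⟨ν, h1⟩
  have e1 : g⁻¹ • μ.1 * μ.1⁻¹ = ν := congrArg Subtype.val e
  have h3 : g * a * g⁻¹ ∈ A := Subgroup.Normal.conj_mem inferInstance a ha g
  have h4 := μ.2 _ (mul_mem h3 (inv_mem ha)) hg
  rw [ev_mul h3 (inv_mem ha), ev_inv ha] at h4
  exact h2 (by rw [← e1, ev_lmul, ev_linv, ev_smul ha, inv_inv, h4])

end H76.NDLev
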