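import Cfsg.Agent.H98.NcSpec

/-! NC tower (blueprints/NC.md): job Quo. -/

set_option autoImplicit false
set_option linter.unusedSectionVars false

namespace H76.Nc

open _root_.Cfsg Subgroup H98.Nc
open H98 hiding stab
open scoped commutatorElement

universe u

variable {p r : ℕ} [hp : Fact p.Prime] {X X' : Type u} [Group X] [Finite X] [Group X'] [Finite X']
  {G R E K : Subgroup X} {f : X →* X'}

theorem inv_comm (i : Inv G R K) : Inv G R ⁅K, R⁆ :=
  ⟨(commutator_le_left' i.nr).trans i.le, le_normalizer_commutator i.nr le_normalizer,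
    le_normalizer_commutator i.nc (le_normalizer_of_le_centralizer inf_le_right)⟩

theorem inv_cen (s : St r G R) (i : Inv G R K) {b : X} (hb : b ∈ R) :
    Inv G R (K ⊓ centralizer ({b} : Set X)) :=
  ⟨inf_le_left.trans i.le, le_normalizer_inf i.nr (le_normalizer_of_le fun _ ha =>
    mem_centralizer_singleton_iff.2 (H12.ea_comm s.ea ha hb)), le_normalizer_inf i.nc
      (le_normalizer_of_le fun _ ha => mem_centralizer_singleton_iff.2 (ha.2 b hb).symm)⟩

theorem inv_core (q : ℕ) (i : Inv G R K) : Inv G R (pCoreOf q K) :=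
  ⟨(pCoreOf_le K).trans i.le, le_normalizer_pCoreOf i.nr, le_normalizer_pCoreOf i.nc⟩

theorem comm_comm (s : St r G R) (i : Inv G R K) : ⁅⁅K, R⁆, R⁆ = ⁅K, R⁆ :=
  have := Fact.mk s.prime
  commutator_commutator_eq (H12.ea_isPGroup s.ea) (not_dvd_card_of_le i.le s.cop) i.nr

/-! ### injective maps -/

theorem nrm_of_map (hf : Function.Injective f) (h : R.map f ≤ normalizer (K.map f : Set X')) :
    R ≤ normalizer (K : Set X) := by
  have := comap_le_normalizer_comap f h
  rwa [comap_map_eq_self_of_injective hf, comap_map_eq_self_of_injective hf] at this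

theorem inv_map_iff (hf : Function.Injective f) : Inv (G.map f) (R.map f) (K.map f) ↔ Inv G R K :=
  ⟨fun i => ⟨(map_le_map_iff_of_injective hf).1 i.le, nrm_of_map hf i.nr,
      nrm_of_map hf (map_inf_centralizer hf G R ▸ i.nc)⟩,
    fun i => ⟨map_mono i.le, map_le_normalizer_map f i.nr,
      map_inf_centralizer hf G R ▸ map_le_normalizer_map f i.nc⟩⟩

theorem st_of_map (hf : Function.Injective f) (s : St r (G.map f) (R.map f)) : St r G R :=
  ⟨s.prime, (H12.ea_map_iff f hf).1 s.ea, card_map_of_injective hf ▸ s.card, nrm_of_map hf s.nrm,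
    card_map_of_injective hf ▸ s.cop⟩

theorem wk_of_map (hf : Function.Injective f) (w : Wk p (G.map f) (R.map f)) : Wk p G R where
  odd b hb b1 Y i c e k := by
    have := Fact.mk Nat.prime_two
    have := w.odd (f b) (mem_map_of_mem f hb) ((map_ne_one_iff f hf).2 b1) _ ((inv_map_iff hf).2 i) (by
      rintro _ ⟨y, hy, rfl⟩
      exact mem_centralizer_singleton_iff.2 (by
        rw [← map_mul, ← map_mul, mem_centralizer_singleton_iff.1 (c hy)])) (by rw [← map_commutator, e])
      (by rw [← map_pCoreOf_of_injective hf, ← map_res, ← map_commutator, k, Subgroup.map_bot])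
    rwa [← map_pCoreOf_of_injective hf, ← map_res, map_le_map_iff_of_injective hf] at this
  two D i t e k := (map_eq_bot_iff_of_injective _ hf).1 (w.two _ ((inv_map_iff hf).2 i) (t.map f)
    (by rw [← map_commutator, e]) fun U iU pU => by
      have a := map_comap_eq_self (iU.le.trans (map_le_range f G))
      rw [← a] at iU ⊢
      rw [← map_inf_centralizer hf, ← map_commutator,
        k _ ((inv_map_iff hf).1 iU) (pU.comap_of_injective f hf), Subgroup.map_bot])

/-! ### the quotient -/

section quo

variable (s : St r G R) (hk : f.ker ≤ G ⊓ centralizer (E : Set X))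
include s hk

theorem lift_cen {B : Subgroup X} (hB : B ≤ R) (hK : f.ker ≤ K) :
    (K ⊓ centralizer (B : Set X)).map f = K.map f ⊓ centralizer (B.map f : Set X') := by
  have := Fact.mk s.prime
  refine le_antisymm (le_inf (map_mono inf_le_left) (map_le_centralizer_map f inf_le_right)) ?_
  rintro _ ⟨⟨y, hy, rfl⟩, c⟩
  obtain ⟨n, hn, e⟩ := exists_mul_mem_centralizer ((H12.ea_isPGroup s.ea).to_le hB)
    (not_dvd_card_of_le (hk.trans inf_le_left) s.cop) le_normalizer_of_normal (y := y) fun a ha => by
      rw [MonoidHom.mem_ker, map_commutatorElement]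
      exact commutatorElement_eq_one_iff_mul_comm.2 (c _ (mem_map_of_mem f ha))
  exact ⟨_, ⟨mul_mem (hK hn) hy, e⟩, by rw [map_mul, show f n = 1 from hn, one_mul]⟩

theorem inv_map (i : Inv G R K) : Inv (G.map f) (R.map f) (K.map f) :=
  ⟨map_mono i.le, map_le_normalizer_map f i.nr,
    lift_cen s hk le_rfl (hk.trans inf_le_left) ▸ map_le_normalizer_map f i.nc⟩

theorem inv_comap {K : Subgroup X'} (i : Inv (G.map f) (R.map f) K) : Inv G R (K.comap f) :=
  ⟨(comap_mono i.le).trans (by rw [comap_map_eq]; exact sup_le le_rfl (hk.trans inf_le_left)),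
    (le_comap_map f R).trans (comap_le_normalizer_comap f i.nr), (le_comap_map f _).trans
      (comap_le_normalizer_comap f (lift_cen s hk le_rfl (hk.trans inf_le_left) ▸ i.nc))⟩

omit s in
theorem comm_bot {U Y : Subgroup X} (hU : IsPGroup p U) (n : Y ≤ normalizer (U : Set X)) (e : res p Y = Y)
    (hY : Y ≤ E) (h : ⁅U.map f, Y.map f⁆ = ⊥) : ⁅U, Y⁆ = ⊥ := by
  rw [← map_commutator, Subgroup.map_eq_bot_iff] at h
  rw [commutator_comm, commutator_eq_bot_iff_le_centralizer]
  exact e.ge.trans (res_le_centralizer_of_quadratic hU n (commutator_eq_bot_iff_le_centralizer.2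
    (h.trans (hk.trans (inf_le_right.trans (centralizer_anti hY))))))

theorem quo (p2 : p ≠ 2) (w : Wk p G R) (iE : Inv G R E) (hG : G ≤ E ⊔ G ⊓ centralizer (R : Set X)) :
    St r (G.map f) (R.map f) ∧ Wk p (G.map f) (R.map f) := by
  have := Fact.mk s.prime
  have := Fact.mk Nat.prime_two
  have hE : ∀ {K}, Inv G R K → ⁅K, R⁆ ≤ E := fun i => (commutator_mono (i.le.trans hG) le_rfl).trans
    (commutator_sup_left_le le_normalizer iE.nc (commutator_le_left' iE.nr)
      ((commutator_eq_bot_iff_le_centralizer.2 inf_le_right).le.trans bot_le))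
  refine ⟨⟨s.prime, H12.ea_map s.ea f, (H10.card_map_of_isPGroup f (s.prime.coprime_iff_not_dvd.2
    (not_dvd_card_of_le (hk.trans inf_le_left) s.cop)).symm (H12.ea_isPGroup s.ea)).trans s.card,
    map_le_normalizer_map f s.nrm, fun h => s.cop (h.trans (card_map_dvd G f))⟩, ?_, fun D i t e k => ?_⟩
  · rintro _ ⟨b, hb, rfl⟩ b1 Y i c e k
    have i2 := inv_cen s (inv_comap s hk i) hb
    have m : ⁅Y.comap f ⊓ centralizer ({b} : Set X), R⁆.map f = Y := by
      rw [map_commutator, ← centralizer_closure, ← zpowers_eq_closure,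
        lift_cen s hk (zpowers_le.2 hb) (ker_le_comap f Y), map_comap_eq_self (i.le.trans (map_le_range f G)),
        MonoidHom.map_zpowers, zpowers_eq_closure, centralizer_closure, inf_eq_left.2 c, e]
    have := map_mono (f := f) (w.odd b hb (fun h => b1 (by rw [h, map_one])) _ (inv_comm i2)
      ((commutator_le_left' i2.nr).trans inf_le_right) (comm_comm s i2)
      (comm_bot hk (isPGroup_pCoreOf _) (le_normalizer_pCoreOf_of_le (res_le _)) (res_res _)
        ((res_le _).trans (hE i2)) (le_bot_iff.1 ((commutator_mono (map_pCoreOf_le f _)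
          (map_res_le f _)).trans (by rw [m, k])))))
    rw [map_res, m] at this
    exact this.trans ((map_pCoreOf_le f _).trans (by rw [m]))
  · have i1 := inv_comap s hk i
    have i2 := inv_comm i1
    have e2 := hE i1
    have m : ⁅D.comap f, R⁆.map f = D := by
      rw [map_commutator, map_comap_eq_self (i.le.trans (map_le_range f G)), e]
    generalize ⁅D.comap f, R⁆ = D2 at i2 e2 m
    obtain ⟨S, hS⟩ := exists_isSyl 2 D2
    have m2 : S.map f = D := (m ▸ hS.map f).eq_of_isPGroup t
    have iS : Inv G R S := by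
      rw [hS.eq_pCoreOf fun x hx => ?_]
      · exact inv_core 2 i2
      obtain ⟨y, hy, a⟩ := m2.ge (m.le (mem_map_of_mem f hx))
      rw [← mul_inv_cancel_left y x]
      exact mul_mem (le_normalizer hy) (centralizer_le_normalizer _ (centralizer_anti (hS.le.trans e2)
        (hk (show f (y⁻¹ * x) = 1 by rw [map_mul, map_inv, a, inv_mul_cancel])).2))
    have t2 := hS.isPGroup.to_le (commutator_le_left' iS.nr)
    have m3 : ⁅S, R⁆.map f = D := by rw [map_commutator, m2, e]
    rw [← m3, w.two _ (inv_comm iS) t2 (comm_comm s iS) fun U iU pU => comm_bot hk pU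
      ((inf_le_inf_right _ (inv_comm iS).le).trans iU.nc) (res_eq_self_of_isPGroup_prime Nat.prime_two
        p2.symm (t2.to_le inf_le_left)) (inf_le_left.trans (hE iS)) (le_bot_iff.1 ((commutator_mono le_rfl
          (le_inf (m3 ▸ map_mono inf_le_left) (map_le_centralizer_map f inf_le_right))).trans
            (k _ (inv_map s hk iU) (pU.map f)).le)), Subgroup.map_bot]

end quo

theorem jobQuo : JobQuo.{u} := by
  intro X _ _ p r _ G R E Γ X' _ _ f p2 hG hR s w iE h1 h2
  have i := Γ.subtype_injective
  have hE := iE.le.trans hG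
  rw [← map_subgroupOf_eq_of_le hE] at iE h1 h2
  rw [← map_subgroupOf_eq_of_le hG] at s w iE h1 h2
  rw [← map_subgroupOf_eq_of_le hR] at s w iE h1
  rw [← map_inf_centralizer i, map_le_map_iff_of_injective i] at h2
  rw [← map_inf_centralizer i, ← Subgroup.map_sup, map_le_map_iff_of_injective i] at h1
  exact quo (st_of_map i s) h2 p2 (wk_of_map i w) ((inv_map_iff i).1 iE) h1

end H76.Nc
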