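import Cfsg.Agent.H98.NcSpec

/-! NC tower (blueprints/NC.md): job ZJ. -/

set_option autoImplicit false
set_option linter.unusedSectionVars false

namespace H76.Nc

open _root_.Cfsg Subgroup H29.Fl H14 H98.Nc
open H98 hiding stab
open scoped commutatorElement

universe u

variable {p : ℕ} [hp : Fact p.Prime]

theorem normal_of_map {G Γ : Type*} [Group G] [Finite G] [Group Γ] {g : G →* Γ}
    (hk : (Nat.card g.ker).Coprime p) (hz : g.ker ≤ center G) {Q : Subgroup G} (hQ : IsPGroup p Q)
    (h : (Q.map g).Normal) : Q.Normal := by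
  have := H13.ker_sup_normalizer_eq_top g.rangeRestrict g.rangeRestrict_surjective
    (by rwa [MonoidHom.ker_rangeRestrict]) hQ (by
      refine Normal.of_map_injective g.range.subtype_injective ?_
      rwa [map_map])
  rw [MonoidHom.ker_rangeRestrict] at this
  exact normal_of_top_le_normalizer (this.ge.trans (sup_le (hz.trans (center_le_normalizer _)) le_rfl))

theorem coreZ {G : Type u} [Group G] [Finite G] {A : Type u} [Group A] [Finite A] (φ : A →* MulAut G)
    (h : H98.Fl.LB.{u} p)
    (hz : ∀ x ∈ centralizer (pCore p G : Set G), (orderOf x).Coprime p → x ∈ center G)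
    (cop : (Nat.card A).Coprime (Nat.card G)) (hA : ¬ p ∣ Nat.card A) (hs : Group.IsSolvable A)
    {P : Subgroup G} (hP : IsPGroup p P) (hO : pCore p G ≤ P) (invA : ∀ a, ∀ x ∈ P, φ a x ∈ P)
    (invC : ∀ c, (∀ a, φ a c = c) → c ∈ normalizer (P : Set G)) : (H16.kL P).Normal := by
  have co := H2.coprime_card_pPrimeCore p G
  have hc : IsPConstrained p G := H10.isPConstrained_iff_isCharP_quotient.2
    (H10.isCharP_of_forall fun y hy o => by
      obtain ⟨x, rfl⟩ := QuotientGroup.mk'_surjective _ y
      have o' : (orderOf x).Coprime p := by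
        have m : x ^ orderOf (QuotientGroup.mk' (pPrimeCore p G) x) ∈ pPrimeCore p G := by
          rw [← QuotientGroup.eq_one_iff, QuotientGroup.mk_pow]; exact pow_orderOf_eq_one _
        refine (o.mul_left co).coprime_dvd_left (orderOf_dvd_of_pow_eq_one ?_)
        rw [pow_mul]
        exact orderOf_dvd_iff_pow_eq_one.1 (orderOf_dvd_natCard _ m)
      have c := hz x (fun u hu => by
        have e := hy _ (H2.map_pCore_le_of_surjective _ (QuotientGroup.mk'_surjective _) (mem_map_of_mem _ hu))
        refine commutatorElement_eq_one_iff_mul_comm.1 (mem_bot.1 ((H2.disjoint_pCore_pPrimeCore p G).le_bot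
          ⟨commutator_le_left _ ⊤ (commutator_mem_commutator hu trivial), ?_⟩))
        exact (QuotientGroup.eq_one_iff _).1 ((map_commutatorElement (QuotientGroup.mk' _) u x).trans
          (commutatorElement_eq_one_iff_mul_comm.2 e))) o'
      have : (zpowers x).Normal := normal_of_top_le_normalizer fun g _ => centralizer_le_normalizer _
        fun _ hy => (mem_center_iff.1 (zpowers_le.2 c hy) g).symm
      exact (QuotientGroup.eq_one_iff x).2 (H2.le_pPrimeCore (by rwa [Nat.card_zpowers]) (mem_zpowers x)))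
  obtain ⟨Γ, _, _, g, j, hk, hn, rel, hi, hΓ⟩ := amb φ hc hA
  have kz : g.ker ≤ center G := fun x hx => hz x
    (H2.pPrimeCore_le_centralizer_pCore p G (H2.le_pPrimeCore hk hx))
    (hk.coprime_dvd_left (orderOf_dvd_natCard _ hx))
  by_contra n
  obtain ⟨_, ⟨y, hy, rfl⟩, -, -, -, k⟩ := H16.kInf_not_normal (hP.map g) (by
      obtain ⟨Q, hQ⟩ := exists_isSyl p ((pCore p Γ).comap g)
      have e := hQ.map g
      rw [map_comap_eq_self (le_of_index hi (H2.pCore_isPGroup p Γ))] at e
      replace e := e.eq_of_isPGroup (H2.pCore_isPGroup p Γ)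
      have := normal_of_map hk kz hQ.isPGroup (e ▸ inferInstance)
      exact e ▸ map_mono ((H2.le_pCore hQ.isPGroup).trans hO))
    (.inl fun e => n (normal_of_map hk kz (hP.to_le (H16.kL_le P)) (by
      have i : Function.Injective (g.comp P.subtype) := fun a b e =>
        Subtype.ext (H10.injOn_of_isPGroup g hk hP a.2 b.2 e)
      rwa [← map_subtype_top P, map_map, ← H16.map_kL i, ← map_map, H16.map_kL P.subtype_injective,
        map_subtype_top] at e)))
  obtain ⟨U, V, b1, b2, b3, b4⟩ := k hΓ
  obtain ⟨W, _, _, _, π, c1, c2, c3⟩ := lin b1 ((H2.pCore_isPGroup p Γ).to_le b2)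
  have rel' := comp_rel φ rel π
  obtain ⟨Q, q1, q2, q3, q4⟩ := h W (π.comp g).range (π.comp j).range (P.map (π.comp g))
    ⟨(cop.coprime_dvd_left (card_range_dvd _)).coprime_dvd_right (card_range_dvd _),
      Group.isSolvable_of_surjective (MonoidHom.rangeRestrict_surjective _),
      by rw [MonoidHom.range_eq_map (π.comp g)]; exact nrm_map φ rel' fun _ _ _ => trivial,
      map_le_range _ _, hP.map _, nrm_map φ rel' invA, fun z hz => by
        obtain ⟨x, hx, rfl⟩ := fix_lift φ rel' cop (.inl hs) hz
        exact le_normalizer_map _ (mem_map_of_mem _ (invC x hx))⟩ _ (mem_map_of_mem _ hy) (c3 _ b3)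
  rw [MonoidHom.range_comp] at q1 q2
  rw [c1 _ hn Q q1 q2 q3] at q4
  exact b4 ((c2 _).1 q4)

variable {X : Type u} [Group X] [Finite X]

theorem fstar_le (H : Subgroup X) : fstarOf H ≤ pCoreOf p H ⊔ (layerOf H ⊔ opp p (fitOf H)) := by
  rw [fstarOf_eq]
  exact sup_le (le_sup_left.trans le_sup_right) ((le_fitOf le_rfl le_normalizer (isNilpotent_fitOf H)).trans
    ((fitOf_le_pCoreOf_sup_opp p _).trans (sup_le_sup (pCoreOf_le_pCoreOf_of_normal (fitOf_le_self H)
      (self_le_normalizer_fitOf H)) le_sup_right)))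

theorem res_fstar (H : Subgroup X) : res p (fstarOf H) = layerOf H ⊔ opp p (fitOf H) :=
  le_antisymm ((res_mono (fstar_le (p := p) H)).trans (res_sup_le_right (isPGroup_pCoreOf H)
    ((pCoreOf_le H).trans (le_normalizer_sup (self_le_normalizer_layerOf H)
      ((self_le_normalizer_fitOf H).trans (normalizer_le_normalizer_opp _))))))
    (sup_le ((res_eq_of_perfect (layerOf_perfect H)).ge.trans (res_mono (layerOf_le_fstarOf H)))
      ((res_eq_self_of_coprime (coprime_card_opp _)).ge.trans
        (res_mono ((opp_le _).trans (fitOf_le_fstarOf H)))))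

theorem fstar_le' (H : Subgroup X) : fstarOf H ≤ pCoreOf p H ⊔ res p (fstarOf H) :=
  res_fstar (p := p) H ▸ fstar_le H

theorem res_fstar_le_cen (H : Subgroup X) : res p (fstarOf H) ≤ centralizer (pCoreOf p H : Set X) := by
  rw [res_fstar]
  exact sup_le ((commutator_eq_bot_iff_le_centralizer.1 (layerOf_commutator_fitOf H)).trans
    (centralizer_anti (pCoreOf_le_fitOf H))) (commutator_eq_bot_iff_le_centralizer.1
      (opp_commutator_eq_bot (isPGroup_pCoreOf H) ((pCoreOf_le H).trans (self_le_normalizer_fitOf H))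
        (le_normalizer_pCoreOf_of_le (fitOf_le_self H))))

theorem jobZJ : JobZJ.{u} := by
  intro X _ _ p r hp H R T p5 s g i hT hO
  have := Fact.mk s.prime
  have hR := H12.ea_isPGroup s.ea
  by_cases pr : p = r
  · subst pr
    rw [eq_bot_iff.2 (((H16.kL_le T).trans (le_inf le_rfl i.le)).trans (H2.disjoint_of_isPGroup_of_coprime hT
      (hp.out.coprime_iff_not_dvd.2 s.cop).symm).le_bot)]
    exact le_normalizer_bot H
  have c := res_fstar_le_cen (p := p) H
  have f := fstar_le' (p := p) H
  have nY : normalizer (H : Set X) ≤ normalizer (res p (fstarOf H) : Set X) :=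
    le_normalizer_res (normalizer_le_normalizer_fstarOf H)
  have YH : res p (fstarOf H) ≤ H := (res_le _).trans (fstarOf_le_self H)
  have YT := (le_inf YH g).trans i.nc
  have rY := res_res (p := p) (fstarOf H)
  have mY : ∀ x ∈ fstarOf H, (orderOf x).Coprime p → x ∈ res p (fstarOf H) := fun _ => mem_res_of_coprime
  unfold Good at g
  generalize res p (fstarOf H) = Y at *
  have nD : normalizer (H : Set X) ≤ normalizer ((H ⊓ centralizer (Y : Set X) : Subgroup X) : Set X) :=
    le_normalizer_inf le_rfl (le_normalizer_centralizer nY)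
  have TD : T ≤ H ⊓ centralizer (Y : Set X) := le_inf i.le (le_centralizer_iff.1 (rY.ge.trans
    (res_le_centralizer_of_quadratic hT YT (le_bot_iff.1 ((commutator_mono ((le_inf (commutator_le_left' YT)
      (commutator_le_right' (i.le.trans (le_normalizer.trans nY)))).trans ((le_pCoreOf (hT.to_le inf_le_left)
        inf_le_right (le_normalizer_inf YT le_normalizer)).trans
          (pCoreOf_le_pCoreOf_of_normal YH (le_normalizer.trans nY)))) le_rfl).trans
      (commutator_eq_bot_iff_le_centralizer.2 (le_centralizer_iff.1 c)).le)))))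
  rw [← commutator_sup_centralizer_eq hR s.cop s.nrm]
  refine sup_le ((le_inf (commutator_le_left' s.nrm)
    (H1.commutator_le_centralizer_of_normal (le_normalizer.trans nY) g)).trans ?_)
    (i.nc.trans (H16.Nm_le_Nm_kL T))
  have DH : H ⊓ centralizer (Y : Set X) ≤ H := inf_le_left
  have DY : H ⊓ centralizer (Y : Set X) ≤ centralizer (Y : Set X) := inf_le_right
  generalize H ⊓ centralizer (Y : Set X) = D at *
  have n := coreZ (D.normalizerMonoidHom.comp (inclusion (s.nrm.trans nD))) (H98.Fl.lb p p5)
    (fun x hx o => mem_center_iff.2 fun y => Subtype.ext (DY y.2 x (mY x (fitOf_le_fstarOf H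
      (inf_centralizer_fstarOf_le H ⟨DH x.2, centralizer_anti f ((centralizer_sup _ _).ge ⟨fun u hu => by
        obtain ⟨v, hv, rfl⟩ := pCoreOf_le_pCoreOf DH (hO.trans TD) hu
        exact congrArg Subtype.val (hx v hv), DY x.2⟩)⟩)) (by simpa using o))).symm)
    (by rw [s.card]; exact (s.prime.coprime_iff_not_dvd.2 (not_dvd_card_of_le DH s.cop)).pow_left 2)
    (fun e => pr ((Nat.prime_dvd_prime_iff_eq hp.out s.prime).1 (hp.out.dvd_of_dvd_pow (s.card ▸ e))))
    (by have := hR.isNilpotent; infer_instance) (isPGroup_subgroupOf hT D)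
    (fun x hx => hO (pCoreOf_le_pCoreOf_of_normal DH (le_normalizer.trans nD) (mem_map_of_mem _ hx)))
    (fun a x hx => conj_mem_of_mem_normalizer (i.nr a.2) hx) fun c hc => mem_normalizer_fintype fun x hx =>
      conj_mem_of_mem_normalizer (H := T) (i.nc ⟨DH c.2, fun a ha =>
        mul_inv_eq_iff_eq_mul.1 (congrArg Subtype.val (hc ⟨a, ha⟩))⟩) hx
  have := le_normalizer_map_subtype (H16.kL (T.subgroupOf D))
  rwa [H16.map_kL D.subtype_injective, map_subgroupOf_eq_of_le TD] at this

end H76.Nc
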