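import Cfsg.Agent.H76.O8A3
import Cfsg.Agent.H21.McA

/-! `JobA2` of `H47.O8Sp` (blueprint `LOCAL3C.md`, §5.3), part a: coordinates on `Q`, and **AB**. -/

set_option autoImplicit false
set_option maxRecDepth 100000
set_option synthInstance.maxSize 1024
open Cfsg Subgroup H14 H98 H56.L3 H42.L3 H42.MC H26.MC H47.O8
open H47.MC (V Mat Nr Acts WC Coord)
open scoped Matrix

namespace H76.O8

universe u

variable {G : Type*} [Group G]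

/-- powers with exponents modulo three -/
def pw (x : G) (a : ZMod 3) : G := x ^ a.val

theorem pw_zero (x : G) : pw x 0 = 1 := pow_zero x

theorem pw_one (x : G) : pw x 1 = x := pow_one x

theorem pw_cast {x : G} (h : x ^ 3 = 1) (n : ℕ) : pw x n = x ^ n := by
  rw [pw, ZMod.val_natCast, ← pow_eq_pow_mod n h]

theorem pw_add {x : G} (h : x ^ 3 = 1) (a b : ZMod 3) : pw x a * pw x b = pw x (a + b) := by
  rw [pw, pw, ← pow_add, ← pw_cast h, Nat.cast_add, ZMod.natCast_zmod_val, ZMod.natCast_zmod_val]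

theorem pw_neg {x : G} (h : x ^ 3 = 1) (a : ZMod 3) : pw x (-a) = (pw x a)⁻¹ :=
  eq_inv_of_mul_eq_one_left (by rw [pw_add h, neg_add_cancel, pw_zero])

theorem pw_mul {x : G} (h : x ^ 3 = 1) (a b : ZMod 3) : pw (pw x a) b = pw x (a * b) := by
  rw [pw, pw, ← pow_mul, ← pw_cast h, Nat.cast_mul, ZMod.natCast_zmod_val, ZMod.natCast_zmod_val]

theorem pw_conj (g x : G) (a : ZMod 3) : g * pw x a * g⁻¹ = pw (g * x * g⁻¹) a := conj_pow.symm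

theorem pw_comm {x y : G} (h : x * y = y * x) (a b : ZMod 3) (r : G) :
    pw x a * (pw y b * r) = pw y b * (pw x a * r) :=
  ((show Commute x y from h).pow_pow _ _).left_comm r

theorem pw_twist {x y c : G} (h : y * x = x * (y * c)) (hx : c * x = x * c) (hy : c * y = y * c)
    (h3 : c ^ 3 = 1) (a b : ZMod 3) (r : G) :
    pw y a * (pw x b * r) = pw x b * (pw y a * (pw c (a * b) * r)) := by
  have k1 : ∀ n : ℕ, y ^ n * x = x * (y ^ n * c ^ n) := fun n => by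
    induction n with
    | zero => simp
    | succ n ih =>
      rw [pow_succ' y, mul_assoc, ih, ← mul_assoc, h, pow_succ' c, mul_assoc, mul_assoc, mul_assoc,
        ((show Commute c y from hy).pow_right n).left_comm]
  have k2 : ∀ n m : ℕ, y ^ n * x ^ m = x ^ m * (y ^ n * c ^ (n * m)) := fun n m => by
    induction m with
    | zero => simp
    | succ m ih =>
      rw [pow_succ x, ← mul_assoc, ih, mul_assoc, mul_assoc,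
        ((show Commute c x from hx).pow_left _).eq, ← mul_assoc (y ^ n), k1, mul_add, mul_one,
        add_comm, pow_add]
      simp only [mul_assoc]
  rw [← pw_mul h3, ← mul_assoc, pw, pw, k2, pw, pw, pow_mul]
  simp only [mul_assoc]

/-- the normal form in `Q` -/
def ww (z c₁ q₁ c₂ q₂ : G) (α β γ δ ε : ZMod 3) : G :=
  pw q₁ α * pw q₂ β * pw c₁ γ * pw c₂ δ * pw z ε

namespace Pr

variable {Q : Subgroup G} {z t c₁ q₁ c₂ q₂ b i j g r s y : G} {α β γ δ ε α' β' γ' δ' ε' l m : ZMod 3}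
  (h : Pre Q z t c₁ q₁ c₂ q₂ b i j)
include h

local notation "w" => ww z c₁ q₁ c₂ q₂

theorem memQ : g ∈ Q ↔ ∃ α β γ δ ε, g = w α β γ δ ε := h.memQ g

theorem w_mem : w α β γ δ ε ∈ Q := (memQ h).2 ⟨_, _, _, _, _, rfl⟩

omit h in
theorem w_gen : w 1 0 0 0 0 = q₁ ∧ w 0 1 0 0 0 = q₂ ∧ w 0 0 γ 0 0 = pw c₁ γ ∧
    w 0 0 0 δ 0 = pw c₂ δ ∧ w 0 0 0 0 ε = pw z ε ∧ w 0 0 0 0 0 = 1 := by
  simp [ww, pw_zero, pw_one]

theorem gen_mem : q₁ ∈ Q ∧ q₂ ∈ Q ∧ c₁ ∈ Q ∧ c₂ ∈ Q ∧ z ∈ Q := by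
  obtain ⟨e1, e2, e3, e4, e5, -⟩ :=
    w_gen (z := z) (c₁ := c₁) (q₁ := q₁) (c₂ := c₂) (q₂ := q₂) (γ := 1) (δ := 1) (ε := 1)
  rw [pw_one] at e3 e4 e5
  exact ⟨e1 ▸ w_mem h, e2 ▸ w_mem h, e3 ▸ w_mem h, e4 ▸ w_mem h, e5 ▸ w_mem h⟩

theorem z3 : z ^ 3 = 1 := h.exp _ (gen_mem h).2.2.2.2

theorem w_mul : w α β γ δ ε * w α' β' γ' δ' ε' =
    w (α + α') (β + β') (γ + γ') (δ + δ') (ε + ε' - γ * α' + δ * β') := by
  obtain ⟨m1, m2, m3, m4, -⟩ := gen_mem h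
  have c : ∀ a ∈ Q, z * a = a * z := fun a ha => (mem_Ce.1 (h.Qz ha)).symm
  have c' : ∀ a ∈ Q, z⁻¹ * a = a * z⁻¹ := fun a ha => (Commute.inv_left (c a ha)).eq
  have t1 := pw_twist (y := c₁) (x := q₁) (c := z⁻¹) (by
    rw [← mul_assoc, mul_inv_eq_iff_eq_mul.1 h.qc1, mul_assoc c₁, c _ m1, ← mul_assoc,
      mul_inv_cancel_right]) (c' _ m1) (c' _ m3) (by rw [inv_pow, z3 h, inv_one])
  have t2 := pw_twist (y := c₂) (x := q₂) (c := z) (by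
    rw [← mul_assoc, mul_inv_eq_iff_eq_mul.1 h.qc2, mul_assoc, mul_assoc, ← c _ m2,
      inv_mul_cancel_left]) (c _ m2) (c _ m4) (z3 h)
  have t3 : ∀ a, pw z⁻¹ a = pw z (-a) := fun a => by rw [pw_neg (z3 h), pw, pw, inv_pow]
  have a : ∀ x ∈ Q, ∀ (a b : ZMod 3) (r : G), pw x a * (pw x b * r) = pw x (a + b) * r :=
    fun x hx a b r => by rw [← mul_assoc, pw_add (h.exp x hx)]
  simp only [ww, mul_assoc, pw_comm (c _ m1), pw_comm (c _ m2), pw_comm (c _ m3), pw_comm (c _ m4),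
    pw_comm h.qc.symm, t2, pw_comm h.cc.symm, t1, t3, pw_comm h.cq, pw_comm h.qq.symm, a _ m1,
    a _ m2, a _ m3, a _ m4, pw_add (z3 h)]
  congr 5
  ring

theorem w_inv : (w α β γ δ ε)⁻¹ = w (-α) (-β) (-γ) (-δ) (-ε - γ * α + δ * β) :=
  inv_eq_of_mul_eq_one_right (by
    rw [w_mul h, ← (w_gen (γ := 0) (δ := 0) (ε := 0)).2.2.2.2.2]
    congr 1 <;> ring)

theorem w_pw (k : ZMod 3) : pw (w α β γ δ ε) k =
    w (k * α) (k * β) (k * γ) (k * δ) (k * ε + (k - k * k) * (δ * β - γ * α)) := by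
  rcases (by decide : ∀ k : ZMod 3, k = 0 ∨ k = 1 ∨ k = 1 + 1) k with rfl | rfl | rfl
  · simp [ww, pw_zero]
  · simp [pw_one]
  · rw [← pw_add (h.exp _ (w_mem h)), pw_one, w_mul h]
    congr 1 <;>
      first | ring1 | linear_combination (δ * β - γ * α) * (by decide : (3 : ZMod 3) = 0)

theorem b_w0 : b * w 0 0 γ δ ε = w 0 0 γ δ ε * b := by
  simp only [ww, pw_zero, one_mul]
  exact (((Commute.pow_right h.bc1 _).mul_right (Commute.pow_right h.bc2 _)).mul_right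
    (Commute.pow_right h.bz _)).eq

theorem b_w (hl : q₁ * b * q₁⁻¹ = b * pw c₁ l * pw z m) : b * w α β γ δ ε * b⁻¹ =
    w α β (γ - l * α) (δ + β) (ε + α * (l - m) + l * (α - α * α) - β * β) := by
  obtain ⟨e1, e2, -⟩ :=
    w_gen (z := z) (c₁ := c₁) (q₁ := q₁) (c₂ := c₂) (q₂ := q₂) (γ := 1) (δ := 1) (ε := 1)
  have c : ∀ γ δ ε, b * w 0 0 γ δ ε * b⁻¹ = w 0 0 γ δ ε := fun γ δ ε =>
    mul_inv_eq_iff_eq_mul.2 (b_w0 h)
  have k : ∀ q γ δ ε, q * b * q⁻¹ = b * w 0 0 γ δ ε → b * q * b⁻¹ = (w 0 0 γ δ ε)⁻¹ * q :=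
    fun q γ δ ε e => by
    rw [← c, ← mul_inv_eq_iff_eq_mul, ← inv_inj]
    calc _ = q * b * q⁻¹ * b⁻¹ := by group
      _ = _ := by rw [e]; group
  have k1 := k q₁ l 0 m (by rw [hl]; simp [ww, pw_zero, mul_assoc])
  have k2 := k q₂ 0 (-1) (-1) (by
    rw [h.qb2]
    simp [ww, pw_zero, mul_assoc, pw_neg (z3 h), pw_neg (h.exp _ (gen_mem h).2.2.2.1), pw_one])
  nth_rw 3 [← e1] at k1
  nth_rw 3 [← e2] at k2
  rw [w_inv h, w_mul h] at k1 k2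
  calc _ = b * pw q₁ α * b⁻¹ * (b * pw q₂ β * b⁻¹) * (b * w 0 0 γ δ ε * b⁻¹) := by
        simp only [ww, pw_zero]; group
    _ = _ := by
      rw [c, pw_conj, pw_conj, k1, k2, w_pw h, w_pw h, w_mul h, w_mul h]
      congr 1 <;> first | ring1 | linear_combination β * (by decide : (3 : ZMod 3) = 0)

theorem t_w : t * w 0 0 γ δ ε * t⁻¹ = w 0 0 γ (-δ) ε := by
  calc _ = t * pw c₁ γ * t⁻¹ * (t * pw c₂ δ * t⁻¹) * (t * pw z ε * t⁻¹) := by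
        simp only [ww, pw_zero]; group
    _ = _ := by
      rw [pw_conj, pw_conj, pw_conj, h.tc2, h.tc1, h.tz, mul_inv_cancel_right, mul_inv_cancel_right,
        ww, pw_zero, pw_zero, one_mul, one_mul, pw_neg (h.exp _ (gen_mem h).2.2.2.1)]
      simp only [pw, inv_pow]

theorem w_inj : w α β γ δ ε = w α' β' γ' δ' ε' ↔ α = α' ∧ β = β' ∧ γ = γ' ∧ δ = δ' ∧ ε = ε' := by
  refine ⟨fun e => ?_, by rintro ⟨rfl, rfl, rfl, rfl, rfl⟩; rfl⟩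
  let f : ZMod 3 × ZMod 3 × ZMod 3 × ZMod 3 × ZMod 3 → Q :=
    fun p => ⟨w p.1 p.2.1 p.2.2.1 p.2.2.2.1 p.2.2.2.2, w_mem h⟩
  have hf : Function.Surjective f := fun a => by
    obtain ⟨α, β, γ, δ, ε, e⟩ := (memQ h).1 a.2
    exact ⟨(α, β, γ, δ, ε), Subtype.ext e.symm⟩
  simpa using (hf.bijective_of_nat_card_le (by simp [h.card])).1 (a₁ := (α, β, γ, δ, ε))
    (a₂ := (α', β', γ', δ', ε')) (Subtype.ext e)

variable [Finite G]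

theorem w_Z : w α β γ δ ε ∈ zpowers z ↔ α = 0 ∧ β = 0 ∧ γ = 0 ∧ δ = 0 := by
  have e : ∀ ε, w 0 0 0 0 ε = pw z ε := fun ε => (w_gen (γ := 0) (δ := 0)).2.2.2.2.1
  constructor
  · intro e'
    obtain ⟨k, hk⟩ := mem_powers_iff_mem_zpowers.2 e'
    have := ((w_inj h).1 (((e _).trans (pw_cast (z3 h) k)).trans hk))
    exact ⟨this.1.symm, this.2.1.symm, this.2.2.1.symm, this.2.2.2.1.symm⟩
  · rintro ⟨rfl, rfl, rfl, rfl⟩
    exact e ε ▸ pow_mem (mem_zpowers z) _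

omit [Finite G] in
theorem w_comm : w α β γ δ ε * w α' β' γ' δ' ε' = w α' β' γ' δ' ε' * w α β γ δ ε ↔
    δ * β' - γ * α' = δ' * β - γ' * α := by
  rw [w_mul h, w_mul h, w_inj h]
  exact ⟨fun e => by linear_combination e.2.2.2.2, fun e => ⟨add_comm _ _, add_comm _ _,
    add_comm _ _, add_comm _ _, by linear_combination e⟩⟩

omit [Finite G] in
theorem nonab (hy : y ∈ Q) : ∃ a ∈ Q ⊓ Ce y, ∃ c ∈ Q ⊓ Ce y, a * c ≠ c * a := by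
  obtain ⟨α, β, γ, δ, ε, rfl⟩ := (memQ h).1 hy
  obtain ⟨a1, a2, a3, a4, e1, b1, b2, b3, b4, e2, e3⟩ := (by decide +kernel :
    ∀ α β γ δ : ZMod 3, ∃ a1 a2 a3 a4, a4 * β - a3 * α = δ * a2 - γ * a1 ∧ ∃ b1 b2 b3 b4,
      b4 * β - b3 * α = δ * b2 - γ * b1 ∧ a4 * b2 - a3 * b1 ≠ b4 * a2 - b3 * a1) α β γ δ
  exact ⟨w a1 a2 a3 a4 0, ⟨w_mem h, mem_Ce.2 ((w_comm h).2 e1)⟩, w b1 b2 b3 b4 0,
    ⟨w_mem h, mem_Ce.2 ((w_comm h).2 e2)⟩, mt (w_comm h).1 e3⟩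

theorem conjZ (hy : y ∈ Q) (hz : y ∉ zpowers z) : IsConj y (y * z⁻¹) := by
  obtain ⟨α, β, γ, δ, ε, rfl⟩ := (memQ h).1 hy
  obtain ⟨a1, a2, a3, a4, e⟩ := (by decide +kernel : ∀ α β γ δ : ZMod 3,
    ¬ (α = 0 ∧ β = 0 ∧ γ = 0 ∧ δ = 0) → ∃ a1 a2 a3 a4,
      a4 * β - a3 * α = δ * a2 - γ * a1 - 1) α β γ δ (mt (w_Z h).2 hz)
  refine isConj_iff.2 ⟨w a1 a2 a3 a4 0, ?_⟩
  rw [mul_inv_eq_iff_eq_mul, show z⁻¹ = w 0 0 0 0 (-1) by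
    rw [(w_gen (γ := 0) (δ := 0)).2.2.2.2.1, pw_neg (z3 h), pw_one], w_mul h, w_mul h, w_mul h]
  congr 1 <;> first | ring1 | linear_combination e

omit [Finite G] in
theorem R_Ce (h1 : g ∈ Q) (h2 : g ∈ Ce t) : closure {i, j} ≤ Ce g := (closure_le _).2 (by
  rintro _ (rfl | rfl)
  exacts [mem_Ce.2 (h.cR g ⟨h1, h2⟩).1.symm, mem_Ce.2 (h.cR g ⟨h1, h2⟩).2.symm])

omit [Finite G] in
theorem R_t : closure {i, j} ≤ Ce t := (closure_le _).2 (by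
  rintro _ (rfl | rfl)
  exacts [mem_Ce.2 (by rw [← h.ii, mul_assoc]), mem_Ce.2 (by rw [← h.jj, mul_assoc])])

theorem b_nr : b ∈ Nr Q := h.nQ (Ce_le_nr (mem_Ce.2 h.bz))

theorem R_nr (hr : r ∈ closure {i, j}) : r ∈ Nr Q :=
  h.nQ (Ce_le_nr (R_Ce h (gen_mem h).2.2.2.2 (mem_Ce.2 h.tz.symm) hr))

omit [Finite G] in
theorem S_Ce : Q ⊔ zpowers b ≤ Ce z := sup_le h.Qz (zpowers_le.2 (mem_Ce.2 h.bz))

theorem mem_S (hs : s ∈ Q ⊔ zpowers b) : ∃ a ∈ Q, ∃ k : ℤ, s = a * b ^ k := by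
  obtain ⟨a, ha, _, ⟨k, rfl⟩, e⟩ := (mem_sup_right_norm (zpowers_le.2 (b_nr h))).1 hs
  exact ⟨a, ha, k, e⟩

theorem S_cases (hs : s ∈ Q ⊔ zpowers b) : s ∈ Q ∨ s * b⁻¹ ∈ Q ∨ s * b ∈ Q := by
  obtain ⟨a, ha, k, rfl⟩ := mem_S h hs
  have h3 : ∀ n : ℤ, b ^ (3 * n) ∈ Q := fun n => by
    rw [zpow_mul]
    exact zpow_mem (by exact_mod_cast zpowers_le.2 (gen_mem h).2.2.2.2 h.b3) n
  obtain ⟨n, rfl | rfl | rfl⟩ : ∃ n, k = 3 * n ∨ k = 3 * n + 1 ∨ k = 3 * n - 1 :=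
    ⟨(k + 1) / 3, by omega⟩
  · exact .inl (mul_mem ha (h3 n))
  · exact .inr (.inl (by simpa [zpow_add_one, mul_assoc] using mul_mem ha (h3 n)))
  · exact .inr (.inr (by simpa [zpow_sub_one, mul_assoc] using mul_mem ha (h3 n)))

theorem S_comm (hs : s ∈ Q ⊔ zpowers b) (hg : g ∈ Q ⊔ zpowers b) : s * g * s⁻¹ * g⁻¹ ∈ Q := by
  obtain ⟨a, ha, k, rfl⟩ := mem_S h hs
  obtain ⟨c, hc, n, rfl⟩ := mem_S h hg
  convert mul_mem (mul_mem (mul_mem ha (conj_mem_of_mem_normalizer (zpow_mem (b_nr h) k) hc))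
    (conj_mem_of_mem_normalizer (zpow_mem (b_nr h) n) (inv_mem ha))) (inv_mem hc) using 1
  group

theorem S_tri (hs : s ∈ Q ⊔ zpowers b) (h1 : s ∉ Q) (hg : g ∈ Q ⊔ zpowers b) :
    g ∈ Q ∨ g * s⁻¹ ∈ Q ∨ g * s ∈ Q := by
  rcases (S_cases h hs).resolve_left h1 with e | e <;> rcases S_cases h hg with e' | e' | e'
  · exact .inl e'
  · exact .inr (.inl (by simpa [mul_assoc] using mul_mem e' (inv_mem e)))
  · exact .inr (.inr (by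
      simpa [mul_assoc] using mul_mem e' (conj_mem_of_mem_normalizer' (b_nr h) e)))
  · exact .inl e'
  · exact .inr (.inr (by
      simpa [mul_assoc] using mul_mem e' (conj_mem_of_mem_normalizer (b_nr h) e)))
  · exact .inr (.inl (by simpa [mul_assoc] using mul_mem e' (inv_mem e)))

theorem syl3 {P : Subgroup G} (hP : IsPGroup 3 P) (h1 : P ≤ Ce z) :
    ∃ r ∈ closure {i, j}, cj r⁻¹ P ≤ Q ⊔ zpowers b := by
  obtain ⟨g, hg, h2⟩ := (h.syl.of_le (S_Ce h) le_top).exists_le_cj hP h1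
  obtain ⟨r, hr, h3⟩ := h.frat g (Ce_le_nr hg)
  exact ⟨r, hr, (cj_mono _ h2).trans (by rw [cj_cj, cj_eq_self h3])⟩

omit h [Finite G] in
theorem disj (hy : y ^ 3 = 1) (hz : y ∉ zpowers z) (h1 : g ∈ zpowers z) (h2 : g ∈ zpowers y) :
    g = 1 := by
  rcases H52.L3.mem_zp3 hy h2 with e | rfl | rfl
  exacts [e, absurd h1 hz, absurd (inv_mem_iff.1 h1) hz]

omit [Finite G] in
theorem cube_w (hl : q₁ * b * q₁⁻¹ = b * pw c₁ (-1) * pw z m) (e : α * α = β * β) :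
    (w α β γ δ ε * b) ^ 3 = b ^ 3 := by
  rw [show ∀ a : G, (a * b) ^ 3 = a * (b * a * b⁻¹) * (b * (b * a * b⁻¹) * b⁻¹) * b ^ 3 from
    fun a => by simp only [pow_succ, pow_zero]; group, b_w h hl, b_w h hl, w_mul h, w_mul h,
    mul_eq_right, ← (w_gen (γ := 0) (δ := 0) (ε := 0)).2.2.2.2.2, w_inj h]
  clear hl
  revert α β γ δ ε m
  decide +kernel

/-- the computation in `S` -/
theorem core (hl : q₁ * b * q₁⁻¹ = b * pw c₁ l * pw z m) {P : Subgroup G}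
    (hP : P ≤ Q ⊔ zpowers b) (hy : y ∈ Q) (hz : y ∉ zpowers z)
    (hc : ∀ u ∈ P, ∀ u' ∈ P, u * u' * u⁻¹ * u'⁻¹ ∈ zpowers y) (h3 : ∀ u ∈ P, u ^ 3 = 1)
    (hC : P ≤ Ce y) (hn : ∃ a ∈ P, ∃ c ∈ P, a * c ≠ c * a) :
    l = -1 ∧ b ^ 3 = 1 ∧ ∃ γ δ ε, γ ≠ 0 ∧ δ ≠ 0 ∧ y = w 0 0 γ δ ε := by
  have y3 := h.exp y hy
  have key : ∀ a ∈ P, ∀ c ∈ P, a ∉ Q → a * c ≠ c * a → ∃ e ∈ P, e ∈ Q ∧ a * e ≠ e * a :=
    fun a ha c hc hn e => by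
    rcases S_tri h (hP ha) hn (hP hc) with e' | e' | e'
    · exact ⟨c, hc, e', e⟩
    · exact ⟨_, mul_mem hc (inv_mem ha), e', fun e'' => e (by
        rw [inv_mul_cancel_right, ← mul_assoc, mul_inv_eq_iff_eq_mul] at e''; exact e'')⟩
    · exact ⟨_, mul_mem hc ha, e', fun e'' => e (by
        rw [← mul_assoc, mul_left_inj] at e''; exact e'')⟩
  obtain ⟨s, hs, h1, e, he, h2, h4⟩ : ∃ s ∈ P, s ∉ Q ∧ ∃ e ∈ P, e ∈ Q ∧ s * e ≠ e * s := by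
    obtain ⟨a, ha, c, hc', e⟩ := hn
    by_cases h1 : a ∈ Q
    · by_cases h2 : c ∈ Q
      · exact absurd (mul_inv_eq_iff_eq_mul.1 (mul_inv_eq_one.1
          (disj y3 hz (h.comm a h1 c h2) (hc a ha c hc')))) e
      · exact ⟨c, hc', h2, key c hc' a ha h2 e.symm⟩
    · exact ⟨a, ha, h1, key a ha c hc' h1 e⟩
  obtain ⟨s, hs, h1, h4⟩ : ∃ s ∈ P, s * b⁻¹ ∈ Q ∧ s * e ≠ e * s := by
    rcases (S_cases h (hP hs)).resolve_left h1 with e' | e'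
    · exact ⟨s, hs, e', h4⟩
    · exact ⟨s⁻¹, inv_mem hs, by
        simpa [mul_assoc] using inv_mem (conj_mem_of_mem_normalizer (b_nr h) e'),
        fun e'' => h4 (Commute.inv_left_iff.1 e'').eq⟩
  obtain ⟨x, x', a3, a4, a5, h1⟩ := (memQ h).1 h1
  obtain rfl := mul_inv_eq_iff_eq_mul.1 h1
  obtain ⟨α, β, γ, δ, ε, rfl⟩ := (memQ h).1 h2
  obtain ⟨n, hn⟩ : ∃ n, w x x' a3 a4 a5 * b * w α β γ δ ε * (w x x' a3 a4 a5 * b)⁻¹ *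
      (w α β γ δ ε)⁻¹ = w 0 0 (-(l * α)) β n := ⟨_, by
    rw [show ∀ a e : G, a * b * e * (a * b)⁻¹ = a * (b * e * b⁻¹) * a⁻¹ from fun _ _ => by group,
      b_w h hl, w_inv h, w_inv h, w_mul h, w_mul h, w_mul h]
    congr 1 <;> ring1⟩
  have h5 := hc _ hs _ he
  rw [hn] at h5
  have h6 : y = w 0 0 (-(l * α)) β n ∨ y = (w 0 0 (-(l * α)) β n)⁻¹ := by
    rcases H52.L3.mem_zp3 y3 h5 with e | e | e
    · exact absurd (mul_inv_eq_iff_eq_mul.1 (mul_inv_eq_one.1 (hn.trans e))) h4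
    exacts [.inl e.symm, .inr (by rw [e, inv_inv])]
  have h7 : ∀ u ∈ P, u * w 0 0 (-(l * α)) β n = w 0 0 (-(l * α)) β n * u := fun u hu => by
    obtain ⟨k, hk⟩ := h5
    exact hk ▸ ((show Commute u y from mem_Ce.1 (hC hu)).zpow_right k).eq
  have h8 := (w_comm h).1 (h7 _ he)
  have h9 := h7 _ hs
  rw [mul_assoc, b_w0 h, ← mul_assoc, ← mul_assoc, mul_left_inj, w_comm h] at h9
  obtain ⟨rfl, e1, e2, e3⟩ := (by decide +kernel : ∀ l α β x x' : ZMod 3,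
    0 = β * β - -(l * α) * α → 0 = β * x' - -(l * α) * x → ¬ (-(l * α) = 0 ∧ β = 0) →
      l = -1 ∧ x * x = x' * x' ∧ -(l * α) ≠ 0 ∧ β ≠ 0) l α β x x' (by linear_combination h8)
    (by linear_combination h9) fun e => hz (by
      have := (w_Z h (ε := n)).2 ⟨rfl, rfl, e⟩
      rcases h6 with rfl | rfl
      exacts [this, inv_mem this])
  refine ⟨rfl, (cube_w h hl e1).symm.trans (h3 _ hs), ?_⟩
  rcases h6 with e | e
  · exact ⟨_, _, _, e2, e3, e⟩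
  · rw [w_inv h, neg_zero] at e
    exact ⟨_, _, _, neg_ne_zero.2 e2, neg_ne_zero.2 e3, e⟩

theorem mem (hy : g * z * g⁻¹ ∈ Q) (hz : g * z * g⁻¹ ∉ zpowers z) :
    g⁻¹ * z * g ∈ Q ∧ g⁻¹ * z * g ∉ zpowers z := by
  obtain ⟨a, ha, c, hc, e⟩ := nonab h hy
  obtain ⟨r, hr, h1⟩ := syl3 h (P := cj g⁻¹ (Q ⊓ Ce (g * z * g⁻¹)))
    (isPGroup_cj _ (isPGroup_iff_forall.2 fun a ha => ⟨1, h.exp a ha.1⟩))
    ((cj_mono _ inf_le_right).trans (by rw [cj_Ce]; simp [mul_assoc]))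
  have h2 := conj_mem_of_mem_normalizer (R_nr h hr) (S_comm h
    (h1 (conj_mem_cj_iff.2 (conj_mem_cj_iff.2 ha))) (h1 (conj_mem_cj_iff.2 (conj_mem_cj_iff.2 hc))))
  rw [show ∀ a c : G, r * (r⁻¹ * a * r⁻¹⁻¹ * (r⁻¹ * c * r⁻¹⁻¹) * (r⁻¹ * a * r⁻¹⁻¹)⁻¹ *
    (r⁻¹ * c * r⁻¹⁻¹)⁻¹) * r⁻¹ = a * c * a⁻¹ * c⁻¹ from fun _ _ => by group,
    show g⁻¹ * a * g⁻¹⁻¹ * (g⁻¹ * c * g⁻¹⁻¹) * (g⁻¹ * a * g⁻¹⁻¹)⁻¹ * (g⁻¹ * c * g⁻¹⁻¹)⁻¹ =
      g⁻¹ * (a * c * a⁻¹ * c⁻¹) * g by group] at h2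
  refine ⟨?_, fun e' => hz ?_⟩
  · rcases H52.L3.mem_zp3 (z3 h) (h.comm a ha.1 c hc.1) with e' | e' | e' <;> rw [e'] at h2
    · exact absurd (mul_inv_eq_iff_eq_mul.1 (mul_inv_eq_one.1 e')) e
    · exact h2
    · simpa [mul_assoc] using inv_mem h2
  · exact conj_mem_of_mem_normalizer (inv_mem_iff.1 (mem_Nz.2 (by simpa using e'))) (mem_zpowers z)

/-- **AB** -/
theorem ab (hl : q₁ * b * q₁⁻¹ = b * pw c₁ l * pw z m) (hy : g * z * g⁻¹ ∈ Q)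
    (hz : g * z * g⁻¹ ∉ zpowers z) : l = -1 ∧ b ^ 3 = 1 ∧ q₁ ∉ Ce (g * z * g⁻¹) ∧
      t ∉ Ce (g * z * g⁻¹) ∧ ∃ γ δ ε, γ ≠ 0 ∧ IsConj z (w 0 0 γ δ ε) := by
  obtain ⟨h1, -⟩ := mem h hy hz
  obtain ⟨r, hr, h2⟩ := syl3 h (P := cj g (Q ⊓ Ce (g⁻¹ * z * g)))
    (isPGroup_cj _ (isPGroup_iff_forall.2 fun a ha => ⟨1, h.exp a ha.1⟩))
    ((cj_mono _ inf_le_right).trans (by rw [cj_Ce]; simp [mul_assoc]))
  rw [cj_cj] at h2
  have ey : r⁻¹ * g * z * (r⁻¹ * g)⁻¹ = r⁻¹ * (g * z * g⁻¹) * r := by group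
  have rz := R_Ce h (gen_mem h).2.2.2.2 (mem_Ce.2 h.tz.symm) hr
  obtain ⟨e1, e2, γ, δ, ε, e3, e4, e5⟩ := core h hl h2 (y := r⁻¹ * g * z * (r⁻¹ * g)⁻¹)
    (ey ▸ conj_mem_of_mem_normalizer' (R_nr h hr) hy)
    (fun e => hz (by simpa [mul_assoc] using conj_mem_of_mem_normalizer (Ce_le_nr rz) e))
    (by
      rintro _ ⟨a, ha, rfl⟩ _ ⟨c, hc, rfl⟩
      obtain ⟨k, hk⟩ := h.comm a ha.1 c hc.1
      refine ⟨k, ?_⟩
      change _ ^ k = _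
      rw [conj_zpow, show z ^ k = _ from hk]
      simp [mul_assoc])
    (by
      rintro _ ⟨a, ha, rfl⟩
      rw [← map_pow, h.exp a ha.1, map_one])
    ((cj_mono _ (inf_le_left.trans h.Qz)).trans (cj_Ce _ _).le)
    (by
      obtain ⟨a, ha, c, hc, e⟩ := nonab h h1
      exact ⟨_, conj_mem_cj_iff.2 ha, _, conj_mem_cj_iff.2 hc, fun e' => e
        (by rwa [conj_mul, conj_mul, mul_left_inj, mul_right_inj] at e')⟩)
  have k : ∀ u, r ∈ Ce u → u ∈ Ce (g * z * g⁻¹) → u ∈ Ce (w 0 0 γ δ ε) := fun u h3 h4 => by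
    have := conj_mem_Ce h4 r⁻¹
    rwa [mem_Ce'.1 (inv_mem h3), inv_inv, ← ey, e5] at this
  refine ⟨e1, e2, fun e => e3 ?_, fun e => e4 ?_, γ, δ, ε, e3, isConj_iff.2 ⟨_, e5⟩⟩
  · have := mem_Ce.1 (k _ (R_Ce h (gen_mem h).1 (mem_Ce.2 h.tq1.symm) hr) e)
    have e1 := (w_gen (z := z) (c₁ := c₁) (q₁ := q₁) (c₂ := c₂) (q₂ := q₂) (γ := 0) (δ := 0)
      (ε := 0)).1
    simpa using (w_comm h).1 (show w 1 0 0 0 0 * w 0 0 γ δ ε = _ * _ by rw [e1]; exact this)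
  · have := mem_Ce'.1 (k _ (R_t h hr) e)
    rw [t_w h, w_inj h] at this
    exact H26.MC.z3 _ this.2.2.2.1

theorem real (hy : g * z * g⁻¹ ∈ Q) (hz : g * z * g⁻¹ ∉ zpowers z) : IsConj z z⁻¹ := by
  obtain ⟨h1, h2⟩ := mem h hy hz
  obtain ⟨a, ha⟩ := isConj_iff.1 (conjZ h h1 h2)
  obtain ⟨c, hc⟩ := isConj_iff.1 (conjZ h hy hz)
  refine isConj_iff.2 ⟨(g * a * g⁻¹)⁻¹ * (c * g), ?_⟩
  have e1 : g * a * g⁻¹ * z⁻¹ * (g * a * g⁻¹)⁻¹ = g * z * g⁻¹ * z⁻¹ := by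
    calc _ = g * (a * (g⁻¹ * z * g) * a⁻¹)⁻¹ * g⁻¹ := by group
      _ = _ := by rw [ha]; group
  calc _ = (g * a * g⁻¹)⁻¹ * (c * (g * z * g⁻¹) * c⁻¹) * (g * a * g⁻¹) := by group
    _ = _ := by rw [hc, ← e1]; group

end Pr

end H76.O8
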