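import Cfsg.Agent.H47.O8R

/-! `JobA3` of `H47.O8Sp` (blueprint `LOCAL3C.md`, §5.4). -/

set_option autoImplicit false
set_option maxRecDepth 100000
open Cfsg Subgroup H14 H98 H56.L3 H42.L3 H42.MC H26.MC H47.O8
open H47.MC (V Mat Nr Acts WC Coord)
open scoped Matrix

namespace H76.O8

universe u

/-- the twist `x ↦ x + k (x · z) z` -/
def tw (k : ZMod 3) (x : V) : V := x + (k * dot x vz) • vz

theorem tw_add (k : ZMod 3) (x y : V) : tw k (x + y) = tw k x + tw k y := by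
  have : dot (x + y) vz = dot x vz + dot y vz := by simp only [dot, Pi.add_apply]; ring
  rw [tw, tw, tw, this, mul_add, add_smul]; abel

theorem tw_tw : ∀ (k : ZMod 3) (x : V), tw (-k) (tw k x) = x ∧ tw k (tw (-k) x) = x := by
  decide +kernel

theorem tw_perp {k : ZMod 3} {x : V} (h : dot x vz = 0) : tw k x = x := by
  rw [tw, h, mul_zero, zero_smul, add_zero]

theorem tw_act : ∀ (k : ZMod 3) (x : V), mT *ᵥ tw k x = tw k (mT *ᵥ x) ∧
    mQ1 *ᵥ tw k x = tw k (mQ1 *ᵥ x) ∧ mQ2 *ᵥ tw k x = tw k (mQ2 *ᵥ x) := by decide +kernel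

/-- the candidates for the set of conjugates of `z` -/
def SS (a b c : Bool) (x : V) : Bool :=
  if dot x vz = 0 then decide (x ≠ 0 ∧ nrm x = 0) else ![a, b, c] (nrm x)

theorem SS_card : ∀ a b c : Bool, Fintype.card {x // SS a b c x = true} ∣ 24261120 →
    ∃ k, ∀ x, SS a b c (tw k x) = true ↔ x ≠ 0 ∧ nrm x = 0 := by decide +kernel

theorem orb1 : ∀ x : V, dot x vz ≠ 0 → ∃ a b c d, act (mZ a b c d) (tw (-nrm x) vb) = x := by
  decide +kernel

theorem orb2 : ∀ x : V, dot x vz = 0 → nrm x = 0 → x = 0 ∨ x = vz ∨ x = -vz ∨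
    ∃ a b c d, act (mZ a b c d) (vy + vu) = x := by
  decide +kernel

theorem gram3 : ∀ p q r s t u : ZMod 3, p + q + r + 2 * (s + t + u) = 0 →
    p + q + r + 2 * (s - t - u) = 0 → p + q + r + 2 * (-s + t - u) = 0 →
    p + q + r + 2 * (-s - t + u) = 0 → s = 0 ∧ t = 0 ∧ u = 0 ∧ p + q + r = 0 := by decide +kernel

theorem gram4 : ∀ p q r s : ZMod 3, p + q + r = 0 → p + q + s = 0 → p + r + s = 0 →
    q + r + s = 0 → q = p ∧ r = p ∧ s = p := by decide +kernel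

/-- a matrix preserving the singular vectors is a similitude -/
theorem gram {M : Mat} (h : ∀ x, x ≠ 0 → nrm x = 0 → nrm (M *ᵥ x) = 0) :
    ∃ μ : ZMod 3, (∀ x, nrm (M *ᵥ x) = μ * nrm x) ∧ (μ = 1 → Iso M) := by
  obtain ⟨Γ, hΓ⟩ : ∃ Γ : Mat, Γ = Mᵀ * M := ⟨_, rfl⟩
  have s : ∀ i j, Γ j i = Γ i j := fun i j => by
    simp only [hΓ, Matrix.mul_apply, Matrix.transpose_apply, Fin.sum_univ_four]; ring
  have e : ∀ x, nrm (M *ᵥ x) = x 0 * x 0 * Γ 0 0 + x 1 * x 1 * Γ 1 1 + x 2 * x 2 * Γ 2 2 +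
      x 3 * x 3 * Γ 3 3 + 2 * (x 0 * x 1 * Γ 0 1 + x 0 * x 2 * Γ 0 2 + x 0 * x 3 * Γ 0 3 +
        x 1 * x 2 * Γ 1 2 + x 1 * x 3 * Γ 1 3 + x 2 * x 3 * Γ 2 3) := fun x => by
    simp only [hΓ, H47.O8.nrm, dot, mulVec_eq, act, Matrix.mul_apply, Matrix.transpose_apply,
      Fin.sum_univ_four]
    ring
  have k : ∀ a b c d : ZMod 3, (![a, b, c, d] : V) ≠ 0 → nrm ![a, b, c, d] = 0 →
      a * a * Γ 0 0 + b * b * Γ 1 1 + c * c * Γ 2 2 + d * d * Γ 3 3 + 2 * (a * b * Γ 0 1 +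
        a * c * Γ 0 2 + a * d * Γ 0 3 + b * c * Γ 1 2 + b * d * Γ 1 3 + c * d * Γ 2 3) = 0 :=
    fun a b c d h1 h2 => (e ![a, b, c, d]).symm.trans (h _ h1 h2)
  obtain ⟨a1, a2, a3, a4⟩ := gram3 (Γ 0 0) (Γ 1 1) (Γ 2 2) (Γ 0 1) (Γ 0 2) (Γ 1 2)
    (by linear_combination k 1 1 1 0 (by decide) (by decide))
    (by linear_combination k 1 1 (-1) 0 (by decide) (by decide))
    (by linear_combination k 1 (-1) 1 0 (by decide) (by decide))
    (by linear_combination k (-1) 1 1 0 (by decide) (by decide))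
  obtain ⟨-, b2, b3, b4⟩ := gram3 (Γ 0 0) (Γ 1 1) (Γ 3 3) (Γ 0 1) (Γ 0 3) (Γ 1 3)
    (by linear_combination k 1 1 0 1 (by decide) (by decide))
    (by linear_combination k 1 1 0 (-1) (by decide) (by decide))
    (by linear_combination k 1 (-1) 0 1 (by decide) (by decide))
    (by linear_combination k (-1) 1 0 1 (by decide) (by decide))
  obtain ⟨-, -, c3, c4⟩ := gram3 (Γ 0 0) (Γ 2 2) (Γ 3 3) (Γ 0 2) (Γ 0 3) (Γ 2 3)
    (by linear_combination k 1 0 1 1 (by decide) (by decide))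
    (by linear_combination k 1 0 1 (-1) (by decide) (by decide))
    (by linear_combination k 1 0 (-1) 1 (by decide) (by decide))
    (by linear_combination k (-1) 0 1 1 (by decide) (by decide))
  obtain ⟨d1, d2, d3⟩ := gram4 (Γ 0 0) (Γ 1 1) (Γ 2 2) (Γ 3 3) a4 b4 c4
    (by linear_combination k 0 1 1 1 (by decide) (by decide) - 2 * a3 - 2 * b3 - 2 * c3)
  refine ⟨Γ 0 0, fun x => ?_, fun h1 => ?_⟩
  · rw [e, a1, a2, a3, b2, b3, c3, d1, d2, d3, H47.O8.nrm, dot]; ring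
  · unfold Iso
    rw [← hΓ]
    ext i j
    fin_cases i <;> fin_cases j <;>
      simp [h1, a1, a2, a3, b2, b3, c3, d1, d2, d3, s 0 1, s 0 2, s 0 3, s 1 2, s 1 3, s 2 3]

variable {G : Type*} [Group G]

/-- the twisted data -/
def twD (d : Dat0 G) (k : ZMod 3) : Dat0 G := { d with v := fun x => d.v (tw k x) }

theorem base_tw {d : Dat0 G} (h : Base d) (k : ZMod 3) : Base (twD d k) := by
  have ez : (twD d k).z = d.z := congrArg d.v (tw_perp (by decide))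
  have eb : (twD d k).v vb = d.v vb * d.z ^ k.val := by
    change d.v (vb + _) = _
    rw [h.add, show dot vb vz = 1 by decide, mul_one, v_smul h.co]
  have c : ∀ r ∈ d.R, d.v vb * d.z ^ k.val * r * (d.v vb * d.z ^ k.val)⁻¹ =
      d.v vb * r * (d.v vb)⁻¹ := fun r hr => by
    rw [mul_assoc (d.v vb), ← (Commute.pow_right (mem_Ce.1 (h.R_z hr)) _).eq]; group
  exact
  { add := fun x y => by change d.v _ = d.v _ * d.v _; rw [tw_add, h.add]
    inj := fun x y e => by rw [← (tw_tw k x).1, h.inj e, (tw_tw k y).1]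
    mem := fun g => (h.mem g).trans ⟨fun ⟨x, e⟩ => ⟨tw (-k) x, (congrArg d.v (tw_tw k x).2).trans e⟩,
      fun ⟨x, e⟩ => ⟨_, e⟩⟩
    tt := h.tt
    ii := h.ii
    jj := h.jj
    ij := h.ij
    bi := by rw [eb]; exact (c _ Base.i_mem).trans h.bi
    bj := by rw [eb]; exact (c _ Base.j_mem).trans h.bj
    aT := fun x => (h.aT _).trans (congrArg d.v (tw_act k x).1)
    a1 := fun x => (h.a1 _).trans (congrArg d.v (tw_act k x).2.1)
    a2 := fun x => (h.a2 _).trans (congrArg d.v (tw_act k x).2.2)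
    memQ := fun g => (h.memQ g).trans (exists_congr fun α => exists_congr fun β =>
      exists_congr fun x => and_congr_right fun hx => by
        change _ ↔ g = _ * d.v (tw k x)
        rw [tw_perp hx]; rfl)
    expQ := h.expQ
    nQ := ez ▸ h.nQ
    cR := h.cR
    frat := ez ▸ h.frat
    nR := ez ▸ h.nR
    cJ := h.cJ
    wc := h.wc
    syl := h.syl }

theorem perp_of_Q {d : Dat0 G} (h : Base d) {x : V} (hx : d.v x ∈ d.Q) : dot x vz = 0 := by
  obtain ⟨α, β, x', h1, e⟩ := (h.memQ _).1 hx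
  have h2 : d.q1 ^ α.val * d.q2 ^ β.val ∈ d.J := by
    rw [← mul_inv_eq_iff_eq_mul] at e
    exact e ▸ mul_mem (v_mem h.co x) (inv_mem (v_mem h.co x'))
  obtain ⟨rfl, rfl⟩ := (by
    simp only [pow_Q1, pow_Q2, mul_eq]
    decide +kernel : ∀ α β : Fin 3, mQ1 ^ α.val * mQ2 ^ β.val = 1 → α = 0 ∧ β = 0) α β
    (acts_unique h.co (acts_mul (acts_pow h.a1 _) (acts_pow h.a2 _)) (acts_J h.co h2))
  rw [h.inj (e.trans (by simp : _ = d.v x'))]
  exact h1

variable [Finite G]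

theorem sing_tw {d : Dat0 G} (h : NZ d) :
    ∃ k, ∀ x, IsConj d.z (d.v (tw k x)) ↔ x ≠ 0 ∧ nrm x = 0 := by
  classical
  have neg : ∀ x, IsConj d.z (d.v x) → IsConj d.z (d.v (-x)) := fun x e => by
    obtain ⟨g, e⟩ := isConj_iff.1 e
    exact h.real.trans (isConj_iff.2 ⟨g, by rw [v_neg h.co, ← e, conj_inv]⟩)
  have inv : ∀ a b c e x, IsConj d.z (d.v (act (mZ a b c e) x)) ↔ IsConj d.z (d.v x) :=
    fun a b c e x => by
    have h1 : IsConj (d.v ((-1 : Mat) ^ e.val *ᵥ x)) (d.v (act (mZ a b c e) x)) := isConj_iff.2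
      ⟨_, by rw [acts_mul (acts_mul (acts_pow h.a1 a.val) (acts_pow h.a2 b.val))
        (acts_pow h.aT c.val), Matrix.mulVec_mulVec, ← mZ_eq, mulVec_eq]⟩
    refine (⟨fun e => e.trans h1.symm, fun e => e.trans h1⟩ : _ ↔ _).trans ?_
    fin_cases e
    · simp
    · simp only [pow_one, Matrix.neg_mulVec, Matrix.one_mulVec]
      exact ⟨fun e => neg_neg x ▸ neg _ e, neg x⟩
  obtain ⟨a, ha⟩ : ∃ a : ZMod 3 → Bool, ∀ n, a n = true ↔ IsConj d.z (d.v (tw (-n) vb)) :=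
    ⟨fun n => decide _, fun n => decide_eq_true_iff⟩
  have key : ∀ x, IsConj d.z (d.v x) ↔ SS (a 0) (a 1) (a 2) x = true := fun x => by
    unfold SS
    split_ifs with hx
    · rw [decide_eq_true_iff]
      refine ⟨fun e => ⟨fun e' => ?_, h.zq x hx e⟩, fun ⟨h1, h2⟩ => ?_⟩
      · rw [e', v_zero h.co, isConj_one_left, v_eq_one h.co] at e
        exact absurd e (by decide)
      · obtain ⟨x', e1, e2, e3, e4⟩ := h.ex
        rcases orb2 x hx h2 with e | rfl | rfl | ⟨a, b, c, e, rfl⟩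
        · exact absurd e h1
        · exact IsConj.refl _
        · exact neg _ (IsConj.refl _)
        rw [inv]
        rcases orb2 x' e1 (h.zq x' e1 e4) with rfl | e | e | ⟨a, b, c, e, rfl⟩
        · rw [v_zero h.co, isConj_one_left, v_eq_one h.co] at e4
          exact absurd e4 (by decide)
        exacts [absurd e e2, absurd e e3, (inv ..).1 e4]
    · obtain ⟨a', b, c, e, h1⟩ := orb1 x hx
      rw [show ![a 0, a 1, a 2] (nrm x) = a (nrm x) by generalize nrm x = n; fin_cases n <;> rfl,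
        ha, ← inv a' b c e (tw (-nrm x) vb), h1]
  let H : Subgroup (GL (Fin 4) (ZMod 3)) :=
    { carrier := {M | ∃ g, Acts d.v g M.1}
      one_mem' := ⟨1, acts_one⟩
      mul_mem' := fun ⟨g, hg⟩ ⟨k, hk⟩ => ⟨_, acts_mul hg hk⟩
      inv_mem' := fun {M} ⟨g, hg⟩ => ⟨_, acts_inv hg M.mul_inv⟩ }
  let _ : MulAction (GL (Fin 4) (ZMod 3)) V :=
    { smul := fun M x => M.1 *ᵥ x
      one_smul := fun x => Matrix.one_mulVec x
      mul_smul := fun M N x => (Matrix.mulVec_mulVec x M.1 N.1).symm }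
  have ho : MulAction.orbit H vz = {x | SS (a 0) (a 1) (a 2) x = true} := by
    ext x
    rw [Set.mem_ofPred_eq, ← key]
    constructor
    · rintro ⟨⟨M, g, hg⟩, rfl⟩
      exact isConj_iff.2 ⟨g, hg vz⟩
    · intro e
      obtain ⟨g, e⟩ := isConj_iff.1 e
      obtain ⟨n, hn, h1⟩ := h.fus (e ▸ v_mem h.co x)
      obtain ⟨M, hM⟩ := exists_acts h.co hn
      obtain ⟨N, hN⟩ := exists_acts h.co (inv_mem hn)
      refine ⟨⟨⟨M, N, acts_unique h.co (acts_mul hM hN) (by simpa using acts_one),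
        acts_unique h.co (acts_mul hN hM) (by simpa using acts_one)⟩, n, hM⟩, h.inj ?_⟩
      change d.v (M *ᵥ vz) = _
      rw [← hM, ← e]
      nth_rw 1 [← mem_Ce'.1 h1]
      group
  obtain ⟨k, hk⟩ := SS_card (a 0) (a 1) (a 2) (by
    have h1 := (MulAction.stabilizer H vz).index_dvd_card.trans (card_subgroup_dvd_card H)
    rw [MulAction.index_stabilizer, ho, Matrix.card_GL_field, ← Nat.card_coe_set_eq] at h1
    rw [← Nat.card_eq_fintype_card]
    exact h1.trans (by simp [Fin.prod_univ_four]))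
  exact ⟨k, fun x => (key _).trans (hk x)⟩

theorem act_iso {d : Dat0 G} (h : Base d) (h1 : Nz d.z ≤ Nr (d.Q ⊓ Ce d.t))
    (hs : ∀ x, IsConj d.z (d.v x) ↔ x ≠ 0 ∧ nrm x = 0) {g : G} (hg : g ∈ Nr d.J) :
    ∃ M, Acts d.v g M ∧ Iso M := by
  have sim : ∀ g M, Acts d.v g M → ∃ μ : ZMod 3, (∀ x, nrm (M *ᵥ x) = μ * nrm x) ∧
      (μ = 1 → Iso M) := fun g M hM => gram fun x h0 hx =>
    ((hs _).1 (((hs x).2 ⟨h0, hx⟩).trans (isConj_iff.2 ⟨g, hM x⟩))).2
  let X : Subgroup G :=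
    { carrier := {g | ∃ M, Acts d.v g M ∧ Iso M}
      one_mem' := ⟨1, acts_one, by decide +kernel⟩
      mul_mem' := fun ⟨M, a, b⟩ ⟨N, c, e⟩ => ⟨_, acts_mul a c, b.mul e⟩
      inv_mem' := fun ⟨M, a, b⟩ => ⟨_, acts_inv a b.mul_tr, b.tr⟩ }
  have hS : d.J ⊔ d.Q ≤ X := fun s hs => by
    obtain ⟨α, β, x, rfl⟩ := h.mem_S.1 hs
    exact X.mul_mem (X.mul_mem (X.pow_mem ⟨_, h.a1, by decide +kernel⟩ _)
      (X.pow_mem ⟨_, h.a2, by decide +kernel⟩ _)) ⟨1, acts_J h.co (v_mem h.co x), by decide +kernel⟩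
  have surj : ∀ g ∈ Nr d.J, ∀ M, Acts d.v g M → ∃ x, M *ᵥ x = e0 := fun g hg M hM => by
    obtain ⟨N, hN⟩ := exists_acts h.co (inv_mem hg)
    exact ⟨N *ᵥ e0, by rw [Matrix.mulVec_mulVec,
      acts_unique h.co (acts_mul hM hN) (by simpa using acts_one), Matrix.one_mulVec]⟩
  have hX : g ∈ Nr X := mem_normalizer_of_cj_le (by
    rintro _ ⟨s, ⟨N, a, b⟩, rfl⟩
    obtain ⟨M, hM⟩ := exists_acts h.co hg
    obtain ⟨M', hM'⟩ := exists_acts h.co (inv_mem hg)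
    have e := acts_mul (acts_mul hM a) hM'
    obtain ⟨μ, m1, -⟩ := sim _ _ hM
    obtain ⟨ν, n1, n2⟩ := sim _ _ e
    refine ⟨_, e, n2 ?_⟩
    have := n1 e0
    rw [← Matrix.mulVec_mulVec, ← Matrix.mulVec_mulVec, m1, b.nrm, ← m1, Matrix.mulVec_mulVec,
      acts_unique h.co (acts_mul hM hM') (by simpa using acts_one), Matrix.one_mulVec,
      show nrm e0 = 1 by decide, mul_one] at this
    exact this.symm)
  obtain ⟨n, hn, s, hs', rfl⟩ := (h.syl.of_le hS le_top).frattini_mem hX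
  refine X.mul_mem ?_ hs'
  have hnJ : n ∈ Nr d.J := by
    obtain ⟨M, a, -⟩ := hs'
    exact (mul_mem_cancel_right (acts_nr h.co a)).1 hg
  obtain ⟨N, hN⟩ := exists_acts h.co hnJ
  have c : d.J ⊔ d.Q ≤ Ce (d.v (N *ᵥ vz)) := by
    rw [← hN, ← cj_Ce, ← cj_eq_self hn]
    exact cj_mono n h.S_z
  have hz : n ∈ Nz d.z := by
    obtain ⟨a, e⟩ := (by decide +kernel : ∀ x : V, mQ1 *ᵥ x = x → mQ2 *ᵥ x = x →
      ∃ a : ZMod 3, a • vz = x) _ ((acts_mem_Ce h.co h.a1).1 (c (mem_sup_right h.q1_Q)))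
      ((acts_mem_Ce h.co h.a2).1 (c (mem_sup_right h.q2_Q)))
    exact mem_Nz.2 ((mem_zp_v h.co).2 ⟨a, by rw [e, hN]⟩)
  have hy := conj_mem_of_mem_normalizer (h1 hz)
    (⟨h.v_Q (x := vy) (by decide), h.v_t.2 (by decide +kernel)⟩ : d.v vy ∈ d.Q ⊓ Ce d.t)
  rw [hN] at hy
  obtain ⟨μ, m1, m2⟩ := sim _ _ hN
  refine ⟨N, hN, m2 ?_⟩
  obtain ⟨x, hx⟩ := surj n hnJ N hN
  have e1 := m1 x
  have e2 := (by decide +kernel : ∀ x : V, dot x vz = 0 → mT *ᵥ x = x → nrm x ≠ 2) _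
    (perp_of_Q h hy.1) (h.v_t.1 hy.2)
  rw [m1, show nrm vy = 1 by decide, mul_one] at e2
  rw [hx, show nrm e0 = 1 by decide] at e1
  exact (by decide : ∀ μ n : ZMod 3, 1 = μ * n → μ ≠ 2 → μ = 1) _ _ e1 e2

theorem jobA3 : JobA3.{u} := fun G _ _ d h => by
  obtain ⟨k, hk⟩ := sing_tw h
  have ez : (twD d k).z = d.z := congrArg d.v (tw_perp (by decide))
  have hs : ∀ x, IsConj (twD d k).z ((twD d k).v x) ↔ x ≠ 0 ∧ nrm x = 0 := ez ▸ hk
  exact ⟨twD d k, base_tw h.toBase k, hs, fun g hg =>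
    act_iso (base_tw h.toBase k) (ez ▸ h.nQ1) hs hg⟩

end H76.O8
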