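import Cfsg.Agent.H76.PwC

/-! A solvable and a non-solvable group of the same exponent type (for S4376). -/

set_option autoImplicit false
set_option synthInstance.maxSize 100000
set_option synthInstance.maxHeartbeats 400000

namespace H76.PW

def P1 : Par := {m := 21, a := 8, b := 2, u := 3, v := 20, w := 1}
theorem T1 :
    Tab P1.X [336, 1, 6, 3, 92, 18, 7, 176, 108, 42, 21, 192, 140, 126, 224, 252, 336] :=
  P1.tab (by decide +kernel)

def P2 : Par := {m := 7, a := 24, b := 2, u := 11, v := 6, w := 6}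
theorem T2 :
    Tab P2.X [336, 1, 86, 3, 100, 90, 7, 128, 108, 98, 21, 192, 196, 126, 224, 252, 336] :=
  P2.tab (by decide +kernel)

def P3 : Par := {m := 21, a := 8, b := 2, u := 3, v := 1, w := 20}
theorem T3 :
    Tab P3.X [336, 1, 86, 3, 172, 90, 7, 176, 180, 98, 21, 192, 196, 126, 224, 252, 336] :=
  P3.tab (by decide +kernel)

def P4 : Par := {m := 21, a := 8, b := 2, u := 7, v := 1, w := 20}
theorem T4 :
    Tab P4.X [336, 1, 170, 3, 172, 174, 7, 176, 180, 182, 21, 192, 196, 210, 224, 252, 336] :=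
  P4.tab (by decide +kernel)

def P5 : Par := {m := 7, a := 8, b := 6, u := 7, v := 6, w := 2}
theorem T5 :
    Tab P5.X [336, 1, 34, 15, 36, 174, 7, 64, 204, 70, 21, 288, 84, 210, 112, 252, 336] :=
  P5.tab (by decide +kernel)

def P6 : Par := {m := 21, a := 8, b := 2, u := 7, v := 13, w := 8}
theorem T6 :
    Tab P6.X [336, 1, 98, 3, 100, 102, 7, 128, 108, 182, 21, 192, 196, 210, 224, 252, 336] :=
  P6.tab (by decide +kernel)

def P7 : Par := {m := 21, a := 8, b := 2, u := 7, v := 20, w := 1}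
theorem T7 :
    Tab P7.X [336, 1, 90, 3, 92, 102, 7, 176, 108, 126, 21, 192, 140, 210, 224, 252, 336] :=
  P7.tab (by decide +kernel)

def P8 : Par := {m := 3, a := 4, b := 2, u := 3, v := 1, w := 2}
theorem T8 :
    Tab P8.X [24, 1, 14, 3, 16, 18, 1, 16, 24, 14, 3, 24, 16, 18, 16, 24, 24] :=
  P8.tab (by decide +kernel)

def P9 : Par := {m := 21, a := 4, b := 2, u := 3, v := 13, w := 8}
theorem T9 :
    Tab P9.X [168, 1, 50, 3, 64, 54, 7, 64, 96, 98, 21, 96, 112, 126, 112, 168, 168] :=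
  P9.tab (by decide +kernel)

def P10 : Par := {m := 7, a := 8, b := 2, u := 3, v := 6, w := 6}
theorem T10 :
    Tab P10.X [112, 1, 30, 1, 36, 30, 7, 64, 36, 42, 7, 64, 84, 42, 112, 84, 112] :=
  P10.tab (by decide +kernel)

def P11 : Par := {m := 3, a := 4, b := 2, u := 3, v := 2, w := 1}
theorem T11 :
    Tab P11.X [24, 1, 10, 3, 16, 18, 1, 16, 24, 10, 3, 24, 16, 18, 16, 24, 24] :=
  P11.tab (by decide +kernel)

def P12 : Par := {m := 1, a := 1, b := 4, u := 0, v := 0, w := 0}
theorem T12 :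
    Tab P12.X [4, 1, 2, 1, 4, 2, 1, 4, 4, 2, 1, 4, 4, 2, 4, 4, 4] :=
  P12.tab (by decide +kernel)

def P13 : Par := {m := 3, a := 8, b := 2, u := 3, v := 2, w := 1}
theorem T13 :
    Tab P13.X [48, 1, 6, 3, 20, 18, 1, 32, 36, 6, 3, 48, 20, 18, 32, 36, 48] :=
  P13.tab (by decide +kernel)

def P14 : Par := {m := 3, a := 8, b := 2, u := 7, v := 2, w := 1}
theorem T14 :
    Tab P14.X [48, 1, 18, 3, 20, 30, 1, 32, 36, 18, 3, 48, 20, 30, 32, 36, 48] :=
  P14.tab (by decide +kernel)

def P15 : Par := {m := 7, a := 3, b := 3, u := 1, v := 1, w := 2}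
theorem T15 :
    Tab P15.X [63, 1, 1, 45, 1, 45, 7, 1, 45, 7, 63, 45, 7, 63, 7, 63, 63] :=
  P15.tab (by decide +kernel)

def P16 : Par := {m := 7, a := 2, b := 4, u := 1, v := 1, w := 6}
theorem T16 :
    Tab P16.X [56, 1, 4, 1, 32, 4, 7, 32, 32, 28, 7, 32, 56, 28, 56, 56, 56] :=
  P16.tab (by decide +kernel)

abbrev GG := F83 × P1.X × P1.X × P3.X × P5.X × P6.X × P9.X × P9.X × P9.X × P12.X × P12.X × P12.X × P14.X

abbrev HH := PGL × P2.X × P4.X × P7.X × P8.X × P8.X × P10.X × P11.X × P13.X × P15.X × P16.X × P16.X × P16.X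

instance finGG : Finite GG := inferInstance

instance finHH : Finite HH := inferInstance

theorem e_GG_HH (n : ℕ) : e GG n = e HH n := by
  have hG := (T83.prod (T1.prod (T1.prod (T3.prod (T5.prod (T6.prod (T9.prod (T9.prod (T9.prod (T12.prod (T12.prod (T12.prod T14))))))))))))
  have hH := (TPGL.prod (T2.prod (T4.prod (T7.prod (T8.prod (T8.prod (T10.prod (T11.prod (T13.prod (T15.prod (T16.prod (T16.prod T16))))))))))))
  exact e_eq_of_tab hG (hH.trans (by decide +kernel)) (by decide +kernel) n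

theorem solvable_GG : Group.IsSolvable GG := inferInstance

theorem not_solvable_HH : ¬ Group.IsSolvable HH := fun _ =>
  not_solvable_PGL (Group.isSolvable_of_surjective (f := MonoidHom.fst PGL _)
    (G := HH) Prod.fst_surjective)

end H76.PW
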