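/- Tower R5, slot E1: numerics of the Frobenius normaliser. -/
import Cfsg.Agent.H34.R5Spec
import Cfsg.Agent.H28.CharKer
import Cfsg.Agent.H98.Basic

set_option autoImplicit false

namespace H76.R5E1
open Cfsg Subgroup H41.IT H34.R5 H28

universe u

variable {G : Type u} [Group G] [Finite G] {B : Subgroup G}

theorem index_lt (h : Iso B) {P : Subgroup G} (hP : P ≤ B) (h0 : P ≠ ⊥)
    (hN : normalizer (B : Set G) ≤ normalizer (P : Set G)) :
    (B.subgroupOf (normalizer (B : Set G))).index + 1 ≤ Nat.card P := by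
  obtain ⟨k, hk, k1⟩ := P.bot_or_exists_ne_one.resolve_left h0
  let F : Option (normalizer (B : Set G) ⧸ B.subgroupOf (normalizer (B : Set G))) → P := fun o =>
    o.elim 1 fun q => ⟨q.out * k * (q.out : G)⁻¹, (mem_normalizer_iff.1 (hN q.out.2) k).1 hk⟩
  have hF : Function.Injective F := by
    have h1 : ∀ q, F (some q) ≠ 1 := fun q e => k1 (by simpa [F] using congrArg Subtype.val e)
    rintro (_ | a) (_ | b) e
    · rfl
    · exact absurd e.symm (h1 b)
    · exact absurd e (h1 a)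
    · have e1 : (a.out : G) * k * (a.out : G)⁻¹ = b.out * k * (b.out : G)⁻¹ := congrArg Subtype.val e
      rw [← a.out_eq, ← b.out_eq]
      refine congrArg some (QuotientGroup.eq.2 (h.cen k (hP hk) k1 (mem_C.2 ?_)))
      change (a.out : G)⁻¹ * b.out * k = k * ((a.out : G)⁻¹ * b.out)
      calc _ = (a.out : G)⁻¹ * (b.out * k * (b.out : G)⁻¹) * b.out := by group
        _ = _ := by rw [← e1]; group
  simpa [Subgroup.index] using Nat.card_le_card_of_injective F hF

theorem exists_syl (hB : Group.IsNilpotent B) {p : ℕ} (hp : p.Prime) (hd : p ∣ Nat.card B) :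
    ∃ P : Subgroup G, P ≠ ⊥ ∧ P ≤ B ∧ normalizer (B : Set G) ≤ normalizer (P : Set G) ∧
      ∃ k, Nat.card P = p ^ k := by
  have := Fact.mk hp
  let S : Sylow p B := default
  have hn : (S : Subgroup B).Normal := inferInstance
  have := S.characteristic_of_normal hn
  refine ⟨(S : Subgroup B).map B.subtype, fun e => S.ne_bot_of_dvd_card hd ?_, map_subtype_le _,
    H98.normalizer_le_normalizer_map_subtype _, (S.isPGroup'.map _).exists_card_eq⟩
  exact (map_eq_bot_iff_of_injective _ B.subtype_injective).1 e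

theorem exists_ss {P Q : Subgroup G} (hP : P ≤ B) (h0 : P ≠ ⊥) (hd : Disjoint P Q)
    (hN : normalizer (B : Set G) ≤ normalizer (Q : Set G)) :
    ∃ χ ∈ SS B, Q.subgroupOf _ ≤ charKer χ ∧ ¬ P.subgroupOf _ ≤ charKer χ := by
  obtain ⟨k, hk, k1⟩ := P.bot_or_exists_ne_one.resolve_left h0
  have := normal_subgroupOf_of_le_normalizer hN
  obtain ⟨χ, h1, h2, h3⟩ := exists_irr_le_charKer_not_mem (Q.subgroupOf (normalizer (B : Set G)))
    (g := ⟨k, le_normalizer (hP hk)⟩) fun e => k1 (disjoint_def.1 hd hk e)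
  exact ⟨χ, ⟨h1, _, hP hk, fun e => h3 (h1.mem_charKer.2 e)⟩, h2, fun e => h3 (e hk)⟩

theorem jobE1 : JobE1.{u} := by
  intro G _ _ B hB np h
  have h1 : Nat.card B ≠ 1 := np 2 0 Nat.prime_two
  have hp := Nat.minFac_prime h1
  obtain ⟨q, hq, hqd, hne⟩ : ∃ q, q.Prime ∧ q ∣ Nat.card B ∧ q ≠ (Nat.card B).minFac := by
    by_contra! k
    exact np _ _ hp (Nat.eq_prime_pow_of_unique_prime_dvd Nat.card_pos.ne' fun a b => k _ a b)
  obtain ⟨P, p0, pB, pN, i, hi⟩ := exists_syl hB hp (Nat.minFac_dvd _)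
  obtain ⟨Q, q0, qB, qN, j, hj⟩ := exists_syl hB hq hqd
  have hc : (Nat.card P).Coprime (Nat.card Q) := by
    rw [hi, hj]
    exact Nat.coprime_pow_primes _ _ hp hq hne.symm
  have hd : Disjoint P Q := disjoint_of_coprime_natCard hc
  refine ⟨?_, ⟨P, p0, lt_of_le_of_ne pB fun e => np _ i hp (e ▸ hi), pN⟩, ?_⟩
  · have a1 := index_lt h pB p0 pN
    have a2 := index_lt h qB q0 qN
    have a3 := Nat.le_of_dvd Nat.card_pos
      (hc.mul_dvd_of_dvd_of_dvd (card_dvd_of_le pB) (card_dvd_of_le qB))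
    have a4 := Nat.pos_of_ne_zero (index_ne_zero_of_finite (H := B.subgroupOf (normalizer (B : Set G))))
    have a5 := Nat.mul_le_mul a1 a2
    nlinarith
  · obtain ⟨χ, c1, c2, -⟩ := exists_ss pB p0 hd qN
    obtain ⟨ξ, x1, -, x3⟩ := exists_ss qB q0 hd.symm pN
    exact ⟨χ, c1, ξ, x1, fun e => x3 (e ▸ c2)⟩

end H76.R5E1
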