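import Cfsg.Agent.H76.S2P3a
import Cfsg.Agent.H76.S2B1

/-! STD-SP chapter II, slot P4: the constant `μ` is trivial. -/

set_option autoImplicit false
set_option linter.unusedSectionVars false

namespace H76.S2P4

open H64.SG (Cz Cs Ns)
open H67.UA hiding Par
open H67.SP H78.S2 H76.S2P3a
open H86.SPI (ok pp hf_self hf_comm EE_mul' EE_comm EE_sq hf_smul_right' TT_conj ac_TT TT_smul
  TT_add_smul)
open H76.S2B1 (TT_TT)
open Matrix Subgroup

universe u

variable {n : ℕ} {F : Type} [Field F] [StarRing F] [TrivialStar F] [CharP F 2] [Finite F]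
  [p : Par n F] {G : Type u} [Group G] {e : XU n F →* G} {t w μ : G}

theorem og_ev {i : Fin (n + 1)} (h1 : 2 ≤ i.val) (h2 : i.val + 1 < n) : Og (ev i : Vn n F) := by
  refine ⟨⟨?_, ?_⟩, fun h => by simpa [ev_apply] using h i h1⟩ <;> rw [H54.SPF.hf_evv, if_neg]
  · simp; omega
  · rw [H54.SPF.v1 p.five]; omega

theorem Og.smul {y : Vn n F} (h : Og y) {c : F} (hc : c ≠ 0) : Og (c • y) :=
  ⟨⟨by rw [hf_smul_left, h.1.1, mul_zero], by rw [hf_smul_left, h.1.2, mul_zero]⟩, fun k =>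
    h.2 fun i hi => (mul_eq_zero.1 (k i hi)).resolve_left hc⟩

theorem Og.add (x : FX n F) {y m : Vn n F} (h : Og y) (hm : Wk 2 m) : Og (y + m) := by
  refine ⟨⟨?_, ?_⟩, fun k => h.2 fun i hi => by simpa [hm i hi] using k i hi⟩
  · rw [hf_add_left, h.1.1, hf_symm (Pl.wk x pl0 hm), add_zero]
  · rw [hf_add_left, h.1.2, hf_symm (Pl.wk x pl1 hm), add_zero]

theorem zs_p (c : F) : hf (c • ev 1 : Vn n F) (ev 0) = 0 := by rw [hf_smul_left, h01, mul_zero]

theorem mu_comm (x : FX n F) (v : BV e t) (h : Km e t w μ) {q : XU n F} (hq : q ∈ P2 n F) :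
    μ * e q = e q * μ := by
  obtain ⟨c, hc⟩ := h.mu
  have h1 : zs c * q = q * zs c :=
    (x.cM ▸ hq : q ∈ Cs (Mk n F 2)) _ ((x.memM _).2 ⟨0, c, fun _ _ => rfl, by simp⟩)
  rcases hc with rfl | rfl
  · rw [← map_mul, h1, map_mul]
  · rw [mul_assoc, ← map_mul, h1, map_mul, ← mul_assoc, v.cen, mul_assoc]

theorem mu_sq (v : BV e t) (h : Km e t w μ) : μ * μ = 1 := by
  obtain ⟨c, rfl | rfl⟩ := h.mu
  · rw [← map_mul, EE_sq (zs_p c), map_one]
  · rw [mul_assoc, ← mul_assoc (e _), ← v.cen, ← mul_assoc, ← mul_assoc, v.tt, one_mul, ← map_mul,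
      EE_sq (zs_p c), map_one]

theorem two_fix (x : FX n F) (v : BV e t) (h : Km e t w μ) {y y' : Vn n F} (hy : Og y)
    (hy' : Og y') : w * e (TT y * TT y') * w⁻¹ = e (TT y * TT y') := by
  rw [map_mul, ← conj_mul, h.tt y hy, h.tt y' hy', mul_assoc, ← mul_assoc μ,
    mu_comm x v h (TT_mem hy'.1), mul_assoc, mu_sq v h, mul_one]

theorem big (x : FX n F) (v : BV e t) (h : Km e t w μ) {c : F} (c0 : c ≠ 0) (c1 : c ≠ 1) :
    μ = 1 := by
  have five := p.five
  have hy : Og (ev ⟨2, by omega⟩ : Vn n F) := og_ev le_rfl (by simp; omega)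
  have h1 := two_fix x v h (Og.smul hy one_ne_zero) (Og.smul hy c0)
  rw [TT_add_smul, h.tt _ (Og.smul hy fun k => c1 (CharTwo.add_eq_zero.1 k).symm)] at h1
  exact mul_eq_left.1 h1

theorem small (x : FX n F) (v : BV e t) (h : Km e t w μ) (hF : ∀ c : F, c = 0 ∨ c = 1) :
    μ = 1 := by
  have five := p.five
  have seven : 7 ≤ n := by
    obtain ⟨m, hm⟩ := p.odd
    have : n ≠ 5 := fun k => by
      have h1 := p.four k
      have h2 := Nat.card_le_card_of_surjective (fun b : Bool => if b then (1 : F) else 0) fun c => by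
        rcases hF c with rfl | rfl
        exacts [⟨false, rfl⟩, ⟨true, rfl⟩]
      simp at h2
      omega
    omega
  have v1 := H54.SPF.v1 five
  let i2 : Fin (n + 1) := ⟨2, by omega⟩
  let i3 : Fin (n + 1) := ⟨3, by omega⟩
  have o2 : Og (ev i2 : Vn n F) := og_ev le_rfl (by simp [i2]; omega)
  have o3 : Og (ev i3 : Vn n F) := og_ev (by simp [i3]) (by simp [i3]; omega)
  have h32 : hf (ev i3 : Vn n F) (ev i2) = 0 := by
    rw [H54.SPF.hf_evv, if_neg (by simp [i2, i3]; omega)]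
  have o23 : Og (ev i2 + ev i3 : Vn n F) := ⟨⟨by rw [hf_add_left, o2.1.1, o3.1.1, add_zero],
    by rw [hf_add_left, o2.1.2, o3.1.2, add_zero]⟩, fun k => by
      simpa [ev_apply, i2, i3] using k i2 le_rfl⟩
  -- `w` fixes `e (TT m)`, `m ∈ ℓ`
  have fE : ∀ m y, Wk 2 m → Og y → w * e (EE m y 1) * w⁻¹ = e (EE m y 1) := fun m y hm hy => by
    rw [← TT_TT (Pl.wk x hy.1 hm)]
    exact two_fix x v h hy (Og.add x hy hm)
  have fT : ∀ m, Wk 2 m → w * e (TT m) * w⁻¹ = e (TT m) := fun m hm => by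
    have h1 : TT m = EE m (ev i2) 1 * EE m (ev i3) 1 * EE m (ev i2 + ev i3) 1 := by
      rw [EE_mul' (Pl.wk x o2.1 hm) (Pl.wk x o3.1 hm), EE_mul' (Pl.wk x o23.1 hm) (Pl.wk x o23.1 hm),
        v_add_self, h32, hf_self, CharTwo.add_self_eq_zero]
      simp
    rw [h1, map_mul, map_mul, ← conj_mul, ← conj_mul, fE _ _ hm o2, fE _ _ hm o3, fE _ _ hm o23]
  have fz : w * e (xa n F) * w⁻¹ = e (xa n F) := by
    rw [xa, qq_eq_TT (pp (hf_symm h01)), map_mul, map_mul, ← conj_mul, ← conj_mul,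
      fT _ (wk0 x), fT _ (wk1 x), fT _ ((x.wk _).2 ⟨1, 1, by simp⟩)]
  obtain ⟨a, ha⟩ : ∃ a : XU n F, a = qq (ev i3) (ev i2) := ⟨_, rfl⟩
  have fa : w * e a * w⁻¹ = e a * μ := by
    rw [ha, qq_eq_TT (pp (hf_symm h32)), mul_assoc (TT _), map_mul, ← conj_mul,
      two_fix x v h o2 o3, h.tt _ o23, mul_assoc,
      mu_comm x v h (mul_mem (TT_mem o2.1) (TT_mem o3.1)), mul_assoc]
  have val : ∀ i : Fin 4, (![0, 1, i2, i3] i : Fin (n + 1)).val = i.val := fun i => by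
    fin_cases i
    exacts [rfl, v1, rfl, rfl]
  have val' : ∀ i : Fin 4, (![i2, i3, 0, 1] i : Fin (n + 1)).val = (i.val + 2) % 4 := fun i => by
    fin_cases i
    exacts [rfl, rfl, Fin.val_zero _, v1]
  have lin : LinearIndependent F fun i => (ev (![0, 1, i2, i3] i) : Vn n F) :=
    H54.SPF.li_ev fun i j hij => Fin.ext (by rw [← val, hij, val])
  have lin' : LinearIndependent F fun i => (ev (![i2, i3, 0, 1] i) : Vn n F) :=
    H54.SPF.li_ev fun i j hij => Fin.ext (by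
      have := val' i
      rw [hij, val'] at this
      omega)
  have l23 : Li (ev i2 : Vn n F) (ev i3) := fun r s k =>
    ⟨by simpa [ev_apply, i2, i3] using congrFun k i2, by simpa [ev_apply, i2, i3] using congrFun k i3⟩
  have sa : Sr a := ⟨_, _, hf_symm h32, l23, ha⟩
  have aP : a ∈ P2 n F := ha ▸ ⟨ac_qq_fix h32 (hf_symm o2.1.1) (hf_symm o3.1.1),
    ac_qq_fix h32 (hf_symm o2.1.2) (hf_symm o3.1.2)⟩
  have za : xa n F * a = a * xa n F := by
    have := (x.cM ▸ aP : a ∈ Cs (Mk n F 2)) _ ((x.memM _).2 ⟨0, 1, fun _ _ => rfl, rfl⟩)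
    simpa [zs] using this
  have zz : xa n F * xa n F = 1 := EE_sq h01 0
  have aa : a * a = 1 := ha ▸ EE_sq h32 0
  have wt : w * t * w⁻¹ = t * e (xa n F) := by
    obtain ⟨c, c0, hc⟩ := h.mv
    rw [hc, (hF c).resolve_left c0, zs, one_smul]
  have nra := v.nr a (Or.inr (Or.inr (Or.inl sa)))
  obtain ⟨c, hc⟩ := h.mu
  rcases hF c with rfl | rfl <;> rcases hc with hc | hc <;>
    simp only [zs, zero_smul, one_smul, H86.SPI.qq_zero_left, map_one, mul_one] at hc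
  · exact hc
  · exact absurd ((v.sr a sa).trans (isConj_iff.2 ⟨w, by rw [fa, hc, v.cen]⟩).symm) nra
  · exfalso
    obtain ⟨r, hr⟩ := H54.SPF.witt _ _ lin lin' fun i j => by
      rw [H54.SPF.hf_evv, H54.SPF.hf_evv, val, val, val', val', if_neg (by omega), if_neg (by omega)]
    have r0 : ac r (ev 0) = ev i2 := hr 0
    have r1 : ac r (ev 1) = ev i3 := hr 1
    have r2 : ac r (ev i2) = ev 0 := hr 2
    have r3 : ac r (ev i3) = ev 1 := hr 3
    have rz : e r * e (xa n F) * (e r)⁻¹ = e a := by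
      rw [← map_inv, ← map_mul, ← map_mul, EE_conj' h01, r0, r1, ha]
    have ra : e r * e a * (e r)⁻¹ = e (xa n F) := by
      rw [← map_inv, ← map_mul, ← map_mul, ha, EE_conj' h32, r2, r3]
    have rb : e r * e (TT (ev 0)) * (e r)⁻¹ = e (TT (ev i2)) := by
      rw [← map_inv, ← map_mul, ← map_mul, TT_conj, r0]
    have rt : e r * t * (e r)⁻¹ = t := by rw [← v.cen, mul_inv_cancel_right]
    obtain ⟨w', hw'⟩ : ∃ w', w' = e r * w * (e r)⁻¹ := ⟨_, rfl⟩
    have key : ∀ g, w' * (e r * g * (e r)⁻¹) * w'⁻¹ = e r * (w * g * w⁻¹) * (e r)⁻¹ := fun g => by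
      rw [hw']; group
    have g1 := key t
    rw [rt, wt, ← conj_mul, rt, rz] at g1
    have g2 := key (e a)
    rw [ra, fa, hc, ← conj_mul, ra, rz] at g2
    have g3 := key (e (TT (ev 0)))
    rw [fT _ (wk0 x), rb] at g3
    have k1 : w⁻¹ * w' * w * t * (w⁻¹ * w' * w)⁻¹ = t := by
      calc _ = w⁻¹ * (w' * (w * t * w⁻¹) * w'⁻¹) * w := by group
        _ = w⁻¹ * (w * t * w⁻¹) * w := by
          rw [wt, ← conj_mul, g1, g2, mul_assoc t, ← map_mul, ← map_mul, za, ← mul_assoc a, aa,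
            one_mul]
        _ = t := by group
    obtain ⟨u', ⟨s, -, rfl⟩, hu⟩ := v.lr _ (TT (ev i2)) (mul_inv_eq_iff_eq_mul.1 k1)
      ⟨_, ev_ne _, rfl⟩
    have bz : xa n F * TT (ev i2) = TT (ev i2) * xa n F :=
      EE_fix (hf_zero_left _) 1 (ac_qq_fix h01 o2.1.1 o2.1.2) (ac_zero _)
    have k2 : w * e (TT (ev i2) * a * xa n F) * w⁻¹ = w * e (TT s) * w⁻¹ := by
      calc _ = w' * (w * e (TT (ev i2)) * w⁻¹) * w'⁻¹ := by
            rw [map_mul, map_mul, ← conj_mul, ← conj_mul, fz, fa, h.tt _ o2, hc, ← conj_mul, g2, g3,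
              mul_assoc, mul_assoc (e a), ← map_mul (f := e) (xa n F), zz, map_one, mul_one,
              mul_assoc]
        _ = _ := by rw [← hu]; group
    have k3 := v.inj (mul_left_cancel (mul_right_cancel k2))
    have ev' : ∀ f g : Vn n F, hf f (ev i2) = 0 → hf f (ev i3) = 0 → Wk 2 g →
        ac (xa n F) f = f + g → hf f s • s = g := fun f g f2 f3 hg hz => by
      have h1 := ac_TT s f
      have h2 : hf (f + g) (ev i2) = 0 := by rw [hf_add_left, f2, hf_symm (Pl.wk x o2.1 hg), add_zero]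
      have h3 : hf (f + g) (ev i3) = 0 := by rw [hf_add_left, f3, hf_symm (Pl.wk x o3.1 hg), add_zero]
      rw [← k3, ac_mul, ac_mul, hz, ha, ac_qq_fix h32 h2 h3, ac_Tc_fix 1 h2, add_right_inj] at h1
      exact h1.symm
    obtain ⟨f, hf0⟩ := H54.SPF.sep 4 _ lin ![1, 0, 0, 0]
    obtain ⟨f', hf1⟩ := H54.SPF.sep 4 _ lin ![0, 1, 0, 0]
    have e1 := ev' f (ev 1) (hf0 2) (hf0 3) (wk1 x) (by
      rw [xa, ac_qq' h01, show hf f (ev 0) = 1 from hf0 0, show hf f (ev 1) = 0 from hf0 1]; simp)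
    have e0 := ev' f' (ev 0) (hf1 2) (hf1 3) (wk0 x) (by
      rw [xa, ac_qq' h01, show hf f' (ev 0) = 0 from hf1 0, show hf f' (ev 1) = 1 from hf1 1]; simp)
    have := (l01 (hf f s) (hf f' s) (by
      rw [← e0, ← e1, smul_comm, v_add_self])).1
    rw [this, zero_smul] at e1
    exact ev_ne _ e1.symm
  · refine absurd ((v.sr a sa).trans (isConj_iff.2 ⟨w, ?_⟩)) nra
    rw [← conj_mul, wt, fa, hc, ← mul_assoc (e a), ← v.cen, mul_assoc t, mul_assoc t,
      ← mul_assoc (e _) t, ← v.cen, ← mul_assoc, ← mul_assoc, ← mul_assoc, v.tt, one_mul,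
      ← map_mul, ← map_mul, za, mul_assoc, zz, mul_one]

theorem jobP4 : JobP4.{u} := by
  intro n F _ _ _ _ _ p G _ _ e t b c x z v w μ h
  have hμ : μ = 1 := by
    by_cases hF : ∀ c : F, c = 0 ∨ c = 1
    · exact small x v h hF
    · simp only [not_forall, not_or] at hF
      obtain ⟨c, c0, c1⟩ := hF
      exact big x v h c0 c1
  have h1 := z.gen ((Cz w).comap e) fun y hy => by
    have := h.tt y hy
    rw [hμ, mul_one, mul_inv_eq_iff_eq_mul] at this
    exact H64.SG.mem_Cz.2 this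
  obtain ⟨d, d0, hd⟩ := h.mv
  obtain ⟨r, r0, r1, -⟩ := x.lev d⁻¹ 0 0 1 (by simpa using d0)
  simp only [zero_smul, add_zero, zero_add, one_smul] at r0 r1
  refine ⟨e r * w * (e r)⁻¹, fun q hq => ?_, ?_⟩
  · have h2 : r⁻¹ * q * r ∈ P2 n F :=
      ⟨mem_Stab.2 (by rw [ac_mul, ac_mul, r0, ac_smul, show ac q (ev 0) = ev 0 from hq.1, ← r0,
        ac_inv_ac]), mem_Stab.2 (by rw [ac_mul, ac_mul, r1, show ac q (ev 1) = ev 1 from hq.2,
        ← r1, ac_inv_ac, r1])⟩
    have h3 := H64.SG.mem_Cz.1 (h1 h2)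
    simp only [map_mul, map_inv] at h3
    calc _ = e r * (w * ((e r)⁻¹ * e q * e r)) * (e r)⁻¹ := by group
      _ = _ := by rw [h3]; group
  · have rt : (e r)⁻¹ * t * e r = t := by rw [mul_assoc, v.cen, inv_mul_cancel_left]
    calc _ = e r * (w * ((e r)⁻¹ * t * e r) * w⁻¹) * (e r)⁻¹ := by group
      _ = t * e (r * zs d * r⁻¹) := by
        rw [rt, hd, ← mul_assoc, ← v.cen, map_mul, map_mul, map_inv]; group
      _ = _ := by
        rw [EE_conj' (zs_p d), r0, ac_smul, r1, ← qq, ← qq_smul', inv_smul_smul₀ d0]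

end H76.S2P4
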