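import Cfsg.Agent.H82.TPSpec

/-! TP tower (blueprints/TP.md): Sylow 2-subgroups of a subgroup of type E; job EB2. -/

set_option autoImplicit false
set_option linter.unusedSectionVars false

namespace H76.TP

open MulAction Cfsg Subgroup H89.K H98 H82.TP

universe u v

variable {G : Type u} [Group G] [Finite G] {H T : Subgroup G} {q p : ℕ}

theorem ord2 {x : G} (h : x * x = 1) (h1 : x ≠ 1) : orderOf x = 2 :=
  have := Fact.mk Nat.prime_two
  orderOf_eq_prime (by rwa [pow_two]) h1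

theorem sq2 {x : G} (h : orderOf x = 2) : x * x = 1 := by rw [← pow_two, ← h, pow_orderOf_eq_one]

theorem ne2 {x : G} (h : orderOf x = 2) : x ≠ 1 := by
  rintro rfl; rw [orderOf_one] at h; omega

theorem inv2 {x : G} (h : x * x = 1) : x⁻¹ = x := inv_eq_of_mul_eq_one_right h

theorem mem_c {g x : G} : g ∈ centralizer ({x} : Set G) ↔ g * x = x * g := mem_centralizer_singleton_iff

theorem conj_iff {A : Subgroup G} {g x : G} (hg : g ∈ normalizer (A : Set G)) :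
    g * x * g⁻¹ ∈ A ↔ x ∈ A := (mem_normalizer_iff.1 hg x).symm

theorem mem_nor {A : Subgroup G} {g : G} (h : ∀ x ∈ A, g * x * g⁻¹ ∈ A) : g ∈ normalizer (A : Set G) :=
  mem_normalizer_fintype h

theorem pg_of_sq {A : Subgroup G} (h : ∀ x ∈ A, x * x = 1) : IsPGroup 2 A :=
  isPGroup_iff_forall.2 fun x hx => ⟨1, by rw [pow_one, pow_two, h x hx]⟩

theorem te_cen (h : TE H q) {t g : G} (ht : t ∈ H) (hg : g ∈ H) (o : orderOf t = 2) (e : g * t = t * g) :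
    g * g = 1 :=
  congrArg Subtype.val (h.cen ⟨t, ht⟩ ⟨g, hg⟩ ((orderOf_mk t ht).trans o) (Subtype.ext e))

theorem te_cardc (h : TE H q) {t : G} (ht : t ∈ H) (o : orderOf t = 2) :
    Nat.card ↥(H ⊓ centralizer ({t} : Set G)) = q := by
  rw [← h.cardc ⟨t, ht⟩ ((orderOf_mk t ht).trans o), ← card_map_of_injective H.subtype_injective]
  congr 2
  ext g
  exact ⟨fun hg => ⟨⟨g, hg.1⟩, mem_c.2 (Subtype.ext (mem_c.1 hg.2)), rfl⟩, by
    rintro ⟨g, hg, rfl⟩; exact ⟨g.2, mem_c.2 (congrArg Subtype.val (mem_c.1 hg))⟩⟩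

theorem te_syl (h : TE H q) (hT : IsSyl 2 T H) : (∀ x ∈ T, x * x = 1) ∧ Nat.card T = q := by
  have := Fact.mk Nat.prime_two
  obtain ⟨r, hr, e⟩ := h.pow
  have n : Nontrivial T := (nontrivial_iff_ne_bot T).2 fun x => hT.eq_bot_iff.1 x (by
    rw [h.card, e]; exact Dvd.dvd.mul_right (dvd_pow_self 2 (by omega)) _)
  have := hT.isPGroup.center_nontrivial
  obtain ⟨t, o⟩ := exists_prime_orderOf_dvd_card' (G := center T) 2
    ((hT.isPGroup.to_subgroup _).card_eq_or_dvd.resolve_left Finite.one_lt_card.ne')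
  rw [← orderOf_coe, ← orderOf_coe] at o
  have m := hT.le t.1.2
  have sq : ∀ x ∈ H ⊓ centralizer ({(t.1 : G)} : Set G), x * x = 1 := fun x hx =>
    te_cen h m hx.1 o (mem_c.1 hx.2)
  have e := hT.eq_of_le (pg_of_sq sq) (fun x hx => ⟨hT.le hx, mem_c.2
    (congrArg Subtype.val (mem_center_iff.1 t.2 ⟨x, hx⟩))⟩) inf_le_left
  exact ⟨e ▸ sq, e ▸ te_cardc h m o⟩

theorem comm_of_sq {A : Subgroup G} (h : ∀ x ∈ A, x * x = 1) {x y : G} (hx : x ∈ A) (hy : y ∈ A) :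
    x * y = y * x := by
  rw [← inv2 (h _ (mul_mem hx hy)), mul_inv_rev, inv2 (h x hx), inv2 (h y hy)]

theorem te_cen_eq (h : TE H q) (hT : IsSyl 2 T H) {u g : G} (hu : u ∈ T) (u1 : u ≠ 1) (hg : g ∈ H)
    (e : g * u = u * g) : g ∈ T := by
  have sq := (te_syl h hT).1
  have := hT.eq_of_le (Q := H ⊓ centralizer {u})
    (pg_of_sq fun x hx => te_cen h (hT.le hu) hx.1 (ord2 (sq u hu) u1) (mem_c.1 hx.2))
    (fun x hx => ⟨hT.le hx, mem_c.2 (comm_of_sq sq hx hu)⟩) inf_le_left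
  exact this.le ⟨hg, mem_c.2 e⟩

/-- the map `u ↦ [g, u]` on an elementary abelian group -/
def cm (sq : ∀ x ∈ T, x * x = 1) {g : G} (hg : g ∈ normalizer (T : Set G)) : T →* G :=
  MonoidHom.mk' (fun u => g * u * g⁻¹ * (u : G)⁻¹) fun a b => by
    have := comm_of_sq sq (mul_mem ((conj_iff hg).2 b.2) (inv_mem b.2)) (inv_mem a.2)
    calc g * (a * b) * g⁻¹ * ((a : G) * b)⁻¹ = g * a * g⁻¹ * (g * b * g⁻¹ * (b : G)⁻¹ * (a : G)⁻¹) := by
          group
      _ = _ := by rw [this]; group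

theorem cm_mem (sq : ∀ x ∈ T, x * x = 1) {g u : G} (hg : g ∈ normalizer (T : Set G)) (gg : g * g ∈ T)
    (hu : u ∈ T) : g * u * g⁻¹ * u⁻¹ ∈ T ⊓ centralizer ({g} : Set G) := by
  have m := mul_mem ((conj_iff hg).2 hu) (inv_mem hu)
  refine ⟨m, mem_c.2 (mul_inv_eq_iff_eq_mul.1 ?_).symm⟩
  nth_rw 2 [← inv2 (sq _ m)]
  calc _ = g * g * u * (g * g)⁻¹ * (g * u⁻¹ * g⁻¹) := by group
    _ = _ := by rw [← comm_of_sq sq hu gg]; group

theorem cm_card (sq : ∀ x ∈ T, x * x = 1) {g : G} (hg : g ∈ normalizer (T : Set G)) :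
    Nat.card ↥(T ⊓ centralizer ({g} : Set G)) * Nat.card (cm sq hg).range = Nat.card T := by
  rw [← index_ker, ← (cm sq hg).ker.card_mul_index, ← card_map_of_injective T.subtype_injective]
  congr 3
  ext x
  refine ⟨fun hx => ⟨⟨x, hx.1⟩, ?_, rfl⟩, ?_⟩
  · show g * x * g⁻¹ * x⁻¹ = 1
    rw [← mem_c.1 hx.2]; group
  · rintro ⟨x, hx, rfl⟩
    exact ⟨x.2, mem_c.2 (mul_inv_eq_iff_eq_mul.1 (mul_inv_eq_one.1 hx)).symm⟩

theorem exists_cm (sq : ∀ x ∈ T, x * x = 1) {g : G} (hg : g ∈ normalizer (T : Set G)) (gg : g * g ∈ T)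
    (c1 : Nat.card T = p ^ 2) (c2 : Nat.card ↥(T ⊓ centralizer ({g} : Set G)) = p) {k : G}
    (hk : k ∈ T ⊓ centralizer ({g} : Set G)) : ∃ u ∈ T, g * u * g⁻¹ * u⁻¹ = k := by
  have h1 := cm_card sq hg
  have p0 : 0 < p := c2 ▸ Nat.card_pos
  rw [c1, c2, pow_two] at h1
  obtain ⟨u, e⟩ := (eq_of_le_of_card_ge (H := (cm sq hg).range)
    (by rintro _ ⟨u, rfl⟩; exact cm_mem sq hg gg u.2)
    (by rw [c2, Nat.eq_of_mul_eq_mul_left p0 h1])).ge hk
  exact ⟨u, u.2, e⟩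

theorem card_adj {B : Subgroup G} {e : G} (he : e ∈ centralizer (B : Set G)) (ee : e * e = 1)
    (hn : e ∉ B) : (∀ x, x ∈ B ⊔ zpowers e ↔ x ∈ B ∨ x * e ∈ B) ∧
      Nat.card ↥(B ⊔ zpowers e) = 2 * Nat.card B := by
  have mz : ∀ y ∈ zpowers e, y = 1 ∨ y = e := by
    rintro _ ⟨n, rfl⟩
    rcases Int.even_or_odd' n with ⟨k, rfl | rfl⟩
    · left; show e ^ (2 * k) = 1; rw [zpow_mul, zpow_two, ee, one_zpow]
    · right; show e ^ (2 * k + 1) = e; rw [zpow_add_one, zpow_mul, zpow_two, ee, one_zpow, one_mul]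
  have hm : ∀ x, x ∈ B ⊔ zpowers e ↔ x ∈ B ∨ x * e ∈ B := fun x => ⟨fun hx => by
    obtain ⟨b, hb, y, hy, rfl⟩ :=
      (mem_sup_right_norm (zpowers_le.2 (centralizer_le_normalizer _ he))).1 hx
    rcases mz y hy with rfl | rfl
    · exact Or.inl (by simpa using hb)
    · exact Or.inr (by rwa [mul_assoc, ee, mul_one]), fun hx => hx.elim mem_sup_left fun hx =>
      (mul_mem_cancel_right (mem_sup_right (mem_zpowers e))).1 (mem_sup_left hx)⟩
  refine ⟨hm, ?_⟩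
  have h1 : B.relIndex (B ⊔ zpowers e) = 2 := by
    rw [relIndex_eq_two_iff_exists_notMem_and]
    exact ⟨e, mem_sup_right (mem_zpowers e), hn, fun b hb => ((hm b).1 hb).symm⟩
  rw [← h1, ← Nat.card_congr (subgroupOfEquivOfLe (le_sup_left : B ≤ B ⊔ zpowers e)).toEquiv,
    mul_comm, relIndex, card_mul_index]

theorem exists_step {A Q : Subgroup G} (hQ : IsPGroup 2 Q) (h : A < Q) :
    ∃ x ∈ Q, x ∈ normalizer (A : Set G) ∧ x ∉ A ∧ x * x ∈ A := by
  have := Fact.mk Nat.prime_two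
  obtain ⟨x, hx, hxA⟩ := SetLike.exists_of_lt (lt_inf_normalizer hQ h)
  obtain ⟨k, hk⟩ := isPGroup_iff_forall.1 hQ x hx.1
  have h0 : x ^ 2 ^ k ∈ A := hk ▸ one_mem _
  clear hk
  induction k with
  | zero => exact absurd (by simpa using h0) hxA
  | succ k ih =>
    by_cases h1 : x ^ 2 ^ k ∈ A
    · exact ih h1
    · exact ⟨_, pow_mem hx.1 _, pow_mem hx.2 _, h1, by rwa [← pow_add, ← two_mul, ← pow_succ']⟩

theorem syl_cj {Ω : Type v} [MulAction G Ω] {a b : Ω} (hT : IsSyl 2 T (St G a b)) (g : G) :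
    IsSyl 2 (cj g T) (St G (g • a) (g • b)) := St_smul g a b ▸ hT.cj g

set_option maxHeartbeats 1600000 in
theorem jobEB2 : JobEB2.{u, v} := by
  intro G Ω _ _ _ q p h h1
  have := Fact.mk Nat.prime_two
  obtain ⟨a, b, hab⟩ := h.t2.nontrivial
  obtain ⟨T, hT⟩ := exists_isSyl 2 (St G a b)
  obtain ⟨sq, cT⟩ := te_syl (h.te a b hab) hT
  have p4 : 2 < p := by
    obtain ⟨r, hr, e⟩ := (h.te a b hab).pow
    have : 2 ^ 3 ≤ 2 ^ r := Nat.pow_le_pow_right (by norm_num) hr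
    have := h.sq
    by_contra! x
    nlinarith
  obtain ⟨w, ow, wa, wN, tr⟩ := h.ex a b T hab hT
  have ww := sq2 ow
  have wT : w ∉ T := fun x => hab ((hT.le x).1.symm.trans wa)
  have c0 := h1.card a b T w hab hT wN wT (ww ▸ one_mem _)
  set T0 := T ⊓ centralizer ({w} : Set G)
  have wc : w ∈ centralizer (T0 : Set G) := fun x hx => mem_c.1 hx.2
  obtain ⟨mU, cU⟩ := card_adj wc ww fun x => wT x.1
  rw [c0] at cU
  set U := T0 ⊔ zpowers w
  have wU : w ∈ U := mem_sup_right (mem_zpowers w)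
  have sU : ∀ x ∈ U, x * x = 1 := fun x hx => ((mU x).1 hx).elim (fun k => sq x k.1) fun k => by
    have k1 := sq _ k.1
    have k2 : x * w = w * x := mul_right_cancel ((mem_c.1 k.2).trans (mul_assoc _ _ _).symm)
    rwa [mul_assoc, ← mul_assoc w, ← k2, mul_assoc x w, ww, mul_one] at k1
  have tr' : ∀ u ∈ T0, ∀ u' ∈ T0, u ≠ 1 → u' ≠ 1 → ∃ g ∈ normalizer (U : Set G), g * w * g⁻¹ = w ∧
      g * u * g⁻¹ = u' := fun u hu u' hu' n n' => by
    obtain ⟨g, g1, g2, g3⟩ := tr u hu.1 u' hu'.1 n n' (mem_c.1 hu.2) (mem_c.1 hu'.2)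
    have g4 : g ∈ centralizer ({w} : Set G) := mem_c.2 g2
    exact ⟨g, le_normalizer_sup (H := zpowers g) (le_normalizer_inf (zpowers_le.2 g1)
      (le_normalizer_of_le (zpowers_le.2 g4))) (le_normalizer_of_le_centralizer (zpowers_le.2 (by
        rintro _ ⟨n, rfl⟩; exact ((show Commute w g from g2.symm).zpow_left n).eq))) (mem_zpowers g),
      mul_inv_eq_of_eq_mul g2, g3⟩
  have two : ∀ {A : Subgroup G}, 2 < Nat.card A → ∀ x : G, ∃ y ∈ A, y ≠ 1 ∧ y ≠ x := fun {A} k x => by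
    have := Fintype.ofFinite A
    obtain ⟨y1, y2, y3, n1, n2, n3⟩ := Fintype.two_lt_card_iff.1 (Nat.card_eq_fintype_card (α := A) ▸ k)
    by_contra! n
    have e : ∀ y : A, (y : G) = 1 ∨ (y : G) = x := fun y => or_iff_not_imp_left.2 (n y y.2)
    rw [Ne, Subtype.ext_iff] at n1 n2 n3
    rcases e y1 with a | a <;> rcases e y2 with b | b <;> rcases e y3 with c | c <;> simp_all
  obtain ⟨t, ht, t1, -⟩ := two (c0 ▸ p4) 1
  obtain ⟨S, hS, US⟩ := exists_isSyl_le (p := 2) (H := centralizer {w}) (pg_of_sq sU)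
    fun x hx => mem_c.2 (comm_of_sq sU hx wU)
  obtain ⟨k, kt, kS⟩ : ∃ k, k * t * k⁻¹ = w ∧ cj k (T ⊔ zpowers w) ≤ S := by
    obtain ⟨g, e⟩ := isConj_iff.1 (h.one t w (ord2 (sq t ht.1) t1) ow)
    obtain ⟨k, hk, e'⟩ := hS.exists_cj_le (Q := cj g (T ⊔ zpowers w)) (isPGroup_cj g
      (hT.isPGroup.to_sup_of_normal_left' (isPGroup_zpowers (k := 1) (by simpa [pow_two] using ww))
        (zpowers_le.2 wN))) (by
      rintro _ ⟨x, hx, rfl⟩
      have : x ∈ centralizer ({t} : Set G) := (sup_le (fun y hy => mem_c.2 (comm_of_sq sq hy ht.1))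
        (zpowers_le.2 (mem_c.2 (mem_c.1 ht.2).symm)) : T ⊔ zpowers w ≤ _) hx
      exact mem_c.2 (e ▸ (show Commute x t from mem_c.1 this).map (MulAut.conj g)))
    exact ⟨k * g, by rw [← mul_inv_eq_of_eq_mul (mem_c.1 hk), ← e]; group, by rwa [← cj_cj]⟩
  have hcd : k • a ≠ k • b := mt (smul_left_cancel k) hab
  have hT' := syl_cj hT k
  obtain ⟨sq', cT'⟩ := te_syl (h.te _ _ hcd) hT'
  have TS : cj k T ≤ S := (cj_mono k le_sup_left).trans kS
  have SN := h1.norm _ _ _ S hcd hT' hS.isPGroup TS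
  have wT' : w ∈ cj k T := kt ▸ conj_mem_cj ht.1
  have w0S : k * w * k⁻¹ ∈ S := kS (conj_mem_cj (mem_sup_right (mem_zpowers w)))
  have w0T : k * w * k⁻¹ ∉ cj k T := mt conj_mem_cj_iff.1 wT
  have w0w : k * w * k⁻¹ * (k * w * k⁻¹) = 1 := by rw [conj_mul, ww]; group
  have cd := fun g a b c => h1.card _ _ _ g hcd hT' a b c
  generalize cj k T = T' at *
  generalize k * w * k⁻¹ = w0 at *
  by_cases UT : U ≤ T'
  · have big : ∀ g ∈ normalizer (T' : Set G), g ∉ T' → g * g ∈ T' → ¬ U ≤ centralizer {g} :=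
      fun g a b c d => by have := card_le_of_le (le_inf UT d); rw [cd g a b c, cU] at this; omega
    have sy : IsSyl 2 T' (centralizer (U : Set G)) :=
      ⟨fun x hx y hy => comm_of_sq sq' (UT hy) hx, hT'.isPGroup, fun Q hQ a b => by
        by_contra n
        obtain ⟨g, g1, g2, g3, g4⟩ := exists_step hQ (lt_of_le_of_ne a (Ne.symm n))
        exact big g g2 g3 g4 fun x hx => mem_c.2 (b g1 x hx)⟩
    have eqv : ∀ u ∈ T0, ∀ u' ∈ T0, u ≠ 1 → u' ≠ 1 → ∃ n : G, n * w * n⁻¹ = w ∧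
        w0 * u' * w0⁻¹ * u'⁻¹ = n * (w0 * u * w0⁻¹ * u⁻¹) * n⁻¹ := fun u hu u' hu' n n' => by
      obtain ⟨g, g1, g2, g3⟩ := tr' u hu u' hu' n n'
      obtain ⟨x, hx, y, hy, rfl⟩ := sy.frattini_mem (normalizer_le_normalizer_centralizer U g1)
      have act : ∀ e ∈ U, x * y * e * (x * y)⁻¹ = x * e * x⁻¹ := fun e he => by
        rw [mul_assoc x, ← hy e he]; group
      rw [act w wU] at g2
      rw [act u (mem_sup_left hu)] at g3
      refine ⟨x, g2, ?_⟩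
      rw [h1.same _ _ T' w w0 (x * w0 * x⁻¹) hcd hT' wT' (ne2 ow) (SN w0S)
        (mul_mem (mul_mem hx (SN w0S)) (inv_mem hx)) w0T (mt (conj_iff hx).1 w0T) (w0w ▸ one_mem _)
        (by rw [conj_mul, w0w]; simp) (mem_c.1 (hS.le w0S))
        (g2 ▸ (show Commute w0 w from mem_c.1 (hS.le w0S)).map (MulAut.conj x)) u'
        (UT (mem_sup_left hu')), ← g3]
      group
    obtain ⟨u0, hu0, n0⟩ : ∃ u ∈ T0, w0 * u * w0⁻¹ * u⁻¹ ≠ 1 := by
      by_contra! n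
      exact big w0 (SN w0S) w0T (w0w ▸ one_mem _) (sup_le (fun x hx => mem_c.2
        (mul_inv_eq_iff_eq_mul.1 (mul_inv_eq_one.1 (n x hx))).symm)
        (zpowers_le.2 (mem_c.2 (mem_c.1 (hS.le w0S)).symm)))
    let f : T0 → ↥(T' ⊓ centralizer ({w0} : Set G)) := fun u =>
      ⟨_, cm_mem sq' (SN w0S) (w0w ▸ one_mem _) (UT (mem_sup_left u.2))⟩
    have fi : Function.Injective f := fun x y e => by
      have e' : w0 * x * w0⁻¹ * (x : G)⁻¹ = w0 * y * w0⁻¹ * (y : G)⁻¹ := congrArg Subtype.val e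
      by_contra n
      obtain ⟨m, -, e2⟩ := eqv u0 hu0 _ (y⁻¹ * x).2 (by rintro rfl; exact n0 (by group))
        fun k => n (inv_mul_eq_one.1 (Subtype.ext k)).symm
      refine n0 (conj_eq_one_iff.1 (e2.symm.trans ?_))
      calc _ = w0 * (y : G)⁻¹ * w0⁻¹ * (w0 * x * w0⁻¹ * (x : G)⁻¹) * y := by
            simp only [coe_mul, coe_inv]; group
        _ = 1 := by rw [e']; group
    obtain ⟨u1, e1⟩ := ((Nat.bijective_iff_injective_and_card f).2 ⟨fi, c0.trans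
      (cd w0 (SN w0S) w0T (w0w ▸ one_mem _)).symm⟩).2 ⟨w, wT', mem_c.2 (mem_c.1 (hS.le w0S)).symm⟩
    have e1' : w0 * u1 * w0⁻¹ * (u1 : G)⁻¹ = w := congrArg Subtype.val e1
    obtain ⟨u2, hu2, n1, n2⟩ := two (c0 ▸ p4) u1
    obtain ⟨m, e2, e3⟩ := eqv u1 u1.2 u2 hu2 (fun x => ne2 ow (by rw [← e1', x]; group)) n1
    rw [e1', e2] at e3
    exact n2 (congrArg Subtype.val (fi (a₁ := ⟨u2, hu2⟩) (Subtype.ext (e3.trans e1'.symm))))
  · obtain ⟨w1, hw1, w1T⟩ : ∃ u ∈ T0, u ∉ T' := by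
      by_contra! n
      exact UT (sup_le n (zpowers_le.2 wT'))
    have w1U : w1 ∈ U := mem_sup_left hw1
    have w11 := sU w1 w1U
    have un : ∀ x ∈ U, x ∉ T' → x * w1 ∈ T' := fun x hx n => h1.uniq _ _ T' S x w1 hcd hT' hS.isPGroup
      TS (US hx) (US w1U) n w1T (sU x hx ▸ one_mem _) (w11 ▸ one_mem _)
    obtain ⟨u, hu, eu⟩ := exists_cm sq' (SN (US w1U)) (w11 ▸ one_mem _) (cT'.trans h.sq)
      (cd w1 (SN (US w1U)) w1T (w11 ▸ one_mem _)) ⟨wT', mem_c.2 (comm_of_sq sU wU w1U)⟩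
    have act : ∀ e ∈ U, e ∉ T' → u * e * u⁻¹ = e * w := fun e he n => by
      calc _ = u * (e * w1) * u⁻¹ * ((w1 * u * w1⁻¹ * u⁻¹)⁻¹ * w1) := by
            nth_rw 1 [← mul_one e, ← w11]; group
        _ = _ := by
            rw [comm_of_sq sq' hu (un e he n), eu, inv2 ww, comm_of_sq sU wU w1U,
              mul_inv_cancel_right, mul_assoc, ← mul_assoc w1, w11, one_mul]
    obtain ⟨u1, hu1, n1, u1T⟩ : ∃ y ∈ T0, y ≠ 1 ∧ y ∈ T' := by
      obtain ⟨y, hy, n1, n2⟩ := two (c0 ▸ p4) w1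
      by_cases yT : y ∈ T'
      · exact ⟨y, hy, n1, yT⟩
      · exact ⟨_, mul_mem hy hw1, fun x => n2 ((eq_inv_of_mul_eq_one_left x).trans (inv2 w11)),
          un y (mem_sup_left hy) yT⟩
    obtain ⟨g, g1, g2, g3⟩ := tr' w1 hw1 u1 hu1 (fun x => w1T (x ▸ one_mem _)) n1
    have nB : g * u * g⁻¹ ∈ normalizer ((U ⊓ T' : Subgroup G) : Set G) := mem_nor fun e he => by
      obtain ⟨e, rfl⟩ := (MulAut.conj g).surjective e
      have eU := (conj_iff g1).1 he.1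
      rw [show g * u * g⁻¹ * MulAut.conj g e * (g * u * g⁻¹)⁻¹ = MulAut.conj g (u * e * u⁻¹) by
        simp only [MulAut.conj_apply]; group]
      by_cases eT : e ∈ T'
      · rwa [comm_of_sq sq' hu eT, mul_inv_cancel_right]
      · rw [act e eU eT, map_mul, MulAut.conj_apply g w, g2]
        exact mul_mem he ⟨wU, wT'⟩
    have cB : T' ⊔ zpowers w1 ≤ centralizer ((U ⊓ T' : Subgroup G) : Set G) :=
      sup_le (fun x hx y hy => comm_of_sq sq' hy.2 hx)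
        (zpowers_le.2 fun y hy => comm_of_sq sU hy.1 w1U)
    obtain ⟨Q, hQ, TQ⟩ := exists_isSyl_le (hS.isPGroup.to_le (sup_le TS (zpowers_le.2 (US w1U))))
      (cB.trans (centralizer_le_normalizer _))
    have uu : ∀ x : G, x * u * x⁻¹ * (x * u * x⁻¹) = 1 := fun x => by rw [conj_mul, sq' u hu]; group
    obtain ⟨m, hm, e⟩ := hQ.exists_cj_le (isPGroup_zpowers (k := 1)
      (by rw [pow_one, pow_two, uu])) (zpowers_le.2 nB)
    have xQ := e (conj_mem_cj (mem_zpowers _))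
    have xc : m * (g * u * g⁻¹) * m⁻¹ ∈ centralizer ((U ⊓ T' : Subgroup G) : Set G) := by
      by_cases xT : m * (g * u * g⁻¹) * m⁻¹ ∈ T'
      · exact cB (mem_sup_left xT)
      · exact (mul_mem_cancel_right (cB (mem_sup_right (mem_zpowers w1)))).1 (cB (mem_sup_left
          (h1.uniq _ _ T' Q _ w1 hcd hT' hQ.isPGroup (le_sup_left.trans TQ) xQ
            (TQ (mem_sup_right (mem_zpowers w1))) xT w1T (by rw [conj_mul, uu]; simp)
            (w11 ▸ one_mem _))))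
    have e2 := (conj_iff (normalizer_le_normalizer_centralizer _ hm)).1 xc u1 ⟨mem_sup_left hu1, u1T⟩
    rw [← g3, conj_mul, conj_mul, mul_left_inj, mul_right_inj, ← eq_mul_inv_iff_mul_eq,
      act w1 w1U w1T] at e2
    exact ne2 ow (mul_eq_left.1 e2.symm)

end H76.TP
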