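import Cfsg.Agent.H76.TPE
import Cfsg.Agent.H82.TPKit

/-! TP tower (blueprints/TP.md): job EB0. -/

set_option autoImplicit false
set_option linter.unusedSectionVars false

namespace H76.TP

open MulAction Cfsg Subgroup H89.K H98 H82.TP

universe u v

variable {G : Type u} [Group G] [Finite G] {H T T' : Subgroup G} {q p : ℕ}

theorem ncard_ne (A : Subgroup G) : {x | x ∈ A ∧ x ≠ 1}.ncard + 1 = Nat.card A := by
  rw [← SetLike.coe_sort_coe, Nat.card_coe_set_eq,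
    ← Set.ncard_sdiff_singleton_add_one (s := (A : Set G)) A.one_mem]
  rfl

section Loc

variable (h : TE H q) (hT : IsSyl 2 T H)
include h hT

theorem q_even : ∃ k, q = 2 * k ∧ 4 ≤ k := by
  obtain ⟨r, hr, e⟩ := h.pow
  obtain ⟨s, rfl⟩ := Nat.exists_eq_add_of_le hr
  exact ⟨4 * 2 ^ s, by rw [e, pow_add]; ring, Nat.le_mul_of_pos_right _ (by positivity)⟩

theorem orb_card {S : Subgroup G} (hS : S ≤ H) (hd : ∀ s ∈ S, s ∈ T → s = 1) {u : G} (hu : u ∈ T)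
    (u1 : u ≠ 1) : ((fun s => s * u * s⁻¹) '' (S : Set G)).ncard = Nat.card S := by
  rw [Set.InjOn.ncard_image, ← SetLike.coe_sort_coe, Nat.card_coe_set_eq]
  intro s hs t ht e
  have m := mul_mem (inv_mem ht) hs
  refine (inv_mul_eq_one.1 (hd _ m (te_cen_eq h hT hu u1 (hS m) ?_))).symm
  calc t⁻¹ * s * u = t⁻¹ * (s * u * s⁻¹) * s := by group
    _ = _ := by rw [show s * u * s⁻¹ = t * u * t⁻¹ from e]; group

theorem exists_ne : ∃ u ∈ T, u ≠ 1 := by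
  obtain ⟨k, e, hk⟩ := q_even h hT
  have := ncard_ne T
  rw [(te_syl h hT).2] at this
  exact Set.nonempty_of_ncard_ne_zero (s := {x | x ∈ T ∧ x ≠ 1}) (by omega)

theorem psi_ker {n : normalizer (T : Set G)} (hn : (n : G) ∈ H) :
    T.normalizerMonoidHom n = 1 ↔ (n : G) ∈ T := by
  rw [← MonoidHom.mem_ker, normalizerMonoidHom_ker]
  obtain ⟨u, hu, u1⟩ := exists_ne h hT
  exact ⟨fun e => te_cen_eq h hT hu u1 hn (e u hu).symm,
    fun e x hx => comm_of_sq (te_syl h hT).1 hx e⟩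

/-- trivial intersection -/
theorem ti {g x : G} (hg : g ∈ normalizer (H : Set G)) (hx : x ∈ T) (x1 : x ≠ 1)
    (e : g * x * g⁻¹ ∈ T) : g ∈ normalizer (T : Set G) := mem_nor fun y hy =>
  te_cen_eq h hT e (mt conj_eq_one_iff.1 x1) ((conj_iff hg).2 (hT.le hy))
    ((show Commute y x from comm_of_sq (te_syl h hT).1 hy hx).map (MulAut.conj g))

theorem nt (hT' : IsSyl 2 T' H) (n : T ≠ T') {t : G} (ht : t ∈ T) (e : t ∈ normalizer (T' : Set G)) :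
    t = 1 := by
  by_contra t1
  have := hT'.le_of_le_normalizer' (hT.isPGroup.to_le (zpowers_le.2 ht)) (zpowers_le.2 (hT.le ht))
    (zpowers_le.2 e) (mem_zpowers t)
  exact n (hT.eq_of_le hT'.isPGroup (fun x hx => te_cen_eq h hT' this t1 (hT.le hx)
    (comm_of_sq (te_syl h hT).1 hx ht)) hT'.le).symm

theorem par_inj (hT' : IsSyl 2 T' H) (n : T ≠ T') {t x s y : G} (ht : t ∈ T) (hx : x ∈ T') (x1 : x ≠ 1)
    (hs : s ∈ T) (hy : y ∈ T') (e : t * x * t⁻¹ = s * y * s⁻¹) : t = s ∧ x = y := by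
  have m := mul_mem (inv_mem hs) ht
  have := inv_mul_eq_one.1 (nt h hT hT' n m (ti h hT' (le_normalizer (hT.le m)) hx x1 (by
    rw [show s⁻¹ * t * x * (s⁻¹ * t)⁻¹ = s⁻¹ * (t * x * t⁻¹) * s by group, e]; simpa [mul_assoc])))
  subst this
  exact ⟨rfl, by simpa using e⟩

theorem par_out (hT' : IsSyl 2 T' H) (n : T ≠ T') {t x : G} (ht : t ∈ T) (hx : x ∈ T') (x1 : x ≠ 1) :
    t * x * t⁻¹ ∉ T := fun e =>
  x1 (nt h hT hT' n ((conj_iff (le_normalizer ht)).1 e) (le_normalizer hx))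

theorem par_surj (hT' : IsSyl 2 T' H) (n : T ≠ T') {y : G} (hy : y ∈ H) (o : orderOf y = 2)
    (yT : y ∉ T) : ∃ t ∈ T, ∃ x ∈ T', x ≠ 1 ∧ t * x * t⁻¹ = y := by
  obtain ⟨sq, c⟩ := te_syl h hT
  obtain ⟨sq', c'⟩ := te_syl h hT'
  let A := {x | x ∈ T ∧ x ≠ 1} ∪ (fun z : G × G => z.1 * z.2 * z.1⁻¹) '' ((T : Set G) ×ˢ {x | x ∈ T' ∧ x ≠ 1})
  have e : A = {u : G | orderOf u = 2 ∧ u ∈ H} := Set.eq_of_subset_of_ncard_le (by
      rintro _ (⟨a, b⟩ | ⟨⟨t, x⟩, ⟨ht, hx, x1⟩, rfl⟩)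
      · exact ⟨ord2 (sq _ a) b, hT.le a⟩
      · exact ⟨(ord_conj t).trans (ord2 (sq' x hx) x1),
          mul_mem (mul_mem (hT.le ht) (hT'.le hx)) (inv_mem (hT.le ht))⟩) (by
      rw [← nI_eq, h.nI_eq, Set.ncard_union_eq (Set.disjoint_left.2 (by
        rintro _ ⟨a, -⟩ ⟨⟨t, x⟩, ⟨ht, hx, x1⟩, rfl⟩
        exact par_out h hT hT' n ht hx x1 a)), Set.InjOn.ncard_image (fun a ha b hb e =>
          Prod.ext_iff.2 (par_inj h hT hT' n ha.1 ha.2.1 ha.2.2 hb.1 hb.2.1 e)), Set.ncard_prod,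
        ← Nat.card_coe_set_eq (T : Set G), SetLike.coe_sort_coe, c]
      have e1 := ncard_ne T
      have e2 := ncard_ne T'
      rw [c] at e1
      rw [c', ← e1, add_left_inj] at e2
      rw [e2, ← e1]
      exact (Nat.sub_le_iff_le_add).2 (by nlinarith))
  rcases e.ge (show y ∈ {u : G | orderOf u = 2 ∧ u ∈ H} from ⟨o, hy⟩) with a | ⟨⟨t, x⟩, ⟨ht, hx, x1⟩, e⟩
  · exact absurd a.1 yT
  · exact ⟨t, ht, x, hx, x1, e⟩

variable {σ : G} (σH : σ ∈ H) (σN : σ ∈ normalizer (T : Set G)) (σo : orderOf σ = q - 1)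
include σH σN σo

theorem sig_disj : ∀ s ∈ zpowers σ, s ∈ T → s = 1 := fun s hs sT => by
  obtain ⟨k, e, hk⟩ := q_even h hT
  have h1 := orderOf_dvd_of_mem_zpowers hs
  have h2 : orderOf s ∣ 2 := orderOf_dvd_of_pow_eq_one (by rw [pow_two, (te_syl h hT).1 s sT])
  rw [σo] at h1
  rcases (Nat.dvd_prime Nat.prime_two).1 h2 with x | x
  · exact orderOf_eq_one_iff.1 x
  · rw [x] at h1; omega

theorem sig_tr {u u' : G} (hu : u ∈ T) (u1 : u ≠ 1) (hu' : u' ∈ T) (u1' : u' ≠ 1) :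
    ∃ s ∈ zpowers σ, s * u * s⁻¹ = u' := by
  have e : (fun s => s * u * s⁻¹) '' (zpowers σ : Set G) = {x | x ∈ T ∧ x ≠ 1} :=
    Set.eq_of_subset_of_ncard_le (by
      rintro _ ⟨s, hs, rfl⟩
      exact ⟨(conj_iff (zpowers_le.2 σN hs)).2 hu, mt conj_eq_one_iff.1 u1⟩) (by
      rw [orb_card h hT (zpowers_le.2 σH) (sig_disj h hT σH σN σo) hu u1, Nat.card_zpowers, σo,
        ← (te_syl h hT).2, ← ncard_ne T]
      rfl)
  exact e.ge (show u' ∈ {x | x ∈ T ∧ x ≠ 1} from ⟨hu', u1'⟩)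

theorem sig_dec (n : normalizer (T : Set G)) (hn : (n : G) ∈ H) :
    ∃ s : normalizer (T : Set G), (s : G) ∈ zpowers σ ∧
      T.normalizerMonoidHom n = T.normalizerMonoidHom s := by
  obtain ⟨u, hu, u1⟩ := exists_ne h hT
  obtain ⟨s, hs, e⟩ := sig_tr h hT σH σN σo hu u1 ((conj_iff n.2).2 hu) (mt conj_eq_one_iff.1 u1)
  refine ⟨⟨s, zpowers_le.2 σN hs⟩, hs, (inv_mul_eq_one.1 ?_).symm⟩
  rw [← map_inv, ← map_mul]
  have m : s⁻¹ * n ∈ H := mul_mem (inv_mem (zpowers_le.2 σH hs)) hn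
  refine (psi_ker h hT m).2 (te_cen_eq h hT hu u1 m ?_)
  show s⁻¹ * n * u = u * (s⁻¹ * n)
  calc s⁻¹ * n * u = s⁻¹ * (n * u * (n : G)⁻¹) * n := by group
    _ = _ := by rw [← e]; group

variable {g : G} (gH : g ∈ normalizer (H : Set G)) (gN : g ∈ normalizer (T : Set G)) (gg : g * g ∈ T)
include gH gN gg

theorem gam_tr {u u' : G} (hu : u ∈ T ⊓ centralizer ({g} : Set G)) (u1 : u ≠ 1)
    (hu' : u' ∈ T ⊓ centralizer ({g} : Set G)) (u1' : u' ≠ 1) :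
    ∃ s ∈ zpowers σ, g * s * g⁻¹ * s⁻¹ ∈ T ∧ s * u * s⁻¹ = u' := by
  obtain ⟨s, hs, e⟩ := sig_tr h hT σH σN σo hu.1 u1 hu'.1 u1'
  have sH := zpowers_le.2 σH hs
  refine ⟨s, hs, te_cen_eq h hT hu'.1 u1' (mul_mem ((conj_iff gH).2 sH) (inv_mem sH)) ?_, e⟩
  calc _ = g * s * g⁻¹ * s⁻¹ * (s * u * s⁻¹) := by rw [e]
    _ = g * (s * (g⁻¹ * (u * g)) * s⁻¹) * g⁻¹ * (g * s * g⁻¹ * s⁻¹) := by group
    _ = _ := by rw [mem_c.1 hu.2, inv_mul_cancel_left, e, ← mem_c.1 hu'.2, mul_inv_cancel_right]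

theorem act_loc (nc : ∃ u ∈ T, u * g ≠ g * u) :
    q = Nat.card ↥(T ⊓ centralizer ({g} : Set G)) ^ 2 ∧ ∃ τ ∈ H, τ ∈ normalizer (T : Set G) ∧
      orderOf τ = Nat.card ↥(T ⊓ centralizer ({g} : Set G)) + 1 ∧ g * τ * g⁻¹ * τ ∈ T := by
  obtain ⟨sq, c⟩ := te_syl h hT
  obtain ⟨k, ek, hk⟩ := q_even h hT
  have h1 := cm_card sq gN
  have h2 : Nat.card (cm sq gN).range ≤ Nat.card ↥(T ⊓ centralizer ({g} : Set G)) :=
    card_le_of_le (by rintro _ ⟨u, rfl⟩; exact cm_mem sq gN gg u.2)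
  have h3 : Nat.card (cm sq gN).range ≠ 1 := fun e => by
    obtain ⟨u, hu, n⟩ := nc
    rw [e, mul_one] at h1
    exact n (mem_c.1 ((eq_of_le_of_card_ge inf_le_left h1.ge).ge hu).2)
  let Γ : Subgroup G :=
    { carrier := {s | s ∈ zpowers σ ∧ g * s * g⁻¹ * s⁻¹ ∈ T}
      mul_mem' := fun {a b} ha hb => ⟨mul_mem ha.1 hb.1, by
        have := mul_mem ha.2 ((conj_iff (zpowers_le.2 σN ha.1)).2 hb.2)
        convert this using 1; group⟩
      one_mem' := ⟨one_mem _, by simp⟩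
      inv_mem' := fun {a} ha => ⟨inv_mem ha.1, by
        have := (conj_iff (inv_mem (zpowers_le.2 σN ha.1))).2 (inv_mem ha.2)
        convert this using 1; group⟩ }
  have e1 := ncard_ne (T ⊓ centralizer ({g} : Set G))
  rw [c] at h1
  set p := Nat.card ↥(T ⊓ centralizer ({g} : Set G))
  set m := Nat.card (cm sq gN).range
  have m0 : 0 < m := Nat.card_pos
  obtain ⟨u, hu, u1⟩ := Set.nonempty_of_ncard_ne_zero
    (s := {x | x ∈ T ⊓ centralizer ({g} : Set G) ∧ x ≠ 1}) (by omega)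
  have cΓ : Nat.card Γ + 1 = p := by
    rw [← orb_card h hT (S := Γ) (fun s hs => zpowers_le.2 σH hs.1) (fun s hs => sig_disj h hT σH σN σo s hs.1)
      hu.1 u1, ← e1]
    congr 2
    refine subset_antisymm ?_ fun x hx => ?_
    · rintro _ ⟨s, hs, rfl⟩
      have m := (conj_iff (zpowers_le.2 σN hs.1)).2 hu.1
      refine ⟨⟨m, mem_c.2 (mul_inv_eq_iff_eq_mul.1 ?_).symm⟩, mt conj_eq_one_iff.1 u1⟩
      calc g * (s * u * s⁻¹) * g⁻¹ = g * s * g⁻¹ * s⁻¹ * (s * (g * u * g⁻¹) * s⁻¹) *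
            (g * s * g⁻¹ * s⁻¹)⁻¹ := by group
        _ = _ := by rw [← mem_c.1 hu.2, mul_inv_cancel_right, comm_of_sq sq hs.2 m,
            mul_inv_cancel_right]
    · obtain ⟨s, a, b, c⟩ := gam_tr h hT σH σN σo gH gN gg hu u1 hx.1 hx.2
      exact ⟨s, ⟨a, b⟩, c⟩
  have d : Nat.card Γ ∣ q - 1 := by
    rw [← σo, ← Nat.card_zpowers]; exact card_dvd_of_le fun s hs => hs.1
  have e2 : m = p := by
    have : q - 1 = Nat.card Γ * m + (m - 1) := by rw [← h1, ← cΓ, add_mul]; omega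
    rw [this, Nat.dvd_add_right (dvd_mul_right _ _)] at d
    have := Nat.le_of_dvd (by omega) d
    omega
  have e3 : q - 1 = Nat.card Γ * (p + 1) := by rw [← h1, e2, ← cΓ]; exact Nat.sub_eq_of_eq_add (by ring)
  have o : orderOf (σ ^ Nat.card Γ) = p + 1 := by
    rw [orderOf_pow' _ Nat.card_pos.ne', σo, e3, Nat.gcd_mul_right_left,
      Nat.mul_div_cancel_left _ Nat.card_pos]
  refine ⟨by rw [← h1, e2, pow_two], _, pow_mem σH _, pow_mem σN _, o, ?_⟩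
  let τ : normalizer (T : Set G) := ⟨_, pow_mem σN (Nat.card Γ)⟩
  let γ : normalizer (T : Set G) := ⟨g, gN⟩
  have τH : (τ : G) ∈ H := pow_mem σH _
  have cH : ((γ * τ * γ⁻¹ : normalizer (T : Set G)) : G) ∈ H := (conj_iff gH).2 τH
  obtain ⟨s, hs, es⟩ := sig_dec h hT σH σN σo _ cH
  have cm : s * τ = τ * s := Subtype.ext (by
    obtain ⟨n, e⟩ := hs
    show (s : G) * σ ^ _ = σ ^ _ * s
    rw [← e]; exact ((Commute.refl σ).zpow_left n).pow_right _)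
  have sz : ((s * τ : normalizer (T : Set G)) : G) ∈ zpowers σ := mul_mem hs (pow_mem (mem_zpowers σ) _)
  have sH := zpowers_le.2 σH sz
  have g2 : T.normalizerMonoidHom (γ * γ) = 1 := (psi_ker h hT (hT.le gg)).2 gg
  have sΓ : ((s * τ : normalizer (T : Set G)) : G) ∈ Γ := ⟨sz, (psi_ker h hT
    (n := γ * (s * τ) * γ⁻¹ * (s * τ)⁻¹) (mul_mem ((conj_iff gH).2 sH) (inv_mem sH))).1 (by
      nth_rw 2 [cm]
      rw [map_mul _ _ (τ * s)⁻¹, map_inv, mul_inv_eq_one, map_mul _ τ, ← es, map_mul, map_mul _ γ,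
        map_mul _ s, ← es, ← map_mul, ← map_mul, ← map_mul,
        show γ * (γ * τ * γ⁻¹ * τ) * γ⁻¹ = γ * γ * τ * (γ * γ)⁻¹ * (γ * τ * γ⁻¹) by group,
        map_mul, map_mul, map_inv, map_mul _ (γ * γ), g2, one_mul, inv_one, mul_one])⟩
  have t1 : τ ^ (p + 1) = 1 := Subtype.ext (o ▸ pow_orderOf_eq_one _)
  have x1 : T.normalizerMonoidHom (s * τ) ^ (p + 1) = 1 := by
    rw [← map_pow, (show Commute s τ from cm).mul_pow, t1, mul_one, map_pow, ← es, ← map_pow,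
      conj_pow, t1]; simp
  have x2 : T.normalizerMonoidHom (s * τ) ^ Nat.card Γ = 1 := by
    have := congrArg Subtype.val (pow_card_eq_one' (x := (⟨_, sΓ⟩ : Γ)))
    rw [← map_pow, show (s * τ) ^ Nat.card Γ = 1 from Subtype.ext this, map_one]
  have x3 := (pow_gcd_eq_one.2 ⟨x1, x2⟩ :)
  have cp : Nat.gcd (p + 1) (Nat.card Γ) = 1 := by
    rw [← cΓ, add_assoc, Nat.gcd_comm, Nat.gcd_self_add_right]
    refine Nat.coprime_two_right.2 (Odd.of_dvd_nat (n := q - 1) ⟨k - 1, by omega⟩ ⟨_, e3⟩)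
  rw [cp, pow_one, map_mul, ← es, ← map_mul] at x3
  exact (psi_ker h hT (mul_mem cH τH)).1 x3

omit σH σN σo in
/-- involutions normalising `T` and lying in one coset of `H` are conjugate -/
theorem cls_loc {g' : G} (g1 : g * g = 1) (gq : q = Nat.card ↥(T ⊓ centralizer ({g} : Set G)) ^ 2)
    (hN : g' ∈ normalizer (T : Set G)) (h1 : g' * g' = 1) (h2 : g * g' ∈ H) :
    ∃ x ∈ H, x * g * x⁻¹ = g' := by
  obtain ⟨sq, c⟩ := te_syl h hT
  obtain ⟨k, ek, hk⟩ := q_even h hT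
  obtain ⟨σ, σH, σN, σo⟩ := h.cycG hT
  obtain ⟨s, hs, es⟩ := sig_dec h hT σH σN σo ⟨_, mul_mem gN hN⟩ h2
  have m : (g * g') ^ (q - 1) ∈ T := (psi_ker h hT (n := ⟨_, mul_mem gN hN⟩ ^ (q - 1)) (pow_mem h2 _)).1 (by
    rw [map_pow, es, ← map_pow, show s ^ (q - 1) = 1 from Subtype.ext
      (orderOf_dvd_iff_pow_eq_one.1 (σo ▸ orderOf_dvd_of_mem_zpowers hs)), map_one])
  have e : (g * g') ^ k * g' * ((g * g') ^ k)⁻¹ = (g * g') ^ (q - 1) * g := by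
    have : g' * (g * g')⁻¹ * g'⁻¹ = g * g' := by
      rw [mul_inv_rev, mul_inv_cancel_left, inv2 g1, inv2 h1]
    calc _ = (g * g') ^ k * (g' * (g * g')⁻¹ * g'⁻¹) ^ k * g' := by
          rw [conj_pow, inv_pow]; simp only [mul_assoc, inv_mul_cancel, mul_one]
      _ = (g * g') ^ (q - 1) * (g * g') * g' := by
        rw [this, ← pow_add, ← pow_succ, show q - 1 + 1 = k + k by omega]
      _ = _ := by rw [mul_assoc, mul_assoc, h1, mul_one]
  have e2 : (g * g') ^ (q - 1) * g * ((g * g') ^ (q - 1) * g) = 1 := by rw [← e, conj_mul, h1]; group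
  obtain ⟨t, ht, et⟩ := exists_cm sq gN gg (c.trans gq) rfl (k := (g * g') ^ (q - 1)) ⟨m, mem_c.2 (by
    rw [eq_inv_of_mul_eq_one_left e2, mul_inv_rev, inv2 g1, inv2 (sq _ m)])⟩
  refine ⟨((g * g') ^ k)⁻¹ * (g * t * g⁻¹), mul_mem (inv_mem (pow_mem h2 k)) ((conj_iff gH).2 (hT.le ht)), ?_⟩
  calc _ = ((g * g') ^ k)⁻¹ * (g * t * g * t⁻¹ * g⁻¹) * (g * g') ^ k := by group
    _ = ((g * g') ^ k)⁻¹ * (g * t * g⁻¹ * t⁻¹ * g) * (g * g') ^ k := by rw [inv2 g1]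
    _ = _ := by rw [et, ← e]; simp only [mul_assoc, inv_mul_cancel, mul_one, inv_mul_cancel_left]

omit σH σN σo in
/-- the involutions of `H` commuting with an outer involution -/
theorem cnt_loc (g1 : g * g = 1) (hp : q = p ^ 2) (hc : ∀ T', IsSyl 2 T' H →
    g ∈ normalizer (T' : Set G) → Nat.card ↥(T' ⊓ centralizer ({g} : Set G)) = p) :
    {u | (orderOf u = 2 ∧ u ∈ H) ∧ g * u = u * g}.ncard + 1 = q := by
  have := Fact.mk Nat.prime_two
  obtain ⟨sq, c⟩ := te_syl h hT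
  obtain ⟨T', hT', n, gN'⟩ : ∃ T', IsSyl 2 T' H ∧ T ≠ T' ∧ g ∈ normalizer (T' : Set G) := by
    obtain ⟨x, hx, o, xT⟩ : ∃ x ∈ H, orderOf x = 2 ∧ x ∉ T := by
      obtain ⟨u, hu, w, hw, o1, o2, n⟩ := h.nc.exG
      by_contra! k
      exact n (comm_of_sq sq (k u hu o1) (k w hw o2))
    obtain ⟨T', hT', e⟩ := exists_isSyl_le (isPGroup_zpowers (p := 2) (k := 1)
      (by rw [pow_one, pow_two, sq2 o])) (zpowers_le.2 hx)
    have xT' := e (mem_zpowers x)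
    have n : T ≠ T' := fun k => xT (k ▸ xT')
    obtain ⟨u, hu, y, hy, -, e⟩ := par_surj h hT hT' n ((conj_iff gH).2 hx) ((ord_conj g).trans o)
      (mt (conj_iff gN).1 xT)
    have m : u⁻¹ * g ∈ normalizer (T' : Set G) :=
      ti h hT' (mul_mem (inv_mem (le_normalizer (hT.le hu))) gH) xT' (ne2 o) (by
        rw [show u⁻¹ * g * x * (u⁻¹ * g)⁻¹ = u⁻¹ * (g * x * g⁻¹) * u by group, ← e]
        simpa [mul_assoc])
    have k := nt h hT hT' n (t := u⁻¹ * g * (u⁻¹ * g)) (by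
      have := mul_mem (inv_mem hu) ((conj_iff gN).2 (inv_mem hu))
      rwa [inv2 g1, ← mul_assoc, ← mul_assoc, mul_assoc _ u⁻¹] at this) (mul_mem m m)
    obtain ⟨t, ht, et⟩ := exists_cm sq gN gg (c.trans hp) (hc T hT gN) (k := u) ⟨hu, mem_c.2 (by
      rw [inv2 (sq u hu)] at k
      rw [eq_inv_of_mul_eq_one_left k, mul_inv_rev, inv2 g1, inv2 (sq u hu)])⟩
    refine ⟨cj t⁻¹ T', hT'.cj_of_mem (inv_mem (hT.le ht)), fun k => n ?_, ?_⟩
    · rw [← cj_cj_inv t T', ← k, cj_eq_self_of_mem ht]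
    · rw [← cj_normalizer, mem_cj, inv_inv]
      convert m using 1
      rw [← et, ← inv2 g1]; group
  obtain ⟨sq', c'⟩ := te_syl h hT'
  have e : {u | (orderOf u = 2 ∧ u ∈ H) ∧ g * u = u * g} =
      {x | x ∈ T ⊓ centralizer ({g} : Set G) ∧ x ≠ 1} ∪ (fun z : G × G => z.1 * z.2 * z.1⁻¹) ''
        (((T ⊓ centralizer ({g} : Set G) : Subgroup G) : Set G) ×ˢ
          {x | x ∈ T' ⊓ centralizer ({g} : Set G) ∧ x ≠ 1}) := by
    refine subset_antisymm ?_ ?_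
    · rintro y ⟨⟨o, hy⟩, e⟩
      by_cases yT : y ∈ T
      · exact Or.inl ⟨⟨yT, mem_c.2 e.symm⟩, ne2 o⟩
      · obtain ⟨t, ht, x, hx, x1, rfl⟩ := par_surj h hT hT' n hy o yT
        obtain ⟨a, b⟩ := par_inj h hT hT' n ht hx x1 ((conj_iff gN).2 ht) ((conj_iff gN').2 hx) (by
          rw [← mul_inv_eq_of_eq_mul e]; group)
        exact Or.inr ⟨(t, x), ⟨⟨ht, mem_c.2 (eq_mul_inv_iff_mul_eq.1 a)⟩,
          ⟨hx, mem_c.2 (eq_mul_inv_iff_mul_eq.1 b)⟩, x1⟩, rfl⟩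
    · rintro _ (⟨a, b⟩ | ⟨⟨t, x⟩, ⟨ht, hx, x1⟩, rfl⟩)
      · exact ⟨⟨ord2 (sq _ a.1) b, hT.le a.1⟩, (mem_c.1 a.2).symm⟩
      · exact ⟨⟨(ord_conj t).trans (ord2 (sq' x hx.1) x1), mul_mem (mul_mem (hT.le ht.1) (hT'.le hx.1))
          (inv_mem (hT.le ht.1))⟩, (mem_c.1 (mul_mem (mul_mem ht.2 hx.2) (inv_mem ht.2))).symm⟩
  rw [e, Set.ncard_union_eq (Set.disjoint_left.2 (by
      rintro _ ⟨a, -⟩ ⟨⟨t, x⟩, ⟨ht, hx, x1⟩, rfl⟩
      exact par_out h hT hT' n ht.1 hx.1 x1 a.1)), Set.InjOn.ncard_image (fun a ha b hb e =>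
        Prod.ext_iff.2 (par_inj h hT hT' n ha.1.1 ha.2.1.1 ha.2.2 hb.1.1 hb.2.1.1 e)), Set.ncard_prod,
    ← Nat.card_coe_set_eq ((T ⊓ centralizer ({g} : Set G) : Subgroup G) : Set G), SetLike.coe_sort_coe,
    hc T hT gN]
  have e1 := ncard_ne (T ⊓ centralizer ({g} : Set G))
  have e2 := ncard_ne (T' ⊓ centralizer ({g} : Set G))
  rw [hc T hT gN] at e1
  rw [hc T' hT' gN', ← e1, add_left_inj] at e2
  rw [e2, hp, ← e1]; ring

end Loc

variable {Ω : Type v} [MulAction G Ω] {a b : Ω}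

theorem swap_nor {s : G} (h1 : s • a = b) (h2 : s • b = a) : s ∈ normalizer (St G a b : Set G) :=
  mem_nor fun _ hx => swap_conj_mem h1 h2 hx

theorem inv_nor {s : G} (ss : s * s = 1) (h1 : s • a = b) (hT : IsSyl 2 T (St G a b)) :
    ∃ x ∈ St G a b, x * s * x⁻¹ ∈ normalizer (T : Set G) := by
  have := Fact.mk Nat.prime_two
  have n := swap_nor h1 (by rw [← h1, smul_smul_of_sq ss])
  obtain ⟨S, hS, e⟩ := exists_isSyl_le (isPGroup_zpowers (p := 2) (k := 1) (by rw [pow_one, pow_two, ss]))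
    (zpowers_le.2 n)
  obtain ⟨x, hx, e'⟩ := (hS.inf_of_le_normalizer le_normalizer hS.le).exists_cj_eq hT
  refine ⟨x, hx, ?_⟩
  rw [← e', ← cj_normalizer]
  exact conj_mem_cj (le_normalizer_inf le_normalizer hS.le (e (mem_zpowers s)))

theorem jobEB0 : JobEB0.{u, v} := by
  intro G Ω _ _ _ a₀ b₀ q h2 hab₀ te₀ cb₀
  have := Fact.mk Nat.prime_two
  have te : ∀ a b : Ω, a ≠ b → TE (St G a b) q := fun a b hab => te₀.at h2 hab₀ hab
  have cb : ∀ a b : Ω, a ≠ b → CaseB G a b := fun a b hab => cb₀.at h2 hab₀ hab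
  have act : ∀ (a b : Ω) (T : Subgroup G) (g : G), a ≠ b → IsSyl 2 T (St G a b) → g • a = b →
      g • b = a → g ∈ normalizer (T : Set G) → g * g ∈ T → _ := fun a b T g hab hT h1 h2 gN gg =>
    let ⟨_, σH, σN, σo⟩ := (te a b hab).cycG hT
    act_loc (te a b hab) hT σH σN σo (swap_nor h1 h2) gN gg (cb a b hab g h1 h2 T hT)
  have sb : ∀ {s : G} {a b : Ω}, s * s = 1 → s • a = b → s • b = a := fun ss h => by
    rw [← h, smul_smul_of_sq ss]
  have cjs : ∀ {s x : G} {a b : Ω}, x ∈ St G a b → s • a = b → (x * s * x⁻¹) • a = b :=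
    fun {s x a b} hx h => by nth_rw 1 [← hx.1, ← hx.2]; exact conj_smul_eq.2 h
  have ex : ∀ (a b : Ω) (T : Subgroup G) (x : G), a ≠ b → IsSyl 2 T (St G a b) → orderOf x = 2 →
      ∃ w, IsConj x w ∧ w • a = b ∧ w ∈ normalizer (T : Set G) := fun a b T x hab hT o => by
    obtain ⟨g, e, -⟩ := h2.exists_conj_swap (ne2 o) (sq2 o) hab
    obtain ⟨y, hy, e'⟩ := inv_nor (sq2 ((ord_conj g).trans o)) e hT
    exact ⟨_, (isConj_conj g x).trans (isConj_conj y _), cjs hy e, e'⟩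
  obtain ⟨T₀, hT₀⟩ := exists_isSyl 2 (St G a₀ b₀)
  obtain ⟨t₀, -, o₀⟩ := te₀.ex
  obtain ⟨w₀, c₀, wa₀, wN₀⟩ := ex a₀ b₀ T₀ t₀ hab₀ hT₀ o₀
  have ww₀ := sq_of_isConj c₀ (sq2 o₀)
  have hp := (act _ _ T₀ w₀ hab₀ hT₀ wa₀ (sb ww₀ wa₀) wN₀ (ww₀ ▸ one_mem _)).1
  have cls : ∀ x : G, orderOf x = 2 → IsConj w₀ x := fun x o => by
    obtain ⟨w, c, wa, wN⟩ := ex a₀ b₀ T₀ x hab₀ hT₀ o
    have ww := sq_of_isConj c (sq2 o)
    obtain ⟨y, -, e⟩ := cls_loc te₀ hT₀ (swap_nor wa₀ (sb ww₀ wa₀)) wN₀ (ww₀ ▸ one_mem _) ww₀ hp wN ww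
      (mem_St.2 ⟨by rw [mul_smul, wa, sb ww₀ wa₀], by rw [mul_smul, sb ww wa, wa₀]⟩)
    exact (isConj_iff.2 ⟨y, e⟩).trans c.symm
  generalize Nat.card ↥(T₀ ⊓ centralizer ({w₀} : Set G)) = p at hp
  have cp : ∀ (a b : Ω) (T : Subgroup G) (g : G), a ≠ b → IsSyl 2 T (St G a b) → g • a = b →
      g • b = a → g ∈ normalizer (T : Set G) → g * g ∈ T →
      Nat.card ↥(T ⊓ centralizer ({g} : Set G)) = p := fun a b T g hab hT h1 h2 gN gg =>
    Nat.pow_left_injective two_ne_zero ((act a b T g hab hT h1 h2 gN gg).1.symm.trans hp)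
  refine ⟨p, h2, te, hp, fun s t hs ht => (cls s hs).symm.trans (cls t ht), fun a b hab => ?_,
    fun a b T g e hab hT hc hg => ?_, fun a b T g hab hT h1 h2 gN gg => ⟨cp a b T g hab hT h1 h2 gN gg,
      cp a b T g hab hT h1 h2 gN gg ▸ (act a b T g hab hT h1 h2 gN gg).2⟩, fun a b T hab hT => ?_⟩
  · have h := te a b hab
    obtain ⟨T, hT⟩ := exists_isSyl 2 (St G a b)
    obtain ⟨sq, c⟩ := te_syl h hT
    obtain ⟨k, ek, hk⟩ := q_even h hT
    obtain ⟨w, c1, wa, wN⟩ := ex a b T t₀ hab hT o₀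
    have ww := sq_of_isConj c1 (sq2 o₀)
    have c0 := cp a b T w hab hT wa (sb ww wa) wN (ww ▸ one_mem _)
    have p1 : 1 < p := by by_contra! x; nlinarith
    have e1 := ncard_ne (T ⊓ centralizer ({w} : Set G))
    obtain ⟨u, hu, u1⟩ := Set.nonempty_of_ncard_ne_zero
      (s := {x | x ∈ T ⊓ centralizer ({w} : Set G) ∧ x ≠ 1}) (by omega)
    have key := count_sub (St G a b) {s : G | orderOf s = 2 ∧ s • a = b}
      (fun x hx g hg => ⟨(ord_conj g).trans hx.1, cjs hg hx.2⟩) {u | orderOf u = 2 ∧ u ∈ St G a b}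
      (fun x l => x * l = l * x) u (q - 1) (fun l hl => by
        obtain ⟨g, hg, rfl⟩ := h.conj (hT.le hu.1) hl.2 (ord2 (sq u hu.1) u1) hl.1
        exact ⟨g, hg, fun x => by rw [conj_mul, conj_mul, mul_left_inj, mul_right_inj]⟩)
      fun x hx => by
        have xx := sq2 hx.1
        obtain ⟨y, hy, e⟩ := inv_nor xx hx.2 hT
        have hT' := hT.cj_of_mem (inv_mem hy)
        refine Nat.eq_sub_of_add_eq (cnt_loc h hT' (swap_nor hx.2 (sb xx hx.2)) ?_ (xx ▸ one_mem _) xx hp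
          fun T' hT' k => cp a b T' x hab hT' hx.2 (sb xx hx.2) k (xx ▸ one_mem _))
        rw [← cj_normalizer, mem_cj, inv_inv]; exact e
    have e2 : {x | x ∈ {s : G | orderOf s = 2 ∧ s • a = b} ∧ x * u = u * x} =
        (fun x => w * x) '' (T ⊓ centralizer ({w} : Set G) : Subgroup G) := by
      refine subset_antisymm ?_ ?_
      · rintro x ⟨⟨o, xa⟩, e⟩
        have xx := sq2 o
        have m : w * x ∈ T := te_cen_eq h hT hu.1 u1 (mem_St.2 ⟨by rw [mul_smul, xa, sb ww wa], by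
          rw [mul_smul, sb xx xa, wa]⟩) ((show Commute w u from (mem_c.1 hu.2).symm).mul_left e)
        refine ⟨w * x, ⟨m, mem_c.2 ?_⟩, by show w * (w * x) = x; rw [← mul_assoc, ww, one_mul]⟩
        rw [mul_assoc, ← inv2 (sq _ m), mul_inv_rev, inv2 ww, inv2 xx]
      · rintro _ ⟨x, hx, rfl⟩
        have xa : (w * x) • a = b := by rw [mul_smul, (hT.le hx.1).1, wa]
        refine ⟨⟨ord2 ?_ fun e => hab (by rw [← xa, show w * x = 1 from e, one_smul]), xa⟩,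
          (show Commute w u from (mem_c.1 hu.2).symm).mul_left (comm_of_sq sq hx.1 hu.1)⟩
        rw [(show Commute x w from mem_c.1 hx.2).mul_mul_mul_comm, ww, sq x hx.1, one_mul]
    rw [e2, Set.ncard_image_of_injective _ (mul_right_injective w), ← Nat.card_coe_set_eq
      ((T ⊓ centralizer ({w} : Set G) : Subgroup G) : Set G), SetLike.coe_sort_coe, c0, ← nI_eq,
      h.nI_eq] at key
    refine Nat.eq_of_mul_eq_mul_right (m := q - 1) (by omega) (key.trans ?_)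
    rw [← one_pow 2, Nat.sq_sub_sq, one_pow]; ring
  · by_contra n
    obtain ⟨sq, c⟩ := te_syl (te a b hab) hT
    obtain ⟨x, xc, xT, xx⟩ : ∃ x, (∀ u ∈ T, u * x = x * u) ∧ x ∉ T ∧ x * x ∈ T := by
      have h0 : g ^ 2 ^ e ∈ T := hg ▸ one_mem _
      clear hg
      induction e with
      | zero => exact absurd (by simpa using h0) n
      | succ k ih =>
        by_cases h1 : g ^ 2 ^ k ∈ T
        · exact ih h1
        · exact ⟨_, fun u hu => (show Commute u g from hc u hu).pow_right _, h1,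
            by rwa [← pow_add, ← two_mul, ← pow_succ']⟩
    have key : ∀ y : Ω, (∀ u ∈ T, u • y = y) → x • y = y := fun y hy => by
      by_contra k
      have le : T ≤ St G y (x • y) := fun u hu => ⟨hy u hu, fix_of_comm (xc u hu).symm (hy u hu)⟩
      obtain ⟨T', hT'⟩ := exists_isSyl 2 (St G y (x • y))
      obtain ⟨u, hu, e⟩ := cb y (x • y) (Ne.symm k) x rfl (by rw [← mul_smul, hy _ xx]) T
        (hT'.of_card_ge hT.isPGroup le (by rw [c, (te_syl (te _ _ (Ne.symm k)) hT').2]))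
      exact e (xc u hu)
    obtain ⟨u, hu, u1⟩ := exists_ne (te a b hab) hT
    exact xT (te_cen_eq (te a b hab) hT hu u1
      ⟨key a fun u hu => (hT.le hu).1, key b fun u hu => (hT.le hu).2⟩ (xc u hu).symm)
  · have h := te a b hab
    obtain ⟨sq, c⟩ := te_syl h hT
    obtain ⟨w, c1, wa, wN⟩ := ex a b T t₀ hab hT o₀
    have ww := sq_of_isConj c1 (sq2 o₀)
    refine ⟨w, (orderOf_of_isConj c1).trans o₀, wa, wN, fun u hu u' hu' n n' e e' => ?_⟩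
    obtain ⟨σ, σH, σN, σo⟩ := h.cycG hT
    obtain ⟨s, hs, m, es⟩ := gam_tr h hT σH σN σo (swap_nor wa (sb ww wa)) wN (ww ▸ one_mem _)
      ⟨hu, mem_c.2 e⟩ n ⟨hu', mem_c.2 e'⟩ n'
    obtain ⟨t, ht, et⟩ := exists_cm sq wN (ww ▸ one_mem _) (c.trans hp)
      (cp a b T w hab hT wa (sb ww wa) wN (ww ▸ one_mem _)) ⟨m, mem_c.2 (by
        nth_rw 1 [← inv2 (sq _ m)]
        simp only [mul_inv_rev, inv_inv, inv2 ww, ← mul_assoc, ww, one_mul]
        rw [mul_assoc _ w w, ww, mul_one])⟩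
    refine ⟨t⁻¹ * s, mul_mem (inv_mem (le_normalizer ht)) (zpowers_le.2 σN hs), ?_, ?_⟩
    · calc t⁻¹ * s * w = w * t⁻¹ * w⁻¹ * (w * t * w⁻¹ * t⁻¹) * s * w := by group
        _ = w * (t⁻¹ * s) := by rw [et]; group
    · rw [show t⁻¹ * s * u * (t⁻¹ * s)⁻¹ = t⁻¹ * (s * u * s⁻¹) * t by group, es,
        mul_assoc, comm_of_sq sq hu' ht, inv_mul_cancel_left]

end H76.TP
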