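import Cfsg.Agent.Base
import Cfsg.Agent.H76.GrC
import Cfsg.Agent.H26.ChFix

/-! Turull's theorem, part A: the trace operator of `σ`, non-fixed translates, weights. -/

set_option autoImplicit false

namespace H76

open Module H22 H46 H48 Subgroup Cfsg H26.CF
open scoped commutatorElement

universe u

variable {Γ : Type u} [Group Γ]

/-- The elements of `N(A)` fixing the coset `xA`. -/
def cI (x : Γ) (A : Subgroup Γ) : Subgroup Γ where
  carrier := {a | a ∈ Nrm A ∧ x⁻¹ * (a * x * a⁻¹) ∈ A}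
  mul_mem' := fun {a b} ha hb => ⟨mul_mem ha.1 hb.1, by
    have := mul_mem ha.2 (conj_mem_of_mem_nrm ha.1 hb.2)
    convert this using 1; group⟩
  one_mem' := ⟨one_mem _, by simp⟩
  inv_mem' := fun {a} ha => ⟨inv_mem ha.1, by
    have := conj_mem_of_mem_nrm' ha.1 (inv_mem ha.2)
    convert this using 1; group⟩

theorem mem_cI {x a : Γ} {A : Subgroup Γ} : a ∈ cI x A ↔ a ∈ Nrm A ∧ x⁻¹ * (a * x * a⁻¹) ∈ A :=
  Iff.rfl

theorem mem_of_pow_pow {H : Subgroup Γ} {g : Γ} {m n : ℕ} (h : m.Coprime n) (hm : g ^ m ∈ H)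
    (hn : g ^ n ∈ H) : g ∈ H := by
  have h1 := mul_mem (zpow_mem hm (m.gcdA n)) (zpow_mem hn (m.gcdB n))
  rwa [← zpow_natCast, ← zpow_natCast, ← zpow_mul, ← zpow_mul, ← zpow_add, ← Nat.gcd_eq_gcd_ab,
    h.gcd_eq_one, Nat.cast_one, zpow_one] at h1

theorem mem_of_pow_prime {H : Subgroup Γ} {σ : Γ} {r m : ℕ} (hr : r.Prime) (hσ : σ ^ r = 1)
    (h : ¬ r ∣ m) (hm : σ ^ m ∈ H) : σ ∈ H :=
  mem_of_pow_pow ((Nat.Prime.coprime_iff_not_dvd hr).2 h).symm hm (by rw [hσ]; exact one_mem _)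

theorem mem_of_pow_lt {H : Subgroup Γ} {σ : Γ} {r i : ℕ} (hr : r.Prime) (hσ : σ ^ r = 1)
    (h0 : 0 < i) (h : i < r) (hm : σ ^ i ∈ H) : σ ∈ H :=
  mem_of_pow_prime hr hσ (fun hd => (Nat.le_of_dvd h0 hd).not_gt h) hm

/-- If `σ^{-j} y ∈ H` and `σ ∉ H`, with `y` an `r'`-element commuting with `σ`, then `j = 0`. -/
theorem eq_zero_of_inv_pow_mul_mem {H : Subgroup Γ} {σ y : Γ} {r j n : ℕ} (hr : r.Prime)
    (hσ : σ ^ r = 1) (hc : Commute σ y) (hy : y ^ n = 1) (hn : ¬ r ∣ n) (hj : j < r) (hσH : σ ∉ H)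
    (h : (σ ^ j)⁻¹ * y ∈ H) : j = 0 := by
  by_contra h0
  have h1 := inv_mem (pow_mem h n)
  rw [((hc.pow_left j).inv_left).mul_pow, hy, mul_one, inv_pow, inv_inv, ← pow_mul] at h1
  refine hσH (mem_of_pow_prime hr hσ (fun hd => ?_) h1)
  rcases (Nat.Prime.dvd_mul hr).1 hd with hd | hd
  · exact (Nat.le_of_dvd (Nat.pos_of_ne_zero h0) hd).not_gt hj
  · exact hn hd

theorem coprime_zpowers_prime {σ : Γ} {r m : ℕ} (hr : r.Prime) (hσ : σ ^ r = 1) (hm : ¬ r ∣ m) :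
    (Nat.card (zpowers σ)).Coprime m := by
  rw [Nat.card_zpowers]
  exact Nat.Coprime.coprime_dvd_left (orderOf_dvd_of_pow_eq_one hσ)
    ((Nat.Prime.coprime_iff_not_dvd hr).2 hm)

theorem sol_zpowers (σ : Γ) : Group.IsSolvable (zpowers σ) := sol_of_comm inferInstance

theorem exists_A0 [Finite Γ] {σ : Γ} {r : ℕ} (hr : r.Prime) (hσ : σ ^ r = 1) {E U : Subgroup Γ}
    (hE : Group.IsNilpotent E) (hrE : ¬ r ∣ Nat.card E) (hσE : σ ∈ Nrm E)
    (hEσ : ⁅E, zpowers σ⁆ = E) (hU : U ≤ E) (hne : ¬ E ≤ U) (hσU : σ ∈ Nrm U) :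
    ∃ A : Subgroup Γ, U ≤ A ∧ A ≤ E ∧ ¬ E ≤ A ∧ σ ∈ Nrm A ∧ ∀ x ∈ E, σ ∈ cI x A → x ∈ A := by
  have h1 : zpowers σ ≤ Nrm (⁅E, E⁆ ⊔ U) :=
    nrm_sup (nrm_der (zpowers_le.2 hσE)) (zpowers_le.2 hσU)
  have h2 : ⁅E, E⁆ ⊔ U ≤ E := sup_le (der_le E) hU
  have hc := coprime_zpowers_prime hr hσ hrE
  refine ⟨⁅E, E⁆ ⊔ U, le_sup_right, h2, fun h => hne (eq_of_der_sup_of_nil hE hU h).ge,
    h1 (mem_zpowers σ), fun x hx h => ?_⟩
  obtain ⟨n, hn, h3⟩ := H1.exists_centralizer_mem_coset h1 (coprime_of_le hc le_rfl h2)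
    (Or.inl (sol_zpowers σ)) x fun a ha => (zpowers_le.2 h ha).2
  have h4 := centralizer_le_commutator_of_commutator_eq (zpowers_le.2 hσE) hc hEσ
    ⟨mul_mem hx (h2 hn), h3⟩
  simpa using mul_mem (mem_sup_left (T := U) h4) (inv_mem hn)

variable {k M : Type*} [Field k] [AddCommGroup M] [Module k M]

/-- The trace operator `1 + σ + ⋯ + σ^(r-1)`. -/
def eS (ρ : Representation k Γ M) (σ : Γ) (r : ℕ) : Module.End k M :=
  ∑ i ∈ Finset.range r, ρ (σ ^ i)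

variable (ρ : Representation k Γ M) {σ : Γ} {r : ℕ}

theorem eS_apply (v : M) : eS ρ σ r v = ∑ i ∈ Finset.range r, ρ (σ ^ i) v := by simp [eS]

theorem eS_comm {T : Module.End k M} (h : ∀ v, T (ρ σ v) = ρ σ (T v)) (v : M) :
    T (eS ρ σ r v) = eS ρ σ r (T v) := by
  rw [eS_apply, eS_apply, map_sum]
  refine Finset.sum_congr rfl fun i hi => ?_
  clear hi
  induction i with
  | zero => simp
  | succ i ih => rw [pow_succ', map_mul, Module.End.mul_apply, Module.End.mul_apply, h, ih]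

theorem eS_comm' {y : Γ} (h : Commute σ y) (v : M) : ρ y (eS ρ σ r v) = eS ρ σ r (ρ y v) :=
  eS_comm ρ (fun v => by rw [← Module.End.mul_apply, ← map_mul, ← h.eq, map_mul]; rfl) v

theorem eS_σ (hσ : σ ^ r = 1) (v : M) : eS ρ σ r (ρ σ v) = eS ρ σ r v := by
  have h1 := Finset.sum_range_succ (fun i => ρ (σ ^ i) v) r
  rw [Finset.sum_range_succ', hσ] at h1
  simp only [pow_zero, add_left_inj] at h1
  rw [eS_apply, eS_apply, ← h1]
  exact Finset.sum_congr rfl fun i _ => by rw [pow_succ, map_mul]; rfl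

theorem σ_eS (hσ : σ ^ r = 1) (v : M) : ρ σ (eS ρ σ r v) = eS ρ σ r v := by
  rw [eS_comm' ρ (Commute.refl σ), eS_σ ρ hσ]

theorem pow_fix {v : M} (h : ρ σ v = v) (i : ℕ) : ρ (σ ^ i) v = v := by
  induction i with
  | zero => simp
  | succ i ih => rw [pow_succ, map_mul, Module.End.mul_apply, h, ih]

theorem inv_fix {v : M} (h : ρ σ v = v) : ρ σ⁻¹ v = v := by
  conv_lhs => rw [← h]
  exact ρ.inv_self_apply σ v

theorem eS_fix {v : M} (h : ρ σ v = v) : eS ρ σ r v = (r : k) • v := by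
  rw [eS_apply, Finset.sum_congr rfl fun i _ => pow_fix ρ h i]
  simp [Nat.cast_smul_eq_nsmul]

theorem eS_eS {u : M} (h : ρ σ u = u) (z x : Γ) : eS ρ σ r (ρ z (eS ρ σ r (ρ x u))) =
    ∑ i ∈ Finset.range r, eS ρ σ r (ρ (z * (σ ^ i * x * (σ ^ i)⁻¹)) u) := by
  rw [eS_apply ρ (ρ x u), map_sum, map_sum]
  refine Finset.sum_congr rfl fun i _ => ?_
  simp only [map_mul ρ _ (σ ^ i)⁻¹, ← mul_assoc, Module.End.mul_apply, inv_fix ρ (pow_fix ρ h i),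
    map_mul ρ _ x, map_mul ρ z]

/-- The stabilizer of a vector. -/
def stab (v : M) : Subgroup Γ where
  carrier := {g | ρ g v = v}
  mul_mem' := fun {a b} ha hb => by
    simp only [Set.mem_ofPred_eq] at *
    rw [map_mul, Module.End.mul_apply, hb, ha]
  one_mem' := by simp
  inv_mem' := fun ha => inv_fix ρ ha

theorem mem_stab {v : M} {g : Γ} : g ∈ stab ρ v ↔ ρ g v = v := Iff.rfl

theorem sum_eS_mem (hr : r.Prime) (hσ : σ ^ r = 1) {E A : Subgroup Γ} (hσE : σ ∈ Nrm E)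
    (hσA : σ ∈ Nrm A) (hf : ∀ x ∈ E, σ ∈ cI x A → x ∈ A) {u : M} (hu : ρ σ u = u)
    (V : Submodule k M) (hV : ∀ x ∈ E, x ∉ A → eS ρ σ r (ρ x u) ∈ V) {x : Γ} (hx : x ∈ E)
    (hxA : x ∉ A) : eS ρ σ r (ρ x⁻¹ (eS ρ σ r (ρ x u))) - (r : k) • u ∈ V := by
  obtain ⟨s, rfl⟩ := Nat.exists_eq_add_of_le' hr.one_le
  rw [eS_eS ρ hu, Finset.sum_range_succ']
  simp only [pow_zero, one_mul, inv_one, mul_one, inv_mul_cancel, map_one, Module.End.one_apply]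
  rw [eS_fix ρ hu, add_sub_cancel_right]
  refine V.sum_mem fun i hi => hV _ (mul_mem (inv_mem hx) (conj_mem_of_mem_nrm (pow_mem hσE _) hx))
    fun h => hxA (hf x hx (mem_of_pow_lt hr hσ (Nat.succ_pos i) ?_ ⟨pow_mem hσA _, h⟩))
  simpa using hi

theorem eS_mem_of_not (hσ : σ ^ r = 1) {E A : Subgroup Γ} (hσE : σ ∈ Nrm E)
    (hσA : σ ∈ Nrm A) (hf : ∀ x ∈ E, σ ∈ cI x A → x ∈ A) {u : M} (hu : ρ σ u = u)
    (hst : E ⊓ stab ρ u ≤ A) (V : Submodule k M)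
    (h : ¬ ∃ x ∈ E, ρ σ (ρ x u) ≠ ρ x u ∧ eS ρ σ r (ρ x u) ∉ V) :
    ∀ x ∈ E, x ∉ A → eS ρ σ r (ρ x u) ∈ V := by
  intro x hx hxA
  by_contra h1
  have _ := hσ
  refine h ⟨x, hx, fun h2 => hxA (hf x hx ⟨hσA, hst ⟨E.mul_mem (E.inv_mem hx)
    (conj_mem_of_mem_nrm hσE hx), ?_⟩⟩), h1⟩
  change ρ _ u = u
  simp only [map_mul, Module.End.mul_apply, inv_fix ρ hu, h2, ρ.inv_self_apply]

theorem σ_mem_nrm_stab [Finite Γ] {u : M} (hu : ρ σ u = u) : σ ∈ Nrm (stab ρ u) :=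
  le_nrm_self hu

/-- NF: a fixed vector has a non-fixed translate with nonzero trace. -/
theorem nf [Finite Γ] (hr : r.Prime) (hσ : σ ^ r = 1) (hrk : (r : k) ≠ 0) {E : Subgroup Γ}
    (hE : Group.IsNilpotent E) (hrE : ¬ r ∣ Nat.card E) (hσE : σ ∈ Nrm E)
    (hEσ : ⁅E, zpowers σ⁆ = E) {u : M} (hu : ρ σ u = u) (hne : ¬ E ≤ stab ρ u) :
    ∃ x ∈ E, ρ σ (ρ x u) ≠ ρ x u ∧ eS ρ σ r (ρ x u) ≠ 0 := by
  obtain ⟨A, h1, -, h3, h4, h5⟩ := exists_A0 hr hσ hE hrE hσE hEσ (U := E ⊓ stab ρ u) inf_le_left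
    (fun h => hne (h.trans inf_le_right))
    (nrm_inf (zpowers_le.2 hσE) (zpowers_le.2 (σ_mem_nrm_stab ρ hu)) (mem_zpowers σ))
  by_contra h
  have h6 := eS_mem_of_not ρ hσ hσE h4 h5 hu h1 ⊥ (by simpa using h)
  obtain ⟨x, hx, hxA⟩ := SetLike.not_le_iff_exists.1 h3
  have h7 := sum_eS_mem ρ hr hσ hσE h4 h5 hu ⊥ h6 hx hxA
  rw [(Submodule.mem_bot k).1 (h6 x hx hxA)] at h7
  have h8 : u = 0 := by simpa [hrk] using h7
  exact hne fun g _ => by rw [mem_stab, h8, map_zero]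

/-- NF2: the same modulo a subspace fixed pointwise by `Q`. -/
theorem nf2 [Finite Γ] (hr : r.Prime) (hσ : σ ^ r = 1) (hrk : (r : k) ≠ 0) {E Q : Subgroup Γ}
    (hE : Group.IsNilpotent E) (hrE : ¬ r ∣ Nat.card E) (hσE : σ ∈ Nrm E)
    (hEσ : ⁅E, zpowers σ⁆ = E) (hQ : Q ≤ Cent1 σ) (hQE : Q ≤ Nrm E) (hrQ : ¬ r ∣ Nat.card Q)
    (hEQ : ⁅E, Q⁆ = E) {u : M} (hu : ρ σ u = u) (hne : ¬ E ≤ stab ρ u) (V : Submodule k M)
    (hV : ∀ y ∈ Q, ∀ v ∈ V, ρ y v = v) (huV : u ∉ V) :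
    ∃ x ∈ E, ρ σ (ρ x u) ≠ ρ x u ∧ eS ρ σ r (ρ x u) ∉ V := by
  obtain ⟨A, h1, h2, h3, h4, h5⟩ := exists_A0 hr hσ hE hrE hσE hEσ (U := E ⊓ stab ρ u) inf_le_left
    (fun h => hne (h.trans inf_le_right))
    (nrm_inf (zpowers_le.2 hσE) (zpowers_le.2 (σ_mem_nrm_stab ρ hu)) (mem_zpowers σ))
  by_contra h
  have h6 := eS_mem_of_not ρ hσ hσE h4 h5 hu h1 V h
  have key : ∀ y ∈ Q, ∀ x ∈ E, x ∉ A → ∃ j < r, (y * x * y⁻¹)⁻¹ * (σ ^ j * x * (σ ^ j)⁻¹) ∈ A := by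
    intro y hy x hx hxA
    by_contra hc
    push Not at hc
    have hcy : Commute σ y := (mem_cent1.1 (hQ hy)).symm
    have h7 := sum_eS_mem ρ hr hσ hσE h4 h5 hu V h6 hx hxA
    have h8 : eS ρ σ r (ρ (y * x * y⁻¹)⁻¹ (eS ρ σ r (ρ x u))) ∈ V := by
      rw [eS_eS ρ hu]
      exact V.sum_mem fun i hi => h6 _ (mul_mem (inv_mem (conj_mem_of_mem_nrm (hQE hy) hx))
        (conj_mem_of_mem_nrm (pow_mem hσE _) hx)) (hc i (Finset.mem_range.1 hi))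
    rw [show (y * x * y⁻¹)⁻¹ = y * (x⁻¹ * y⁻¹) by group, map_mul, map_mul, Module.End.mul_apply,
      Module.End.mul_apply, hV _ (inv_mem hy) _ (h6 x hx hxA), ← eS_comm' ρ hcy] at h8
    have h9 := V.sub_mem h8 h7
    rw [← hV y hy _ h7, ← map_sub, sub_sub_cancel, map_smul, V.smul_mem_iff hrk] at h9
    have h10 := hV _ (inv_mem hy) _ h9
    rw [ρ.inv_self_apply] at h10
    exact huV (h10 ▸ h9)
  have hQA : Q ≤ Nrm A := by
    refine H1.le_normalizer_of_conj_mem fun y hy a ha => ?_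
    by_contra hc
    obtain ⟨j, -, hj⟩ := key _ (inv_mem hy) _ (conj_mem_of_mem_nrm (hQE hy) (h2 ha)) hc
    have h7 := conj_mem_of_mem_nrm' (pow_mem h4 j) (mul_mem ha hj)
    exact hc (by convert h7 using 1; group)
  refine h3 (hEQ.ge.trans (commutator_le.2 fun x hx y hy => ?_))
  suffices y ∈ cI x⁻¹ A by simpa [commutatorElement_def, mul_assoc] using this.2
  by_cases hxA : x ∈ A
  · exact ⟨hQA hy, mul_mem (by simpa using hxA) (conj_mem_of_mem_nrm (hQA hy) (inv_mem hxA))⟩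
  have hxA' : x⁻¹ ∉ A := by simpa using hxA
  obtain ⟨j, hj, h7⟩ := key y hy _ (inv_mem hx) hxA'
  have h8 : (σ ^ j)⁻¹ * y ∈ cI x⁻¹ A := by
    refine ⟨mul_mem (inv_mem (pow_mem h4 j)) (hQA hy), ?_⟩
    have h9 := inv_mem (conj_mem_of_mem_nrm' (pow_mem h4 j) h7)
    convert h9 using 1; group
  have h9 := eq_zero_of_inv_pow_mul_mem hr hσ (mem_cent1.1 (hQ hy)).symm (pow_orderOf_eq_one y)
    (fun hd => hrQ (hd.trans (orderOf_dvd_card hy))) hj (fun h => hxA' (h5 _ (inv_mem hx) h)) h8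
  simpa [h9] using h8

/-! ### weights -/

section weights
variable {A : Subgroup Γ}

/-- `v` is a weight vector of weight `χ`. -/
def IsW (χ : Ch k A) (v : M) : Prop := ∀ a : A, ρ a v = (χ.hom a : k) • v

variable {ρ}

theorem IsW.conj [A.Normal] {χ : Ch k A} {v : M} (h : IsW ρ χ v) (g : Γ) :
    IsW ρ (g • χ) (ρ g v) := by
  intro a
  rw [smul_hom, ← map_smul, ← h, ← Module.End.mul_apply, ← Module.End.mul_apply, ← map_mul,
    ← map_mul]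
  simp [mul_assoc]

theorem IsW.eq {χ ψ : Ch k A} {v : M} (h : IsW ρ χ v) (h' : IsW ρ ψ v) (hv : v ≠ 0) : χ = ψ :=
  MonoidHom.ext fun a => Units.ext (smul_left_injective k hv ((h a).symm.trans (h' a)))

variable [Fintype A]

theorem isW_pr (χ : Ch k A) (v : M) : IsW ρ χ (pr ρ χ v) := pr_eig ρ χ v

theorem IsW.pr_self {χ : Ch k A} {v : M} (h : IsW ρ χ v) : pr ρ χ v = (Nat.card A : k) • v := by
  rw [pr_of_eig ρ h]; simp

theorem IsW.pr_ne {χ ψ : Ch k A} {v : M} (h : IsW ρ χ v) (hA : (Nat.card A : k) ≠ 0)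
    (hne : ψ ≠ χ) : pr ρ ψ v = 0 := by
  have h1 := pr_pr_ne ρ hne v
  rwa [h.pr_self, map_smul, smul_eq_zero, or_iff_right hA] at h1

theorem pr_comm {T : Module.End k M} (h : ∀ a : A, ∀ v, T (ρ a v) = ρ a (T v)) (χ : Ch k A)
    (v : M) : T (pr ρ χ v) = pr ρ χ (T v) := by
  simp only [pr_apply, map_sum, map_smul, h]

theorem pr_mem {W : Submodule k M} (h : ∀ a : A, ∀ v ∈ W, ρ a v ∈ W) (χ : Ch k A) {v : M}
    (hv : v ∈ W) : pr ρ χ v ∈ W := by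
  rw [pr_apply]
  exact W.sum_mem fun a _ => W.smul_mem _ (h a v hv)

theorem pr_eS [A.Normal] (hr : r.Prime) (hσ : σ ^ r = 1) (hA : (Nat.card A : k) ≠ 0) {χ : Ch k A}
    (hχ : σ • χ ≠ χ) {v : M} (h : IsW ρ χ v) : pr ρ χ (eS ρ σ r v) = (Nat.card A : k) • v := by
  rw [eS_apply, map_sum, Finset.sum_eq_single_of_mem 0 (Finset.mem_range.2 hr.pos)]
  · simpa using h.pr_self
  · intro i hi h0
    refine (h.conj _).pr_ne hA fun e => hχ ?_
    exact mem_of_pow_lt (H := MulAction.stabilizer Γ χ) hr hσ (Nat.pos_of_ne_zero h0)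
      (Finset.mem_range.1 hi) e.symm

/-- FO: on a free orbit of weights, an element trivial on traces is trivial. -/
theorem fo [A.Normal] (hr : r.Prime) (hσ : σ ^ r = 1) (hA : (Nat.card A : k) ≠ 0) {χ : Ch k A}
    (hχ : σ • χ ≠ χ) {v : M} (h : IsW ρ χ v) {y : Γ} {n : ℕ} (hc : Commute σ y) (hy : y ^ n = 1)
    (hn : ¬ r ∣ n) (he : ρ y (eS ρ σ r v) = eS ρ σ r v) : ρ y v = v := by
  have h1 : σ • y • χ ≠ y • χ := by
    rw [smul_smul, hc.eq, ← smul_smul]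
    exact fun e => hχ (MulAction.injective y e)
  have h2 := pr_eS hr hσ hA h1 (h.conj y)
  rw [← eS_comm' ρ hc, he] at h2
  by_cases h3 : y • χ = χ
  · rw [h3, pr_eS hr hσ hA hχ h] at h2
    exact (smul_right_injective M hA h2).symm
  rw [eS_apply, map_sum, Finset.sum_eq_zero] at h2
  · have h4 : ρ y v = 0 := (smul_eq_zero.1 h2.symm).resolve_left hA
    rw [← ρ.inv_self_apply y v, h4]; simp
  intro j hj
  refine (h.conj _).pr_ne hA fun e => h3 ?_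
  have h4 := eq_zero_of_inv_pow_mul_mem (H := MulAction.stabilizer Γ χ) hr hσ hc hy hn
    (Finset.mem_range.1 hj) hχ (by rw [MulAction.mem_stabilizer_iff, mul_smul, e, inv_smul_smul])
  simpa [h4] using e

variable [IsAlgClosed k]

theorem ext_pr (hc : ∀ a b : A, a * b = b * a) (hA : (Nat.card A : k) ≠ 0) {T : Module.End k M}
    {v : M} (h : ∀ χ : Ch k A, T (pr ρ χ v) = 0) : T v = 0 := by
  classical
  obtain ⟨h1, -, -⟩ := ch_facts hc hA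
  have := Fintype.ofFinite (Ch k A)
  have h2 : (Nat.card A : k) • v - ∑ χ : Ch k A, pr ρ χ v = 0 := by
    by_contra h3
    obtain ⟨ψ, hψ⟩ := supp_nonempty ρ hc hA h3
    apply hψ
    rw [map_sub, map_smul, map_sum, Finset.sum_eq_single ψ (fun χ _ h => pr_pr_ne ρ h.symm v)
      (by simp), pr_pr, sub_self]
  have h3 := congrArg T (sub_eq_zero.1 h2)
  rw [map_smul, map_sum, Finset.sum_eq_zero fun χ _ => h χ] at h3
  exact (smul_eq_zero.1 h3).resolve_left hA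

end weights

end H76
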