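import Cfsg.Agent.Base
import Cfsg.Agent.H76.TuA
import Cfsg.Agent.H22.HHExtra

/-! Turull's theorem, part B: a normal subgroup whose commutators act as scalars. -/

set_option autoImplicit false

namespace H76

open Module Polynomial H22 H46 H48 Subgroup Cfsg H26.CF
open scoped commutatorElement

universe u

variable {Γ : Type u} [Group Γ]

/-- Elements of `P` fixed by `a` modulo `C(P)`. -/
def Fx (P : Subgroup Γ) [hP : P.Normal] (a : Γ) : Subgroup Γ where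
  carrier := {t | t ∈ P ∧ t⁻¹ * (a * t * a⁻¹) ∈ Cent P}
  mul_mem' := fun {s t} hs ht => ⟨mul_mem hs.1 ht.1, by
    have := mul_mem ((inferInstance : (Cent P).Normal).conj_mem' _ hs.2 t) ht.2
    convert this using 1; group⟩
  one_mem' := ⟨one_mem _, by simp⟩
  inv_mem' := fun {t} ht => ⟨inv_mem ht.1, by
    have := (inferInstance : (Cent P).Normal).conj_mem _ (inv_mem ht.2) t
    convert this using 1; group⟩

/-- Elements acting trivially on `T` modulo `C(P)`. -/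
def KT (P T : Subgroup Γ) : Subgroup Γ := ⨅ t ∈ T, cI t (Cent P)

variable {P : Subgroup Γ} [hPn : P.Normal]

theorem mem_Fx {a t : Γ} : t ∈ Fx P a ↔ t ∈ P ∧ t⁻¹ * (a * t * a⁻¹) ∈ Cent P := Iff.rfl

theorem mem_cI_cent {a t : Γ} : a ∈ cI t (Cent P) ↔ t⁻¹ * (a * t * a⁻¹) ∈ Cent P :=
  ⟨fun h => h.2, fun h => ⟨le_normalizer_of_normal (mem_top a), h⟩⟩

theorem mem_KT {T : Subgroup Γ} {a : Γ} :
    a ∈ KT P T ↔ ∀ t ∈ T, t⁻¹ * (a * t * a⁻¹) ∈ Cent P := by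
  simp [KT, mem_iInf, mem_cI_cent]

theorem nrm_le_nrm_KT [Finite Γ] (T : Subgroup Γ) : Nrm T ≤ Nrm (KT P T) := by
  refine H1.le_normalizer_of_conj_mem fun g hg a ha => mem_KT.2 fun t ht => ?_
  have := (inferInstance : (Cent P).Normal).conj_mem _
    (mem_KT.1 ha _ (conj_mem_of_mem_nrm' hg ht)) g
  convert this using 1; group

instance normal_KT [Finite Γ] : (KT P P).Normal := by
  rw [← normalizer_eq_top_iff, eq_top_iff]
  exact le_trans le_normalizer_of_normal (nrm_le_nrm_KT P)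

theorem Fx_le (a : Γ) : Fx P a ≤ P := fun _ h => h.1

theorem zc_le_Fx (a : Γ) : P ⊓ Cent P ≤ Fx P a := fun _ ht =>
  ⟨ht.1, mul_mem (inv_mem ht.2) ((inferInstance : (Cent P).Normal).conj_mem _ ht.2 a)⟩

theorem cent1_le_Fx (a : Γ) : P ⊓ Cent1 a ≤ Fx P a := fun t ht =>
  ⟨ht.1, by rw [← mem_cent1.1 ht.2]; simp⟩

theorem Fx_congr {a b : Γ} (h : a⁻¹ * b ∈ KT P P) : Fx P a ≤ Fx P b := fun t ht => ⟨ht.1, by
  have := mul_mem (mem_cI_cent.2 ht.2) (mem_cI_cent.2 (mem_KT.1 h t ht.1))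
  simpa using mem_cI_cent.1 this⟩

theorem mem_nrm_Fx [Finite Γ] {a g : Γ} (h : a⁻¹ * (g * a * g⁻¹) ∈ KT P P) : g ∈ Nrm (Fx P a) := by
  refine inv_mem_iff.1 (mem_nrm_of_cj_le fun t ht => ?_)
  rw [mem_cj, inv_inv] at ht
  have h1 := Fx_congr h ht
  refine ⟨by simpa [mul_assoc] using hPn.conj_mem' _ ht.1 g, ?_⟩
  have h2 := (inferInstance : (Cent P).Normal).conj_mem' _ h1.2 g
  convert h2 using 1; group

theorem mem_nrm_Fx_of_commute [Finite Γ] {a g : Γ} (h : Commute g a) : g ∈ Nrm (Fx P a) :=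
  mem_nrm_Fx (by rw [h.eq]; simp)

theorem orth (hz : ⁅P, P⁆ ≤ center Γ) {B : Subgroup Γ} {t : Γ} (ht : t ∈ P)
    (h : ∀ a ∈ B, t ∈ Fx P a) : t ∈ Cent ⁅P, B⁆ := by
  rw [← le_cent1_iff, commutator_le]
  intro s hs a ha
  have h1 := mem_center_iff.1 (hz (commutator_mem_commutator ht hs))
  have h2 : ∀ x ∈ P, _ := mem_cent.1 (h _ (inv_mem ha)).2
  set z := ⁅t, s⁆ with hzd
  set δ := t⁻¹ * (a⁻¹ * t * a⁻¹⁻¹) with hδ
  have e1 : t * s * t⁻¹ = z * s := by rw [hzd, commutatorElement_def]; group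
  have e2 : t * (a * s⁻¹ * a⁻¹) * t⁻¹ = a * (t * (δ * s⁻¹ * δ⁻¹) * t⁻¹) * a⁻¹ := by
    rw [hδ]; group
  have e3 : δ * s⁻¹ * δ⁻¹ = s⁻¹ := by rw [← h2 _ (inv_mem hs)]; group
  have e4 : t * s⁻¹ * t⁻¹ = (z * s)⁻¹ := by rw [← e1]; group
  rw [mem_cent1, commutatorElement_def]
  have e5 : a * (z * s)⁻¹ * a⁻¹ = a * s⁻¹ * a⁻¹ * z⁻¹ := by
    rw [mul_inv_rev, mul_assoc, mul_assoc, ← mul_inv_rev, h1 a]; group
  calc s * a * s⁻¹ * a⁻¹ * t = (s * a * s⁻¹ * a⁻¹ * z) * z⁻¹ * t := by group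
    _ = (t * s * t⁻¹) * (t * (a * s⁻¹ * a⁻¹) * t⁻¹) * t := by
        rw [e1, e2, e3, e4, e5, h1]; group
    _ = _ := by group

theorem orth_Fx (hz : ⁅P, P⁆ ≤ center Γ) (a : Γ) : Fx P a ≤ Cent ⁅P, zpowers a⁆ := fun _ ht =>
  orth hz ht.1 fun _ hb => ⟨ht.1, mem_cI_cent.1 (zpowers_le.2 (mem_cI_cent.2 ht.2) hb)⟩

theorem cent_of_cent_cent [Finite Γ] {B : Subgroup Γ} (hc : (Nat.card B).Coprime (Nat.card P))
    (hs : Group.IsSolvable P) {t : Γ} (h1 : t ∈ Cent ⁅P, B⁆) (h2 : t ∈ Cent (P ⊓ Cent B)) :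
    t ∈ Cent P := by
  rw [← coprime_cent_prod (K := P) (A := B) le_normalizer_of_normal hc (Or.inr hs), cent_sup]
  exact ⟨h1, h2⟩

theorem nondeg [Finite Γ] (hz : ⁅P, P⁆ ≤ center Γ) {B : Subgroup Γ}
    (hc : (Nat.card B).Coprime (Nat.card P)) (hs : Group.IsSolvable P) :
    ⁅P, B⁆ ⊓ Cent ⁅P, B⁆ ≤ Cent P := fun _ ht =>
  cent_of_cent_cent hc hs ht.2 (le_cent_symm (H := P ⊓ Cent B) (fun _ hc => orth hz hc.1 fun _ ha =>
    cent1_le_Fx _ ⟨hc.1, cent_le_cent1 ha hc.2⟩) ht.1)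

theorem le_KT_iff {B : Subgroup Γ} : B ≤ KT P P ↔ ⁅P, B⁆ ≤ Cent P := by
  rw [commutator_le]
  refine ⟨fun h t ht a ha => ?_, fun h a ha => mem_KT.2 fun t ht => ?_⟩
  · simpa [commutatorElement_def, mul_assoc] using mem_KT.1 (h ha) _ (inv_mem ht)
  · simpa [commutatorElement_def, mul_assoc] using h _ (inv_mem ht) a ha

omit hPn in
theorem dvd_relIndex_sub_one [Finite Γ] {σ : Γ} {r : ℕ} (hr : r.Prime) (hσ : σ ^ r = 1)
    {U V : Subgroup Γ} (hUV : U ≤ V) (hU : σ ∈ Nrm U) (hV : σ ∈ Nrm V) (h : V ⊓ Cent1 σ ≤ U)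
    (hrU : ¬ r ∣ Nat.card U) : r ∣ U.relIndex V - 1 := by
  by_cases h1 : σ = 1
  · rw [relIndex_eq_one.2 fun t ht => h ⟨ht, by simp [h1]⟩]; simp
  have := Fact.mk hr
  have h2 := card_dvd_sub_of_semiregular (zpowers σ) V U hUV (zpowers_le.2 hV) (zpowers_le.2 hU)
    fun y hy hy1 => le_trans (inf_le_inf_left _ (cent1_le_of_mem_zpowers (by
      rw [eq_zpowers_of_card_prime (K := zpowers σ)
        (by rw [card_zpowers', orderOf_eq_prime hσ h1]; exact hr) hy hy1]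
      exact mem_zpowers σ))) h
  rw [card_zpowers', orderOf_eq_prime hσ h1, ← card_mul_relIndex hUV, ← Nat.mul_sub_one] at h2
  exact ((Nat.Prime.dvd_mul hr).1 h2).resolve_left hrU

theorem irr [Finite Γ] {σ : Γ} {r : ℕ} (hr : r.Prime) (hσ : σ ^ r = 1) (hrP : ¬ r ∣ Nat.card P)
    {A U : Subgroup Γ} (hA : A ≤ P) (hσA : σ ∈ Nrm A) (hf : A ⊓ Cent1 σ ≤ Cent P)
    (h1 : A ⊓ Cent P ≤ U) (h2 : U ≤ A) (hσU : σ ∈ Nrm U) (h3 : ¬ U ≤ Cent P) (h4 : ¬ A ≤ U) :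
    ∃ a b, a * b = (Cent P).relIndex A ∧ r + 1 ≤ a ∧ r + 1 ≤ b ∧ r ∣ a - 1 ∧ r ∣ b - 1 := by
  have h5 := dvd_relIndex_sub_one hr hσ (U := A ⊓ Cent P) (V := U) h1
    (nrm_inf (zpowers_le.2 hσA) le_normalizer_of_normal (mem_zpowers σ)) hσU
    (fun t ht => ⟨h2 ht.1, hf ⟨h2 ht.1, ht.2⟩⟩)
    fun h => hrP (h.trans (card_dvd_of_le (inf_le_left.trans hA)))
  have h6 := dvd_relIndex_sub_one hr hσ h2 hσU hσA (fun t ht => h1 ⟨ht.1, hf ht⟩)
    fun h => hrP (h.trans (card_dvd_of_le (h2.trans hA)))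
  have key : ∀ a : ℕ, 0 < a → a ≠ 1 → r ∣ a - 1 → r + 1 ≤ a := fun a h0 h1 h =>
    by have := Nat.le_of_dvd (by omega) h; omega
  refine ⟨_, _, ?_, key _ (relIndex_pos _ _) (fun h => h3 ((relIndex_eq_one.1 h).trans inf_le_right))
    h5, key _ (relIndex_pos _ _) (fun h => h4 (relIndex_eq_one.1 h)) h6, h5, h6⟩
  rw [relIndex_mul_relIndex _ _ _ h1 h2, inf_relIndex_left]

variable {k X : Type*} [Field k] [AddCommGroup X] [Module k X]

/-- The elements acting as scalars. -/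
def scal (ρ : Representation k Γ X) : Subgroup Γ where
  carrier := {g | ∃ c : k, ∀ v, ρ g v = c • v}
  mul_mem' := by
    rintro a b ⟨c, hc⟩ ⟨d, hd⟩
    exact ⟨d * c, fun v => by rw [map_mul, Module.End.mul_apply, hd, map_smul, hc, mul_smul]⟩
  one_mem' := ⟨1, by simp⟩
  inv_mem' := by
    rintro a ⟨c, hc⟩
    refine ⟨c⁻¹, fun v => ?_⟩
    have h1 := ρ.self_inv_apply a v
    rw [hc] at h1
    by_cases h : c = 0
    · rw [h, zero_smul] at h1; simp [← h1]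
    · conv_rhs => rw [← h1, smul_smul, inv_mul_cancel₀ h, one_smul]

variable {ρ : Representation k Γ X}

omit hPn in
theorem scal_le_center (hρ : Function.Injective ρ) : scal ρ ≤ center Γ := by
  rintro g ⟨c, hc⟩
  rw [mem_center_iff]
  intro s
  apply hρ
  ext v
  simp [hc]

omit hPn in
theorem hhw [Finite Γ] [IsAlgClosed k] [FiniteDimensional k X] (hρ : Function.Injective ρ)
    (hsc : ⁅P, P⁆ ≤ scal ρ) {A : Subgroup Γ} (hA : A ≤ P) {x : Γ} (hx : x ∈ Nrm A)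
    (W : Submodule k X) (hW : W ≠ ⊥) (hAW : ∀ t ∈ A, ∀ w ∈ W, ρ t w ∈ W) (hxW : ∀ w ∈ W, ρ x w ∈ W)
    (hDs : ∀ t ∈ A ⊓ Cent P, ∃ c : k, ∀ w ∈ W, ρ t w = c • w) (hnd : A ⊓ Cent A ≤ Cent P) (h : ℕ)
    (horb : ∀ t ∈ A, ∀ i, 0 < i → i < h → x ^ i ∈ cI t (Cent P) → t ∈ Cent P)
    (hne : ¬ A ≤ Cent P) (hn : x ∈ Nrm (Cent P)) (g : k[X]) (hg0 : g ≠ 0)
    (hg : ∀ w ∈ W, aeval (ρ x) g w = 0) :
    ∃ d, d ^ 2 = (Cent P).relIndex A ∧ 2 ≤ d ∧ h ≤ d + 1 ∧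
      (g.natDegree < h → d + 1 = h ∧ g.natDegree = d) := by
  have : Nontrivial W := Submodule.nontrivial_iff_ne_bot.2 hW
  let σ : Representation k A W := Representation.subrepresentation (ρ.comp A.subtype) W
    fun t w hw => hAW t t.2 w hw
  have hσ : ∀ (t : A) (w : W), (σ t w : X) = ρ t w := fun _ _ => rfl
  let α : MulAut A := A.normalizerMonoidHom ⟨x, hx⟩
  have hαi : ∀ (i : ℕ) (t : A), ((α ^ i) t : Γ) = x ^ i * t * (x ^ i)⁻¹ := by
    intro i t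
    rw [← map_pow]; rfl
  obtain ⟨M, hM, hM0, -, hdim, hcen⟩ := hh_core σ ((Cent P).subgroupOf A)
    (fun z hz => by
      obtain ⟨c, hc⟩ := hDs z ⟨z.2, hz⟩
      exact ⟨c, by ext w; exact hc w w.2⟩)
    (fun s t => center_le_centralizer _ (scal_le_center hρ
      (hsc (commutator_mem_commutator (hA s.2) (hA t.2)))))
    (fun t ht => hnd ⟨t.2, fun s hs => by
      obtain ⟨c, hc⟩ := hsc (commutator_mem_commutator (hA hs) (hA t.2))
      obtain ⟨w, hw⟩ := exists_ne (0 : W)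
      have h1 := (rep_comm_iff σ _ _).1 (ht ⟨s, hs⟩)
      have h2 : ρ ⁅s, (t : Γ)⁆ w = w := congrArg (fun T : Module.End k W => (T w : X)) h1
      rw [hc] at h2
      have h3 : c = 1 := smul_left_injective k (fun e => hw (Subtype.ext e))
        (h2.trans (one_smul k (w : X)).symm)
      refine commutatorElement_eq_one_iff_mul_comm.1 (hρ ?_)
      ext v; simp [hc, h3]⟩)
    α ((ρ x).restrict hxW)
    (fun a b hab => Subtype.ext (by
      have h1 : ρ x a = ρ x b := congrArg Subtype.val hab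
      rw [← ρ.inv_self_apply x a, h1, ρ.inv_self_apply]))
    (fun t => by
      ext w
      change ρ x (ρ t w) = ρ (x * t * x⁻¹) (ρ x w)
      simp) h
    (fun t ht i h0 hi hm => ht (horb t t.2 i h0 hi ⟨pow_mem hn i, by
      rw [← hαi]; exact hm⟩))
  obtain ⟨parts, h1, h2⟩ := exists_parts_of_aeval_eq_zero (((ρ x).restrict hxW).restrict hM) g hg0 (by
      ext v
      rw [aeval_restrict_apply, aeval_restrict_apply]
      exact hg _ v.1.2)
  have hd2 : 2 ≤ finrank k M := by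
    have h3 : finrank k M ≠ 0 := fun h => hM0 (Submodule.finrank_eq_zero.1 h)
    have h4 : finrank k M ≠ 1 := fun h => hne (by
      rw [h, one_pow, eq_comm, index_eq_one, subgroupOf_eq_top] at hdim; exact hdim)
    omega
  have h5 := le_trans (Nat.succ_le_succ (Nat.mul_le_mul_left h h2)) hcen
  refine ⟨_, hdim, hd2, ?_, fun hs => hh_arith_lt h _ _ parts hs hd2 h1 h5⟩
  have h6 : finrank k M ≤ ∑ j ∈ Finset.range g.natDegree, parts j ^ 2 := by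
    rw [← h1]
    exact Finset.sum_le_sum fun j _ => Nat.le_self_pow two_ne_zero _
  have h7 := Nat.mul_le_mul_left h h6
  obtain ⟨d, hd⟩ := Nat.exists_eq_add_of_le' hd2
  rw [hd] at h5 h7 ⊢
  nlinarith

theorem natCast_card_pgroup [Finite Γ] {p : ℕ} [Fact p.Prime] {A : Subgroup Γ} (hA : IsPGroup p A)
    (hp : (p : k) ≠ 0) : (Nat.card A : k) ≠ 0 := by
  obtain ⟨n, hn⟩ := hA.exists_card_eq
  simp [hn, hp]

theorem sc_of_fix [Finite Γ] (hsc : ⁅P, P⁆ ≤ scal ρ) {σ : Γ}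
    (hc : (Nat.card (zpowers σ)).Coprime (Nat.card P)) (W : Submodule k X)
    (hE : ∀ e ∈ ⁅Zc P, zpowers σ⁆, ∀ w ∈ W, ρ e w = w) :
    ∀ t ∈ ⁅P, zpowers σ⁆ ⊓ Cent P, ∃ c : k, ∀ w ∈ W, ρ t w = c • w := by
  intro t ht
  have h1 : ⁅P, zpowers σ⁆ ≤ P := commutator_le_left _ _
  obtain ⟨c, hc1, e, he, rfl⟩ := H1.exists_centralizer_mul_commutator (A := zpowers σ) (K := Zc P)
    le_normalizer_of_normal (coprime_of_le hc le_rfl inf_le_left) (Or.inl (sol_zpowers σ))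
    ⟨h1 ht.1, ht.2⟩
  have h2 : c ∈ ⁅P, zpowers σ⁆ := by
    simpa using Subgroup.mul_mem _ ht.1 (Subgroup.inv_mem _ (commutator_mono inf_le_left le_rfl he))
  obtain ⟨γ, hγ⟩ := hsc (der_mono h1 (centralizer_le_commutator_of_commutator_eq
    (nrm_commutator_right _ _) (coprime_of_le hc le_rfl h1)
    (coprime_commGid le_normalizer_of_normal hc (Or.inl (sol_zpowers σ))) ⟨h2, hc1.2⟩))
  exact ⟨γ, fun w hw => by rw [map_mul, Module.End.mul_apply, hE e he w hw, hγ]⟩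

omit hPn in
theorem comm_fix_of_smul_eq {A : Subgroup Γ} [A.Normal] {σ : Γ} {χ : Ch k A} (hχ : σ • χ = χ)
    {v : X} (hv : IsW ρ χ v) : ⁅A, zpowers σ⁆ ≤ stab ρ v := by
  rw [commutator_le]
  intro a ha b hb
  have h1 : b⁻¹ • χ = χ := (zpowers_le (H := MulAction.stabilizer Γ χ)).2 hχ (inv_mem hb)
  have h2 := hv (⟨a, ha⟩ * (MulAut.conjNormal b⁻¹⁻¹ ⟨a, ha⟩)⁻¹)
  rw [map_mul χ.hom, map_inv χ.hom, ← smul_hom, h1, mul_inv_cancel] at h2
  simpa [commutatorElement_def, mul_assoc, mem_stab] using h2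

omit hPn in
theorem comm_fix_of_wt [Finite Γ] [IsAlgClosed k] {A : Subgroup Γ} [A.Normal]
    (hc : IsMulCommutative A) (hA : (Nat.card A : k) ≠ 0) {σ : Γ} (W : Submodule k X)
    (hW : ∀ a : A, ∀ v ∈ W, ρ a v ∈ W)
    (h : ∀ (χ : Ch k A), ∀ v ∈ W, IsW ρ χ v → v ≠ 0 → σ • χ = χ) :
    ∀ e ∈ ⁅A, zpowers σ⁆, ∀ w ∈ W, ρ e w = w := by
  intro e he w hw
  have := Fintype.ofFinite A
  have h1 := ext_pr (ρ := ρ) hc.is_comm.comm hA (T := ρ e - 1) (v := w) fun χ => by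
    by_cases h0 : pr ρ χ w = 0
    · simp [h0]
    · simpa [sub_eq_zero, mem_stab] using
        comm_fix_of_smul_eq (h χ _ (pr_mem hW χ hw) (isW_pr χ w) h0) (isW_pr χ w) he
  simpa [sub_eq_zero] using h1

omit hPn in
theorem fixSp_inv {E : Subgroup Γ} {g : Γ} (hg : g ∈ Nrm E) {v : X}
    (hv : v ∈ fixSp ρ (E : Set Γ)) : ρ g v ∈ fixSp ρ (E : Set Γ) := by
  intro e he
  have := hv _ (conj_mem_of_mem_nrm' hg he)
  conv_rhs => rw [← this]
  simp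

omit hPn in
theorem aeval_geom (σ : Γ) (r : ℕ) :
    aeval (ρ σ) (∑ i ∈ Finset.range r, (Polynomial.X : k[X]) ^ i) = eS ρ σ r := by
  simp [eS]

/-- The exceptional case: a nonzero invariant subspace on which the trace of `σ` vanishes. -/
theorem exc [Finite Γ] [IsAlgClosed k] [FiniteDimensional k X] (hρ : Function.Injective ρ)
    (hsc : ⁅P, P⁆ ≤ scal ρ) {p : ℕ} [Fact p.Prime] (hP : IsPGroup p P) (hpk : (p : k) ≠ 0)
    {σ : Γ} {r : ℕ} (hr : r.Prime) (hσ : σ ^ r = 1) (hrP : ¬ r ∣ Nat.card P)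
    (Y : Submodule k X) (hY : Y ≠ ⊥) (hYP : ∀ x ∈ P, ∀ v ∈ Y, ρ x v ∈ Y)
    (hYσ : ∀ v ∈ Y, ρ σ v ∈ Y) (hYe : ∀ v ∈ Y, eS ρ σ r v = 0)
    (hne : ¬ ⁅P, zpowers σ⁆ ≤ Cent P) :
    (Cent P).relIndex ⁅P, zpowers σ⁆ = (r - 1) ^ 2 ∧
      ∀ y ∈ Cent1 σ, ¬ r ∣ orderOf y → ⁅P, zpowers σ⁆ ≤ Fx P y := by
  have hz := hsc.trans (scal_le_center hρ)
  have hc := coprime_zpowers_prime hr hσ hrP
  have hs := H1.isSolvable_of_isPGroup hP
  have h1 : ⁅P, zpowers σ⁆ ≤ P := commutator_le_left _ _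
  have hD := natCast_card_pgroup (k := k) (hP.to_le (inf_le_left : Zc P ≤ P)) hpk
  have := Fintype.ofFinite (Zc P)
  have hE := comm_fix_of_wt (ρ := ρ) (comm_zc P) hD (σ := σ) Y (fun a => hYP a a.2.1)
    fun χ v hv hw h0 => by
      by_contra h
      have h2 := pr_eS hr hσ hD h hw
      rw [hYe v hv, map_zero] at h2
      exact h0 ((smul_eq_zero.1 h2.symm).resolve_left hD)
  have hσA : σ ∈ Nrm ⁅P, zpowers σ⁆ := nrm_commutator_right _ _ (mem_zpowers σ)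
  have hfp : ∀ t ∈ ⁅P, zpowers σ⁆, σ ∈ cI t (Cent P) → t ∈ Cent P := fun t ht h =>
    nondeg hz hc hs ⟨ht, orth_Fx hz σ ⟨h1 ht, h.2⟩⟩
  obtain ⟨g0, g1⟩ := natDegree_geom_sum_X (K := k) r hr.pos
  obtain ⟨d, hd, hd2, -, hd3⟩ := hhw hρ hsc h1 hσA Y hY (fun t ht => hYP t (h1 ht)) hYσ
    (sc_of_fix hsc hc Y hE) (nondeg hz hc hs) r
    (fun t ht i h0 hi h => hfp t ht (mem_of_pow_lt hr hσ h0 hi h)) hne
    (le_normalizer_of_normal (mem_top _)) _ g0 (by rwa [aeval_geom])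
  obtain ⟨rfl, -⟩ := hd3 (by omega)
  refine ⟨hd.symm, fun y hy hry => ?_⟩
  by_contra hy'
  have hcy : Commute σ y := (mem_cent1.1 hy).symm
  have hU : ⁅P, zpowers σ⁆ ⊓ Fx P y ≤ Cent P := by
    by_contra hU
    obtain ⟨a, b, e, ha, hb, -⟩ := irr hr hσ hrP h1 hσA
      (fun t ht => hfp t ht.1 (mem_cI_cent.2 (cent1_le_Fx σ ⟨h1 ht.1, ht.2⟩).2))
      (U := ⁅P, zpowers σ⁆ ⊓ Fx P y) (fun t ht => ⟨ht.1, zc_le_Fx y ⟨h1 ht.1, ht.2⟩⟩) inf_le_left
      (nrm_inf (zpowers_le.2 hσA) (zpowers_le.2 (mem_nrm_Fx_of_commute hcy)) (mem_zpowers σ)) hU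
      fun h => hy' (h.trans inf_le_right)
    nlinarith [Nat.mul_le_mul ha hb]
  have hyz : y ∈ Nrm (zpowers σ) := cent1_le_nrm_zpowers σ hy
  have hσz : σ ∈ Nrm (zpowers σ) := le_nrm_self (mem_zpowers σ)
  have hn : ∀ H : Subgroup Γ, H.Normal → σ * y ∈ Nrm ⁅H, zpowers σ⁆ := fun H _ =>
    nrm_commutator le_normalizer_of_normal (zpowers_le.2 (mul_mem hσz hyz)) (mem_zpowers _)
  obtain ⟨d', hd', -, h2, -⟩ := hhw hρ hsc h1 (hn P inferInstance)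
    (fixSp ρ (⁅Zc P, zpowers σ⁆ : Subgroup Γ))
    (fun h => hY (eq_bot_iff.2 fun v hv => h.le fun e he => hE e he v hv))
    (fun t ht w hw => fixSp_inv (cent_le_nrm _ (le_cent_symm
      ((commutator_le_left _ _).trans inf_le_right) (h1 ht))) hw)
    (fun w hw => fixSp_inv (hn _ inferInstance) hw)
    (sc_of_fix hsc hc _ fun e he w hw => hw e he) (nondeg hz hc hs) (d + 1 + 1)
    (fun t ht i h0 hi h => by
      by_contra ht'
      have h3 : d + 1 ∣ i := by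
        by_contra h3
        have h4 := pow_mem h (orderOf y)
        rw [hcy.mul_pow, ((hcy.pow_left i).pow_right i).mul_pow, ← pow_mul y, mul_comm i, pow_mul y,
          pow_orderOf_eq_one, one_pow, mul_one, ← pow_mul] at h4
        exact ht' (hfp t ht (mem_of_pow_prime hr hσ (fun hd => by
          rcases (Nat.Prime.dvd_mul hr).1 hd with hd | hd
          exacts [h3 hd, hry hd]) h4))
      obtain rfl : i = d + 1 := le_antisymm (by omega) (Nat.le_of_dvd h0 h3)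
      rw [hcy.mul_pow, hσ, one_mul] at h
      have h4 := mem_of_pow_pow ((Nat.Prime.coprime_iff_not_dvd hr).2 hry) h
        (by rw [pow_orderOf_eq_one]; exact one_mem _)
      exact ht' (hU ⟨ht, h1 ht, h4.2⟩)) hne (le_normalizer_of_normal (mem_top _))
    (ρ (σ * y)).charpoly (LinearMap.charpoly_monic _).ne_zero
    (by rw [LinearMap.aeval_self_charpoly]; simp)
  have h3 : d' = d := Nat.pow_left_injective two_ne_zero (hd'.trans hd.symm)
  omega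

end H76
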