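import Cfsg.Agent.Base
import Cfsg.Agent.H76.TuB
import Cfsg.Agent.H5.Wielandt

/-! Turull's theorem, part C: the exceptional case does not occur; the layer theorems. -/

set_option autoImplicit false

namespace H76

open Module Polynomial H22 H46 H48 Subgroup Cfsg H26.CF
open scoped commutatorElement

universe u

theorem fw_act {S B : Type u} [Group S] [Finite S] [Nontrivial S] [Group B]
    (hS : Group.IsSolvable S) (φ : B →* MulAut S) (A : Subgroup B) {σ : B} {r : ℕ} (hr : r.Prime)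
    (hσ : σ ^ r = 1) (hσA : σ ∈ Nrm A) (hcA : (Nat.card S).Coprime (Nat.card A))
    (hrS : ¬ r ∣ Nat.card S) (hf : ∀ a ∈ A, φ (a⁻¹ * (σ * a * σ⁻¹)) = 1 → φ a = 1)
    (h0 : ∀ s, (∀ a ∈ A, φ a s = s) → s = 1) :
    Nat.card S = Nat.card {s // φ σ s = s} ^ r := by
  obtain ⟨Γ, _, _, i, j, hi, hj, hn, hij, -⟩ := exists_ambient (MonoidHom.id (MulAut S))
  let ψ := j.comp φ
  have hψ : ∀ b s, i (φ b s) = ψ b * i s * (ψ b)⁻¹ := fun b s => hij (φ b) s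
  have hψ1 : ∀ b, ψ b = 1 ↔ φ b = 1 := fun b => (injective_iff_map_eq_one' j).1 hj _
  have hK : A.map ψ ≠ ⊥ := by
    intro h
    obtain ⟨s, hs⟩ := exists_ne (1 : S)
    refine hs (h0 s fun a ha => ?_)
    rw [(hψ1 a).1 (mem_bot.1 (h.le ⟨a, ha, rfl⟩))]; rfl
  have hC : A.map ψ ⊓ Cent (zpowers (ψ σ)) = ⊥ := by
    rw [eq_bot_iff, cent_zpowers]
    rintro _ ⟨⟨a, ha, rfl⟩, h⟩
    refine (hψ1 a).2 (hf a ha ((hψ1 _).1 ?_))
    simp only [map_mul, map_inv, ← mem_cent1.1 h]; group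
  have hσ1 : ψ σ ≠ 1 := by
    intro h
    apply hK
    rw [← hC, h]; simp
  have := Fact.mk hr
  have hR : Nat.card (zpowers (ψ σ)) = r := by
    rw [card_zpowers', orderOf_eq_prime (by rw [← map_pow, hσ, map_one]) hσ1]
  have hn' : zpowers (ψ σ) ≤ Nrm (A.map ψ) := zpowers_le.2 (mem_normalizer_map ψ hσA)
  let e : S ≃* i.range := MonoidHom.ofInjective hi
  have h1 := H5.frobenius_wielandt_card (M := i.range)
    (isFrob_sup hn' hK (by simpa using hσ1) (semiregular_of_prime (hR ▸ hr) hC))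
    le_normalizer_of_normal (by
      rw [← Nat.card_congr e.toEquiv]
      refine Nat.Coprime.coprime_dvd_right (card_sup_dvd hn') (Nat.Coprime.mul_right
        (hcA.coprime_dvd_right (card_map_dvd A ψ)) ?_)
      rw [hR]; exact ((Nat.Prime.coprime_iff_not_dvd hr).2 hrS).symm)
    (H2.isSolvable_of_mulEquiv e) (by
      rw [eq_bot_iff]
      rintro _ ⟨⟨s, rfl⟩, h⟩
      rw [h0 s fun a ha => hi (by rw [hψ, h _ ⟨a, ha, rfl⟩]; simp), map_one]
      exact one_mem _)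
  rw [← Nat.card_congr e.toEquiv, hR, cent_zpowers] at h1
  rw [h1]
  congr 1
  symm
  refine Nat.card_congr (Equiv.ofBijective (fun s => ⟨i s.1, ⟨s.1, rfl⟩, mem_cent1.2 (by
    conv_lhs => rw [← s.2, hψ]
    simp)⟩) ⟨fun a b h => Subtype.ext (hi (congrArg Subtype.val h)), ?_⟩)
  rintro ⟨_, ⟨s, rfl⟩, h⟩
  exact ⟨⟨s, hi (by rw [hψ, ← mem_cent1.1 h]; simp)⟩, rfl⟩

variable {Γ : Type u} [Group Γ] [Finite Γ] {P : Subgroup Γ} [hPn : P.Normal]

theorem relIndex_Fx_le (hz : ⁅P, P⁆ ≤ center Γ) {σ : Γ}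
    (hc : (Nat.card (zpowers σ)).Coprime (Nat.card P)) {A : Subgroup Γ} (hA : A ≤ P) :
    (Fx P σ).relIndex A ≤ (Cent P).relIndex ⁅P, zpowers σ⁆ := by
  have h1 : ⁅P, zpowers σ⁆ ≤ P := commutator_le_left _ _
  have h2 : Fx P σ ⊔ ⁅P, zpowers σ⁆ = P := by
    refine le_antisymm (sup_le (Fx_le σ) h1) ?_
    conv_lhs => rw [← coprime_cent_prod (K := P) le_normalizer_of_normal hc (Or.inl (sol_zpowers σ))]
    exact sup_le le_sup_right (le_sup_of_le_left (by rw [cent_zpowers]; exact cent1_le_Fx σ))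
  have h3 : P ≤ Nrm (Fx P σ) := nrm_of_der_le
    ((le_inf (der_le P) (hz.trans (center_le_centralizer _))).trans (zc_le_Fx σ)) (Fx_le σ)
  refine (relIndex_le_of_le_right hA (relIndex_pos _ _).ne').trans ?_
  have h4 := relIndex_sup_of_nrm (h1.trans h3)
  rw [h2] at h4
  rw [h4, ← inf_relIndex_right (Cent P)]
  exact relIndex_le_of_le_left (fun t ht => zc_le_Fx σ ⟨h1 ht.2, ht.1⟩) (relIndex_pos _ _).ne'

theorem three_pow_le (hz : ⁅P, P⁆ ≤ center Γ) (hs : Group.IsSolvable P) {σ : Γ} {r : ℕ}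
    (hr : r.Prime) (hσ : σ ^ r = 1) (hrP : ¬ r ∣ Nat.card P) {A : Subgroup Γ} (hσA : σ ∈ Nrm A)
    (hc : (Nat.card A).Coprime (Nat.card P)) (hA : ¬ A ≤ KT P P)
    (hf : ∀ a ∈ A, a⁻¹ * (σ * a * σ⁻¹) ∈ KT P P → a ∈ KT P P) :
    3 ^ (r - 1) ≤ (Cent P).relIndex ⁅P, zpowers σ⁆ := by
  have hcσ := coprime_zpowers_prime hr hσ hrP
  set T := ⁅P, A⁆ with hT
  have h1 : T ≤ P := commutator_le_left _ _
  have hσT : σ ∈ Nrm T := nrm_commutator le_normalizer_of_normal (zpowers_le.2 hσA) (mem_zpowers σ)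
  have hAT : A ≤ Nrm T := nrm_commutator_right _ _
  have hnd : T ⊓ Cent T ≤ Cent P := nondeg hz hc hs
  let φ := H5.quotAut T.normalizerMonoidHom ((Cent P).subgroupOf T) fun a t ht =>
    (inferInstance : (Cent P).Normal).conj_mem _ ht a
  have hφ : ∀ (a : Nrm T) (t : T), φ a t = t ↔ (t : Γ)⁻¹ * (a * t * (a : Γ)⁻¹) ∈ Cent P := by
    intro a t
    exact eq_comm.trans QuotientGroup.eq
  have hφ1 : ∀ a : Nrm T, (a : Γ) ∈ A → (φ a = 1 ↔ (a : Γ) ∈ KT P P) := by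
    intro a ha
    constructor
    · intro h
      rw [← zpowers_le, le_KT_iff, ← coprime_commGid le_normalizer_of_normal
        (coprime_of_le hc (zpowers_le.2 ha) le_rfl) (Or.inr hs)]
      refine le_trans (commutator_mono (commutator_mono le_rfl (zpowers_le.2 ha)) le_rfl)
        (commutator_le.2 fun t ht b hb => ?_)
      have h2 := (zpowers_le (H := cI t⁻¹ (Cent P))).2
        (mem_cI_cent.2 ((hφ a ⟨_, inv_mem ht⟩).1 (by rw [h]; rfl))) hb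
      simpa [commutatorElement_def, mul_assoc] using h2.2
    · intro h
      ext t
      induction t using QuotientGroup.induction_on with | H t => ?_
      exact (hφ a t).2 (mem_KT.1 h _ (h1 t.2))
  have hne : ¬ T ≤ Cent P := fun h => hA (le_KT_iff.2 h)
  have hnt : Nontrivial (T ⧸ (Cent P).subgroupOf T) :=
    QuotientGroup.nontrivial_iff.2 (by rwa [Ne, subgroupOf_eq_top])
  have hsT := sol_of_le hs h1
  have hdv : Nat.card (T ⧸ (Cent P).subgroupOf T) ∣ Nat.card P :=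
    (card_quotient_dvd_card _).trans (card_dvd_of_le h1)
  have h2 := fw_act inferInstance φ (A.subgroupOf (Nrm T)) (σ := ⟨σ, hσT⟩) hr (Subtype.ext hσ)
    (by
      rw [mem_normalizer_iff]
      intro b
      exact mem_normalizer_iff.1 hσA b)
    (by rw [card_subgroupOf hAT]; exact (hc.coprime_dvd_right hdv).symm)
    (fun h => hrP (h.trans hdv))
    (fun a ha h => (hφ1 a ha).2 (hf a ha
      ((hφ1 _ (A.mul_mem (A.inv_mem ha) (conj_mem_of_mem_nrm hσA ha))).1 h)))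
    (fun s h => by
      induction s using QuotientGroup.induction_on with | H t => ?_
      refine (QuotientGroup.eq_one_iff t).2 (hnd ⟨t.2, orth hz (h1 t.2) fun a ha => ⟨h1 t.2, ?_⟩⟩)
      exact (hφ ⟨a, hAT ha⟩ t).1 (h _ ha))
  have h3 := card_fixed_mul_index_fx (T.normalizerMonoidHom ⟨σ, hσT⟩) ((Cent P).subgroupOf T)
    (φ ⟨σ, hσT⟩) fun t => rfl
  have h4 : fx (T.normalizerMonoidHom ⟨σ, hσT⟩) ((Cent P).subgroupOf T) = (Fx P σ).subgroupOf T := by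
    ext t
    exact ⟨fun h => ⟨h1 t.2, h⟩, fun h => h.2⟩
  set c := Nat.card {s // φ ⟨σ, hσT⟩ s = s} with hcdef
  have hc0 : 0 < c := by
    have : Nonempty {s // φ ⟨σ, hσT⟩ s = s} := ⟨⟨1, map_one _⟩⟩
    exact Nat.card_pos
  have h5 : c ^ (r - 1) = (Fx P σ).relIndex T := by
    rw [h4, h2, ← Nat.sub_add_cancel hr.one_le, pow_succ'] at h3
    exact (Nat.eq_of_mul_eq_mul_left hc0 h3).symm
  refine le_trans (Nat.pow_le_pow_left ?_ _) (h5.le.trans (relIndex_Fx_le hz hcσ h1))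
  have hc1 : 1 < c := by
    by_contra h
    rw [show c = 1 by omega, one_pow] at h2
    exact Finite.one_lt_card.ne' h2
  have := Finite.one_lt_card_iff_nontrivial.1 hc1
  obtain ⟨⟨s, hs1⟩, hs2⟩ := exists_ne (⟨1, map_one _⟩ : {s // φ ⟨σ, hσT⟩ s = s})
  induction s using QuotientGroup.induction_on with | H t => ?_
  have ht1 : (t : Γ) ∉ Cent P := fun h => hs2 (Subtype.ext ((QuotientGroup.eq_one_iff t).2 h))
  have ht2 := orth_Fx hz σ ⟨h1 t.2, (hφ _ t).1 hs1⟩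
  obtain ⟨v, hv, hvt⟩ : ∃ v ∈ T ⊓ Cent (zpowers σ), v * t ≠ t * v := by
    by_contra h
    push Not at h
    refine ht1 (hnd ⟨t.2, ?_⟩)
    refine cent_anti (coprime_cent_prod (zpowers_le.2 hσT) (coprime_of_le hcσ le_rfl h1)
      (Or.inl (sol_zpowers σ))).ge ?_
    rw [cent_sup]
    exact ⟨cent_anti (commutator_mono h1 le_rfl) ht2, h⟩
  have := Fintype.ofFinite {s // φ ⟨σ, hσT⟩ s = s}
  rw [hcdef, Nat.card_eq_fintype_card]
  refine Fintype.two_lt_card_iff.2 ⟨⟨1, map_one _⟩, ⟨t, hs1⟩, ⟨((⟨v, hv.1⟩ : T) : _), (hφ _ _).2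
    (cent1_le_Fx σ ⟨h1 hv.1, cent_zpowers σ ▸ hv.2⟩).2⟩, hs2.symm, fun h => ?_, fun h => ?_⟩
  · exact hvt (((QuotientGroup.eq_one_iff (⟨v, hv.1⟩ : T)).1
      (congrArg Subtype.val h).symm : v ∈ Cent P) _ (h1 t.2)).symm
  · have h7 := QuotientGroup.eq.1 (show (t : T ⧸ (Cent P).subgroupOf T) = (⟨v, hv.1⟩ : T) from
      congrArg Subtype.val h)
    have h6 := (show (t : Γ)⁻¹ * v ∈ Cent P from h7) _ (h1 t.2)
    apply hvt
    calc v * t = t * ((t : Γ)⁻¹ * v * t) := by group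
      _ = _ := by rw [← h6]; group

/-- The exceptional configuration is incompatible with a coprime group `Q` with `[P, Q] = P`. -/
theorem exc_false_group (hz : ⁅P, P⁆ ≤ center Γ) (hs : Group.IsSolvable P) {σ : Γ} {r : ℕ}
    (hr : r.Prime) (hσ : σ ^ r = 1) (hrP : ¬ r ∣ Nat.card P) {Q : Subgroup Γ} (hσQ : σ ∈ Nrm Q)
    (hc : (Nat.card Q).Coprime (Nat.card P)) (hrQ : ¬ r ∣ Nat.card Q) (hPQ : ⁅P, Q⁆ = P)
    (hne : ¬ ⁅P, zpowers σ⁆ ≤ Cent P) (ha : (Cent P).relIndex ⁅P, zpowers σ⁆ = (r - 1) ^ 2)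
    (hb : ∀ y ∈ Cent1 σ, ¬ r ∣ orderOf y → ⁅P, zpowers σ⁆ ≤ Fx P y) : False := by
  have hcσ := coprime_zpowers_prime hr hσ hrP
  have hcQ := coprime_zpowers_prime hr hσ hrQ
  have h1 : ⁅P, zpowers σ⁆ ≤ P := commutator_le_left _ _
  have hb' : ∀ y ∈ Q, y ∈ Cent1 σ → ⁅P, zpowers σ⁆ ≤ Fx P y := fun y hy h =>
    hb y h fun hd => hrQ (hd.trans (orderOf_dvd_card hy))
  by_cases h2 : ⁅zpowers σ, Q⁆ ≤ KT P P
  · have h3 : Q ≤ KT P ⁅P, zpowers σ⁆ := by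
      rw [← coprime_cent_prod (zpowers_le.2 hσQ) hcQ (Or.inl (sol_zpowers σ)), commutator_comm Q]
      refine sup_le (fun a ha => mem_KT.2 fun t ht => mem_KT.1 (h2 ha) t (h1 ht))
        fun y hy => mem_KT.2 fun t ht => (hb' y hy.1 (cent_zpowers σ ▸ hy.2) ht).2
    refine hne fun t ht => ?_
    have h4 := orth hz (B := Q) (h1 ht) fun a ha => ⟨h1 ht, mem_KT.1 (h3 ha) t ht⟩
    rwa [hPQ] at h4
  obtain ⟨q, hq, -, R, hRQ, hR, -, hσR, h3⟩ := exists_invariant_pgroup_commutator_not_le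
    (zpowers σ) Q (KT P P) (zpowers_le.2 hσQ) hcQ (Or.inl (sol_zpowers σ))
    le_normalizer_of_normal h2
  set R₀ := ⁅R, zpowers σ⁆ with hR₀
  rw [commutator_comm] at h3
  have hR₀R : R₀ ≤ R := commutator_le_left' hσR
  have hR₀σ : ⁅R₀, zpowers σ⁆ = R₀ :=
    coprime_commGid hσR (coprime_of_le hcQ le_rfl hRQ) (Or.inl (sol_zpowers σ))
  have hσR₀ : zpowers σ ≤ Nrm R₀ := nrm_commutator_right _ _
  let π := QuotientGroup.mk' (KT P P)
  have hπ : ∀ a, π a = 1 ↔ a ∈ KT P P := fun a => QuotientGroup.eq_one_iff a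
  set A := R₀ ⊓ (Cent (R₀.map π)).comap π with hA
  have hAQ : A ≤ Q := inf_le_left.trans (hR₀R.trans hRQ)
  have hσA : zpowers σ ≤ Nrm A := by
    refine nrm_inf hσR₀ (H1.le_normalizer_of_conj_mem fun a ha b hb => ?_)
    rw [mem_comap, map_mul, map_mul, map_inv]
    exact conj_mem_of_mem_nrm (nrm_le_nrm_cent _ (mem_normalizer_map π (hσR₀ ha))) hb
  have hAK : ¬ A ≤ KT P P := by
    intro h
    have := Fact.mk hq
    obtain ⟨_, ⟨⟨a, ha, rfl⟩, h4⟩, h5⟩ := exists_ne_one_of_ne_bot (zc_ne_bot_of_isPGroup hq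
      ((hR.to_le hR₀R).map π) (fun e => h3 fun a ha => (hπ a).1 (e.le ⟨a, ha, rfl⟩)))
    exact h5 ((hπ a).2 (h ⟨ha, h4⟩))
  by_cases h4 : ∀ a ∈ A, a⁻¹ * (σ * a * σ⁻¹) ∈ KT P P → a ∈ KT P P
  · have h5 := three_pow_le hz hs hr hσ hrP (hσA (mem_zpowers σ)) (coprime_of_le hc hAQ le_rfl) hAK h4
    have h6 : ∀ n, n ^ 2 < 3 ^ n := by
      intro n
      induction n with
      | zero => simp
      | succ n ih => rcases n with _ | _ | n
                     · simp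
                     · simp
                     · rw [pow_succ 3]; nlinarith
    exact (h6 _).not_ge (ha ▸ h5)
  push Not at h4
  obtain ⟨a, haA, h5, h6⟩ := h4
  have hσAK : zpowers σ ≤ Nrm (A ⊓ KT P P) := nrm_inf hσA le_normalizer_of_normal
  obtain ⟨n, hn, h7⟩ := H1.exists_centralizer_mem_coset hσAK
    (coprime_of_le hcQ le_rfl (inf_le_left.trans hAQ)) (Or.inl (sol_zpowers σ)) a fun b hb =>
      ((zpowers_le (H := cI a (A ⊓ KT P P))).2 ⟨hσAK (mem_zpowers σ),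
        A.mul_mem (A.inv_mem haA) (conj_mem_of_mem_nrm (hσA (mem_zpowers σ)) haA), h5⟩ hb).2
  set y := a * n with hy
  have hyA : y ∈ A := A.mul_mem haA hn.1
  have hyK : y ∉ KT P P := fun h => h6 (by simpa [hy] using mul_mem h (inv_mem hn.2))
  rw [show centralizer ((zpowers σ : Subgroup Γ) : Set Γ) = Cent1 σ from cent_zpowers σ] at h7
  have h8 := hb' y (hAQ hyA) h7
  set T := P ⊓ Cent (Fx P y) with hT
  have hR₀T : R₀ ≤ Nrm T := nrm_inf le_normalizer_of_normal (nrm_cent fun b hb => mem_nrm_Fx (by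
    rw [← hπ]
    simp only [map_mul, map_inv, hyA.2 _ ⟨b, hb, rfl⟩]; group))
  have hσT : σ ∈ Nrm T := nrm_inf le_normalizer_of_normal (nrm_cent (zpowers_le.2
    (mem_nrm_Fx_of_commute (mem_cent1.1 h7).symm))) (mem_zpowers σ)
  have hσK : σ ∈ KT P T := mem_KT.2 fun t ht => nondeg hz hcσ hs ⟨by
      simpa [commutatorElement_def, mul_assoc] using
        commutator_mem_commutator (inv_mem ht.1) (mem_zpowers σ),
    cent_anti h8 (T.mul_mem (T.inv_mem ht) (conj_mem_of_mem_nrm hσT ht)).2⟩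
  have h9 : R₀ ≤ KT P T := hR₀σ.ge.trans ((commutator_mono le_rfl (zpowers_le.2 hσK)).trans
    (commutator_le_right' (hR₀T.trans (nrm_le_nrm_KT T))))
  have h10 : ⁅P, zpowers y⁆ ≤ T := le_inf (commutator_le_left _ _) (le_cent_symm (orth_Fx hz y))
  apply hyK
  rw [← zpowers_le, le_KT_iff]
  intro t ht
  exact nondeg hz (coprime_of_le hc (zpowers_le.2 (hAQ hyA)) le_rfl) hs
    ⟨ht, orth_Fx hz y ⟨(h10 ht).1, mem_KT.1 (h9 hyA.1) t (h10 ht)⟩⟩

variable {k X : Type*} [Field k] [AddCommGroup X] [Module k X] {ρ : Representation k Γ X}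
  [IsAlgClosed k] [FiniteDimensional k X]

theorem exc_false (hρ : Function.Injective ρ)
    (hsc : ⁅P, P⁆ ≤ scal ρ) {p : ℕ} [Fact p.Prime] (hP : IsPGroup p P) (hpk : (p : k) ≠ 0)
    {σ : Γ} {r : ℕ} (hr : r.Prime) (hσ : σ ^ r = 1) (hrP : ¬ r ∣ Nat.card P)
    {Q : Subgroup Γ} (hσQ : σ ∈ Nrm Q) (hc : (Nat.card Q).Coprime (Nat.card P))
    (hrQ : ¬ r ∣ Nat.card Q) (hPQ : ⁅P, Q⁆ = P) (hne : ¬ ⁅P, zpowers σ⁆ ≤ Cent P)
    {u : X} (hu : u ≠ 0) : ∃ x ∈ P, eS ρ σ r (ρ x u) ≠ 0 := by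
  by_contra h
  push Not at h
  let Y : Submodule k X := ⨅ x ∈ P, LinearMap.ker (eS ρ σ r * ρ x)
  have hY : ∀ v, v ∈ Y ↔ ∀ x ∈ P, eS ρ σ r (ρ x v) = 0 := fun v => by simp [Y]
  obtain ⟨ha, hb⟩ := exc hρ hsc hP hpk hr hσ hrP Y
    (fun e => hu (e.le ((hY u).2 h)))
    (fun x hx v hv => (hY _).2 fun y hy => by simpa using (hY v).1 hv _ (mul_mem hy hx))
    (fun v hv => (hY _).2 fun y hy => by
      have := (hY v).1 hv _ (hPn.conj_mem' _ hy σ)
      rw [← eS_σ ρ hσ] at this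
      simpa using this)
    (fun v hv => by simpa using (hY v).1 hv 1 (one_mem _)) hne
  exact exc_false_group (hsc.trans (scal_le_center hρ)) (H1.isSolvable_of_isPGroup hP) hr hσ hrP
    hσQ hc hrQ hPQ hne ha hb

omit [IsAlgClosed k] [FiniteDimensional k X] [Finite Γ] hPn in
theorem comm_of_fix (hρ : Function.Injective ρ) {a b : Γ} (h : ⁅a, b⁆ ∈ scal ρ) {v : X} (hv : v ≠ 0)
    (h1 : ρ ⁅a, b⁆ v = v) : a * b = b * a := by
  obtain ⟨c, hc⟩ := h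
  have h3 : c = 1 := smul_left_injective k hv ((hc v).symm.trans (h1.trans (one_smul k v).symm))
  refine commutatorElement_eq_one_iff_mul_comm.1 (hρ ?_)
  ext v; simp [hc, h3]

/-- Case II of the inductive step. -/
theorem layerII (hρ : Function.Injective ρ)
    (hsc : ⁅P, P⁆ ≤ scal ρ) {p : ℕ} [hp : Fact p.Prime] (hP : IsPGroup p P) (hpk : (p : k) ≠ 0)
    {σ : Γ} {r : ℕ} (hr : r.Prime) (hσ : σ ^ r = 1) (hrk : (r : k) ≠ 0) (hrP : ¬ r ∣ Nat.card P)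
    {Q : Subgroup Γ} (hσQ : σ ∈ Nrm Q) (hc : (Nat.card Q).Coprime (Nat.card P))
    (hrQ : ¬ r ∣ Nat.card Q) (hPQ : ⁅P, Q⁆ = P) (hne : ¬ ⁅P, zpowers σ⁆ ≤ Cent P)
    (τ : Module.End k X) (hτ : ∀ g ∈ Cent (P ⊓ Cent1 σ), ∀ v, τ (ρ g v) = ρ g (τ v))
    {ν : X} {x₀ : Γ} (hx₀ : x₀ ∈ P) (h0 : τ (ρ x₀ ν) ≠ 0) :
    ∃ x ∈ P, ρ σ (ρ x ν) ≠ ρ x ν ∧ τ (eS ρ σ r (ρ x ν)) ≠ 0 := by
  have hz := hsc.trans (scal_le_center hρ)
  have hcσ := coprime_zpowers_prime hr hσ hrP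
  have hs := H1.isSolvable_of_isPGroup hP
  have h1 : ⁅P, zpowers σ⁆ ≤ P := commutator_le_left _ _
  have h2 : ⁅P, zpowers σ⁆ ≤ Cent (P ⊓ Cent1 σ) :=
    le_cent_symm ((cent1_le_Fx σ).trans (orth_Fx hz σ))
  have hσ' : σ ∈ Cent (P ⊓ Cent1 σ) := fun c hc => mem_cent1.1 hc.2
  have hτe : ∀ v, τ (eS ρ σ r v) = eS ρ σ r (τ v) := eS_comm ρ (hτ σ hσ')
  obtain ⟨x, hx, h3⟩ := exc_false hρ hsc hP hpk hr hσ hrP hσQ hc hrQ hPQ hne h0
  obtain ⟨c, hc1, e, he, rfl⟩ := H1.exists_centralizer_mul_commutator (A := zpowers σ) (K := P)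
    le_normalizer_of_normal hcσ (Or.inl (sol_zpowers σ)) hx
  have h4 : τ (eS ρ σ r (ρ (e * x₀) ν)) ≠ 0 := by
    intro h
    apply h3
    rw [map_mul, Module.End.mul_apply, ← eS_comm' ρ (hc1.2 σ (mem_zpowers σ)), ← hτ e (h2 he),
      ← hτe, ← Module.End.mul_apply (ρ e), ← map_mul, h, map_zero]
  by_cases h5 : ρ σ (ρ (e * x₀) ν) = ρ (e * x₀) ν
  swap
  · exact ⟨_, mul_mem (h1 he) hx₀, h5, h4⟩
  have hv0 : τ (ρ (e * x₀) ν) ≠ 0 := fun h => h4 (by rw [hτe, h, map_zero])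
  obtain ⟨x, hx', h6, h7⟩ := nf ρ hr hσ hrk (E := ⁅P, zpowers σ⁆)
    (nil_of_isPGroup hp.out (hP.to_le h1)) (fun h => hrP (h.trans (card_dvd_of_le h1)))
    (nrm_commutator_right _ _ (mem_zpowers σ))
    (coprime_commGid le_normalizer_of_normal hcσ (Or.inl (sol_zpowers σ)))
    (u := τ (ρ (e * x₀) ν)) (by rw [← hτ σ hσ', h5]) (fun h => hne fun t ht =>
      nondeg hz hcσ hs ⟨ht, fun s hs => comm_of_fix hρ
        (hsc (commutator_mem_commutator (h1 hs) (h1 ht))) hv0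
        (h (der_le _ (commutator_mem_commutator hs ht)))⟩)
  rw [← hτ x (h2 hx')] at h6 h7
  refine ⟨x * (e * x₀), mul_mem (h1 hx') (mul_mem (h1 he) hx₀), fun h => h6 ?_, ?_⟩
  · rw [← hτ σ hσ']
    simpa using congrArg τ h
  · rw [hτe, map_mul]; exact h7

end H76
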