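import Cfsg.Agent.Base
import Cfsg.Agent.H76.TuC

/-! Turull's theorem, part D: the case where `σ` centralizes the top of the tower. -/

set_option autoImplicit false

namespace H76

open Module Polynomial H22 H46 H48 Subgroup Cfsg H26.CF
open scoped commutatorElement

universe u

theorem tu_arith {r : ℕ} (hr : r.Prime) (hr2 : r ≠ 2) :
    ∀ α β : ℕ, α * β = (2 * r - 1) ^ 2 → r + 1 ≤ α → α ≤ β → ¬ r ∣ α - 1 := by
  intro α β e h1 h2 ⟨j, hj⟩
  have h3 : α ≤ 2 * r - 1 := by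
    by_contra h
    nlinarith [Nat.mul_le_mul (not_le.1 h) ((not_le.1 h).trans_le h2)]
  have hr3 := hr.two_le
  obtain rfl : j = 1 := by
    rcases j with _ | _ | j
    · omega
    · rfl
    · have : r * (j + 1 + 1) = r * j + 2 * r := by ring
      omega
  obtain rfl : α = r + 1 := by omega
  obtain ⟨s, rfl⟩ := Nat.exists_eq_add_of_le' hr3
  have h5 : s + 2 + 1 ∣ 9 := by
    have h6 : (2 * (s + 2) - 1) ^ 2 = (s + 2 + 1) * (4 * s) + 9 := by
      rw [show 2 * (s + 2) - 1 = 2 * s + 3 by omega]; ring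
    exact (Nat.dvd_add_right (Dvd.intro _ rfl)).1 (h6 ▸ Dvd.intro _ e)
  have h6 := Nat.le_of_dvd (by norm_num) h5
  have h8 : s ≤ 6 := by omega
  interval_cases s <;> first | omega | exact absurd hr (by norm_num)

variable {Γ : Type u} [Group Γ] [Finite Γ]

theorem nres_le_commutator (Y : Subgroup Γ) : nres Y ≤ ⁅nres Y, Y⁆ := by
  obtain ⟨k, hk⟩ := exists_nres_eq Y
  rw [← hk (k + 1) (Nat.le_succ k)]
  conv_rhs => rw [hk (k + 1) (Nat.le_succ k), ← hk k le_rfl]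
  exact le_rfl

omit [Finite Γ] in
theorem le_nres_of_le_commutator {D Y : Subgroup Γ} (h1 : D ≤ Y) (h2 : D ≤ ⁅D, Y⁆) : D ≤ nres Y :=
  le_iInf fun k => by
    induction k with
    | zero => exact h1
    | succ k ih => exact h2.trans (commutator_mono ih le_rfl)

/-- The nilpotent residual cannot have a Sylow `2`-subgroup of order two. -/
theorem nres_sylow_two (Y : Subgroup Γ) (h4 : ∀ z ∈ nres Y, z ^ 4 = 1 → z ^ 2 = 1)
    (hK : ∀ a ∈ nres Y, ∀ b ∈ nres Y, a ^ 2 = 1 → b ^ 2 = 1 → a ≠ 1 → b ≠ 1 → a * b = b * a → a = b)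
    {z : Γ} (hz : z ∈ nres Y) (hz2 : z ^ 2 = 1) : z = 1 := by
  have h2 := Nat.prime_two
  have := Fact.mk h2
  obtain ⟨T, hT⟩ := exists_sylow h2 (nres Y)
  have hsq : ∀ t ∈ T, t ^ 2 = 1 := by
    intro t ht
    obtain ⟨n, hn⟩ := hT.isPGroup h2 ⟨t, ht⟩
    replace hn : t ^ 2 ^ n = 1 := congrArg Subtype.val hn
    have h5 := hT.le ht
    clear ht
    induction n generalizing t with
    | zero => rw [show t = 1 by simpa using hn, one_pow]
    | succ n ih =>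
      refine h4 t h5 ?_
      rw [show 4 = 2 * 2 from rfl, pow_mul]
      exact ih _ (by rwa [← pow_mul, ← pow_succ']) (pow_mem h5 2)
  have hinv : ∀ t ∈ T, t⁻¹ = t := fun t ht => inv_eq_of_mul_eq_one_right (by rw [← sq, hsq t ht])
  have huniq : ∀ a ∈ T, ∀ b ∈ T, a ≠ 1 → b ≠ 1 → a = b := fun a ha b hb a1 b1 =>
    hK a (hT.le ha) b (hT.le hb) (hsq a ha) (hsq b hb) a1 b1 (by
      rw [← hinv _ (mul_mem ha hb), mul_inv_rev, hinv a ha, hinv b hb])
  have hnpc := npc_of_nrm_le_cent h2 hT fun g hg t ht => by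
    by_cases h1 : t = 1
    · simp [h1]
    · conv_lhs => rw [huniq t ht _ (conj_mem_of_mem_nrm hg.2 ht) h1 (by simpa using h1)]
      group
  have hsd := npc_isSd hnpc hT
  set O := Op' 2 (nres Y)
  have hYO : Y ≤ Nrm O := nrm_piCoreOf _ (le_nrm_self.trans (nrm_le_nrm_nresI 1 Y))
  have hO : IsPi {2}ᶜ O := isPi_piCoreOf _ _
  have hodd : ∀ t ∈ O, t ^ 2 = 1 → t = 1 := fun t ht h =>
    IsPiElt.eq_one (π := {2}) (PNat.of_dvd ((pnat_prime h2).2 rfl) (orderOf_dvd_of_pow_eq_one h))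
      (hO.elt ht)
  have h1 : nres Y ≤ commInto Y O := by
    rw [← hsd.sup]
    refine sup_le (fun o ho => ⟨le_nrm_self ho, fun y hy =>
      mul_mem (conj_mem_of_mem_nrm (hYO hy) ho) (inv_mem ho)⟩) fun t ht =>
      ⟨hsd.norm ht, fun y hy => ?_⟩
    by_cases h1 : t = 1
    · simp [h1]
    obtain ⟨o, ho, t', ht', e⟩ := hsd.exists_mul (conj_mem_of_mem_nrm
      (le_nrm_self.trans (nrm_le_nrm_nresI 1 Y) hy) (hT.le ht))
    have h5 : t' ≠ 1 := by
      rintro rfl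
      refine h1 (by simpa using hodd (y * t * y⁻¹) (by rw [e]; simpa using ho) (by
        rw [conj_pow, hsq t ht]; simp))
    rw [commutatorElement_def, e, huniq t' ht' t ht h5 h1]
    simpa using ho
  refine hodd z (((nres_le_commutator Y).trans ?_) hz) hz2
  rw [commutator_comm, commutator_le]
  exact fun y hy t ht => (h1 ht).2 y hy

variable {P : Subgroup Γ} [hPn : P.Normal]

/-- The perpendicular space of the fixed points of `z`. -/
def Iz (P : Subgroup Γ) [P.Normal] (z : Γ) : Subgroup Γ := P ⊓ Cent (Fx P z)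

omit [Finite Γ] in
theorem comm_le_Iz (hz : ⁅P, P⁆ ≤ center Γ) (z : Γ) : ⁅P, zpowers z⁆ ≤ Iz P z :=
  le_inf (commutator_le_left _ _) (le_cent_symm (orth_Fx hz z))

omit [Finite Γ] in
theorem zc_le_Iz (z : Γ) : P ⊓ Cent P ≤ Iz P z := inf_le_inf_left _ (cent_anti (Fx_le z))

omit [Finite Γ] in
theorem nrm_Iz {z g : Γ} (h : g ∈ Nrm (Fx P z)) : g ∈ Nrm (Iz P z) :=
  nrm_inf le_normalizer_of_normal (nrm_cent (zpowers_le.2 h)) (mem_zpowers g)

theorem Iz_nd (hs : Group.IsSolvable P) {z : Γ}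
    (hc : (Nat.card (zpowers z)).Coprime (Nat.card P)) {t : Γ} (ht : t ∈ Iz P z)
    (h : t ∈ Cent ⁅P, zpowers z⁆) : t ∈ Cent P :=
  cent_of_cent_cent hc hs h (cent_anti (by rw [cent_zpowers]; exact cent1_le_Fx z) ht.2)

omit [Finite Γ] in
theorem mem_cent_iff_mk {a b : Γ} :
    a⁻¹ * b ∈ Cent P ↔ QuotientGroup.mk' (Cent P) b = QuotientGroup.mk' (Cent P) a :=
  QuotientGroup.eq.symm.trans eq_comm

theorem klein_false (hz : ⁅P, P⁆ ≤ center Γ) (hs : Group.IsSolvable P) (hodd : Odd (Nat.card P))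
    {σ : Γ} (Iv : Γ → Prop)
    (h1 : ∀ z, Iv z → z ∉ KT P P ∧ z * z ∈ KT P P ∧ (Nat.card (zpowers z)).Coprime (Nat.card P) ∧
      Commute σ z ∧ ∀ U, Iz P z ⊓ Cent P ≤ U → U ≤ Iz P z → σ ∈ Nrm U → U ≤ Cent P ∨ Iz P z ≤ U)
    {a b c : Γ} (ha : Iv a) (hb : Iv b) (hc : Iv c) (hab : (a * b)⁻¹ * (b * a) ∈ KT P P)
    (habc : (a * b)⁻¹ * c ∈ KT P P) : False := by
  let θ := QuotientGroup.mk' (Cent P)
  let π := QuotientGroup.mk' (KT P P)
  have hπ : ∀ a b, a⁻¹ * b ∈ KT P P ↔ π a = π b := fun a b => QuotientGroup.eq.symm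
  have hπ1 : ∀ a, a ∈ KT P P ↔ π a = 1 := fun a => (QuotientGroup.eq_one_iff a).symm
  have hF : ∀ a t, t ∈ Fx P a ↔ t ∈ P ∧ θ a * θ t * (θ a)⁻¹ = θ t := fun a t => by
    rw [mem_Fx, mem_cent_iff_mk]; rfl
  have hact : ∀ a b, π a = π b → ∀ t ∈ P, θ a * θ t * (θ a)⁻¹ = θ b * θ t * (θ b)⁻¹ := by
    intro a b h t ht
    have h2 := ((hF _ t).1 ⟨ht, mem_KT.1 ((hπ a b).2 h) t ht⟩).2
    simp only [map_mul, map_inv] at h2
    conv_lhs => rw [← h2]
    group
  have hcomm : ∀ s ∈ P, ∀ t ∈ P, θ s * θ t = θ t * θ s := fun s hs t ht => by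
    rw [← map_mul, ← map_mul, ← mem_cent_iff_mk]
    simpa [commutatorElement_def, mul_assoc] using center_le_centralizer _
      (hz (commutator_mem_commutator (inv_mem hs) (inv_mem ht)))
  have hIF : ∀ z, Iv z → ∀ t ∈ Iz P z, t ∈ Fx P z → t ∈ Cent P := fun z h t ht h' =>
    Iz_nd hs (h1 z h).2.2.1 ht (orth_Fx hz z h')
  have hinv : ∀ z, Iv z → ∀ T ≤ P, z ∈ Nrm T → (∀ t ∈ T, t ∈ Fx P z → t ∈ Cent P) →
      ∀ t ∈ T, θ z * θ t * (θ z)⁻¹ = (θ t)⁻¹ := by
    intro z h T hT hzT hf t ht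
    have h2 := conj_mem_of_mem_nrm hzT ht
    have h3 := hact (z * z) 1 (by rw [(hπ1 _).1 (h1 z h).2.1, map_one]) t (hT ht)
    have h4 := hcomm t (hT ht) _ (hT h2)
    simp only [map_mul, map_inv, map_one, one_mul, inv_one, mul_one] at h3 h4
    have h5 := (QuotientGroup.eq_one_iff _).2 (hf _ (mul_mem ht h2) ((hF _ _).2
      ⟨hT (mul_mem ht h2), by
        simp only [map_mul, map_inv]
        calc _ = θ z * θ t * (θ z)⁻¹ * (θ z * θ z * θ t * (θ z * θ z)⁻¹) := by group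
          _ = _ := by rw [h3, h4]⟩))
    exact eq_inv_of_mul_eq_one_right h5
  have hnrm : ∀ a b, π a * π b = π b * π a → b ∈ Nrm (Fx P a) := fun a b h =>
    mem_nrm_Fx ((hπ _ _).2 (by simp only [map_mul, map_inv, ← h]; group))
  have hinvI : ∀ z, Iv z → ∀ t ∈ Iz P z, θ z * θ t * (θ z)⁻¹ = (θ t)⁻¹ := fun z h =>
    hinv z h _ inf_le_left (nrm_Iz (hnrm z z rfl)) (hIF z h)
  have hle : ∀ c, ∀ t ∈ P, θ c * θ t * (θ c)⁻¹ = (θ t)⁻¹ → t ∈ Iz P c := by
    intro c t ht h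
    have h2 : t * (c * t * c⁻¹) ∈ Iz P c := zc_le_Iz c ⟨mul_mem ht (hPn.conj_mem t ht c),
      (QuotientGroup.eq_one_iff _).1 (show θ _ = 1 by simp only [map_mul, map_inv, h]; group)⟩
    have h3 := mul_mem h2 (inv_mem (comm_le_Iz hz c
      (commutator_mem_commutator (inv_mem ht) (mem_zpowers c))))
    refine mem_of_pow_pow (m := 2) (n := Nat.card P) (Nat.coprime_two_left.2 hodd) ?_ ?_
    · convert h3 using 1
      rw [commutatorElement_def, sq]; group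
    · rw [orderOf_dvd_iff_pow_eq_one.1 (orderOf_dvd_card ht)]; exact one_mem _
  have hne : ∀ z, Iv z → ¬ Iz P z ≤ Cent P := fun z h h' =>
    (h1 z h).1 (zpowers_le.1 (le_KT_iff.2 ((comm_le_Iz hz z).trans h')))
  have key : ∀ a b c, Iv a → Iv b → Iv c → π a * π b = π b * π a → π a * π b = π c →
      ¬ Iz P a ≤ Fx P b := by
    intro a b c ha hb hc hab habc h
    have h2 : Iz P b ≤ Fx P a := fun t ht => ⟨ht.1, nondeg hz (h1 a ha).2.2.1 hs ⟨by
        simpa [commutatorElement_def, mul_assoc] using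
          commutator_mem_commutator (inv_mem ht.1) (mem_zpowers a),
      cent_anti ((comm_le_Iz hz a).trans h) (mul_mem (inv_mem ht)
        (conj_mem_of_mem_nrm (nrm_Iz (hnrm b a hab.symm)) ht) : _ ∈ Iz P b).2⟩⟩
    have h3 : Iz P a ≤ Iz P c := fun t ht => hle c t ht.1 (by
      rw [← hact (a * b) c (by rw [map_mul, habc]) t ht.1, ← hinvI a ha t ht]
      conv_rhs => rw [← ((hF _ _).1 (h ht)).2]
      simp only [map_mul]; group)
    have h4 : Iz P b ≤ Iz P c := fun t ht => hle c t ht.1 (by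
      rw [← hact (b * a) c (by rw [map_mul, ← hab, habc]) t ht.1, ← hinvI b hb t ht]
      conv_rhs => rw [← ((hF _ _).1 (h2 ht)).2]
      simp only [map_mul]; group)
    rcases (h1 c hc).2.2.2.2 _ (fun t ht => zc_le_Iz b ⟨ht.1.1, ht.2⟩) h4
      (nrm_Iz (mem_nrm_Fx_of_commute (h1 b hb).2.2.2.1)) with h5 | h5
    · exact hne b hb h5
    · exact hne a ha fun t ht => hIF b hb t (h5 (h3 ht)) (h ht)
  rw [hπ, map_mul] at hab habc
  rw [map_mul] at hab
  have haa : π a * π a = 1 := by rw [← map_mul]; exact (hπ1 _).1 (h1 a ha).2.1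
  rcases (h1 a ha).2.2.2.2 (Iz P a ⊓ Fx P b) (fun t ht => ⟨ht.1, zc_le_Fx b ⟨ht.1.1, ht.2⟩⟩)
    inf_le_left (nrm_inf (zpowers_le.2 (nrm_Iz (mem_nrm_Fx_of_commute (h1 a ha).2.2.2.1)))
      (zpowers_le.2 (mem_nrm_Fx_of_commute (h1 b hb).2.2.2.1)) (mem_zpowers σ)) with h5 | h5
  · refine key a c b ha hc hb (by rw [← habc, mul_assoc, ← hab]) (by
      rw [← habc, ← mul_assoc, haa, one_mul]) fun t ht => (hF _ _).2 ⟨ht.1, ?_⟩
    have h6 := hinv b hb _ inf_le_left (nrm_Iz (hnrm a b hab)) (fun t h h' => h5 ⟨h, h'⟩) t ht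
    rw [← hact (a * b) c (by rw [map_mul, habc]) t ht.1]
    calc _ = θ a * (θ b * θ t * (θ b)⁻¹) * (θ a)⁻¹ := by simp only [map_mul]; group
      _ = (θ a * θ t * (θ a)⁻¹)⁻¹ := by rw [h6]; group
      _ = _ := by rw [hinvI a ha t ht, inv_inv]
  · exact key a b c ha hb hc hab habc (h5.trans inf_le_right)

variable {k X : Type*} [Field k] [AddCommGroup X] [Module k X] {ρ : Representation k Γ X}

omit [Finite Γ] hPn in
theorem smul_eq_of_cent {A : Subgroup Γ} [A.Normal] {g : Γ} (hg : g ∈ Cent A) (χ : Ch k A) :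
    g • χ = χ :=
  MonoidHom.ext fun a => by
    change χ.hom (MulAut.conjNormal g⁻¹ a) = χ.hom a
    congr 1
    ext
    simp [mul_assoc, hg a a.2]

variable [IsAlgClosed k] [FiniteDimensional k X]

theorem hf_lemma (hρ : Function.Injective ρ) (hsc : ⁅P, P⁆ ≤ scal ρ) (hD : Zc P ≤ scal ρ)
    (hs : Group.IsSolvable P) {σ : Γ} {r : ℕ} (hr : r.Prime) (hσ : σ ^ r = 1)
    (hfp : ∀ t ∈ P, σ ∈ cI t (Cent P) → t ∈ Cent P) {y : Γ} (hcy : Commute σ y)
    (hry : ¬ r ∣ orderOf y) (hc : (Nat.card (zpowers y)).Coprime (Nat.card P))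
    (hy : ∀ v, ρ σ v = v → ρ y v = v) {n : ℕ} (hn : 2 ≤ n) (hrn : ¬ r ∣ n) (hyn : y ^ n ∈ KT P P)
    {A : Subgroup Γ} (hA : A ≤ P) (hσA : σ ∈ Nrm A) (hyA : y ∈ Nrm A) (hnd : A ⊓ Cent A ≤ Cent P)
    (hne : ¬ A ≤ Cent P)
    (horb : ∀ t ∈ A, ∀ i, 0 < i → i < n → y ^ i ∈ cI t (Cent P) → t ∈ Cent P) :
    n = 2 ∧ (Cent P).relIndex A = (2 * r - 1) ^ 2 := by
  have hX : Nontrivial X := by
    by_contra h
    rw [not_nontrivial_iff_subsingleton] at h
    exact hne fun t _ s _ => hρ (Subsingleton.elim _ _)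
  have h1 : zpowers (y ^ n) ≤ Cent P := stable_factor_cent (N := Zc P) le_normalizer_of_normal
    (coprime_of_le hc (zpowers_le.2 (pow_mem (mem_zpowers y) n)) le_rfl) (Or.inr hs)
    (le_inf (commutator_le_left _ _) (le_KT_iff.1 (zpowers_le.2 hyn)))
    (le_cent_symm ((hD.trans (scal_le_center hρ)).trans (center_le_centralizer _)))
  obtain ⟨c, hc'⟩ := Module.End.exists_eigenvalue (ρ (y ^ n))
  set W := Module.End.eigenspace (ρ (y ^ n)) c
  have hW : ∀ g, Commute g (y ^ n) → ∀ w ∈ W, ρ g w ∈ W := by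
    intro g hg w hw
    rw [Module.End.mem_eigenspace_iff] at hw ⊢
    rw [← Module.End.mul_apply, ← map_mul, ← hg.eq, map_mul, Module.End.mul_apply, hw, map_smul]
  have hc0 : c ≠ 0 := by
    rintro rfl
    obtain ⟨w, hw, hw0⟩ := Submodule.exists_mem_ne_zero_of_ne_bot hc'
    rw [Module.End.mem_eigenspace_iff, zero_smul] at hw
    exact hw0 (by rw [← ρ.inv_self_apply (y ^ n) w, hw, map_zero])
  let G : k[X] := ∑ i ∈ Finset.range r, (C c⁻¹ * Polynomial.X ^ n) ^ i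
  have hG0 : G ≠ 0 := by
    intro h
    have := congrArg (eval 0) h
    rw [eval_finsetSum, Finset.sum_eq_single_of_mem 0 (Finset.mem_range.2 hr.pos)
      fun i _ hi => by simp [hi, show n ≠ 0 by omega]] at this
    simp at this
  have hGd : G.natDegree ≤ (r - 1) * n := natDegree_sum_le_of_forall_le _ _ fun i hi =>
    natDegree_pow_le.trans (Nat.mul_le_mul (by have := Finset.mem_range.1 hi; omega)
      ((natDegree_C_mul_le _ _).trans (by simp)))
  have hX1 : (Polynomial.X - 1 : k[X]) ≠ 0 := by simpa using X_sub_C_ne_zero (1 : k)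
  have hgd : ((Polynomial.X - 1) * G).natDegree ≤ 1 + (r - 1) * n := natDegree_mul_le.trans
    (Nat.add_le_add (by simpa using (natDegree_X_sub_C (1 : k)).le) hGd)
  obtain ⟨d, hd, -, -, hd3⟩ := hhw hρ hsc hA (mul_mem hσA hyA) W hc'
    (fun t ht => hW t (h1 (mem_zpowers _) t (hA ht)))
    (hW _ ((hcy.pow_right n).mul_left ((Commute.refl y).pow_right n)))
    (fun t ht => by
      obtain ⟨γ, hγ⟩ := hD ⟨hA ht.1, ht.2⟩
      exact ⟨γ, fun w _ => hγ w⟩) hnd (r * n)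
    (fun t ht i h0 hi h => by
      by_contra ht'
      have h3 : r ∣ i := by
        by_contra h3
        have h4 := pow_mem h (orderOf y)
        rw [hcy.mul_pow, ((hcy.pow_left i).pow_right i).mul_pow, ← pow_mul y, mul_comm i, pow_mul y,
          pow_orderOf_eq_one, one_pow, mul_one, ← pow_mul] at h4
        exact ht' (hfp t (hA ht) (mem_of_pow_prime hr hσ (fun hd => by
          rcases (Nat.Prime.dvd_mul hr).1 hd with hd | hd
          exacts [h3 hd, hry hd]) h4))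
      have h4 : σ ^ i = 1 := by obtain ⟨j, rfl⟩ := h3; rw [pow_mul, hσ, one_pow]
      rw [hcy.mul_pow, h4, one_mul, ← Nat.div_add_mod i n, pow_add, pow_mul] at h
      have h5 := mul_mem (inv_mem (pow_mem (mem_cI_cent.2 (mem_KT.1 hyn t (hA ht))) (i / n))) h
      rw [inv_mul_cancel_left] at h5
      refine ht' (horb t ht _ (Nat.pos_of_ne_zero fun h6 => ?_) (Nat.mod_lt _ (by omega)) h5)
      exact (Nat.le_of_dvd h0 (Nat.Coprime.mul_dvd_of_dvd_of_dvd
        ((Nat.Prime.coprime_iff_not_dvd hr).2 hrn) h3 (Nat.dvd_of_mod_eq_zero h6))).not_gt hi)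
    hne (le_normalizer_of_normal (mem_top _)) _ (mul_ne_zero hX1 hG0) (fun w hw => by
      have h2 : aeval (ρ (σ * y)) G w = eS ρ (σ ^ n) r w := by
        rw [eS_apply, map_sum, LinearMap.sum_apply]
        refine Finset.sum_congr rfl fun i hi => ?_
        clear hi
        induction i with
        | zero => simp
        | succ i ih =>
          have h3 := Module.End.mem_eigenspace_iff.1
            (hW _ (((hcy.pow_left n).pow_left i).pow_right n) w hw)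
          rw [pow_succ', map_mul, Module.End.mul_apply, ih]
          simp only [map_mul, aeval_C, aeval_X_pow, Module.End.mul_apply,
            Module.algebraMap_end_apply]
          rw [← map_mul, ← map_pow, hcy.mul_pow, map_mul, Module.End.mul_apply, h3, map_smul,
            smul_smul, inv_mul_cancel₀ hc0, one_smul, pow_succ', map_mul]; rfl
      have h3 : ρ σ (eS ρ (σ ^ n) r w) = eS ρ (σ ^ n) r w :=
        mem_of_pow_prime (H := stab ρ _) hr hσ hrn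
          (σ_eS ρ (by rw [← pow_mul, mul_comm, pow_mul, hσ, one_pow]) w)
      rw [map_mul, Module.End.mul_apply, h2]
      simp [hy _ h3, h3])
  obtain ⟨s, rfl⟩ := Nat.exists_eq_add_of_le' hr.one_le
  simp only [Nat.add_sub_cancel] at hgd
  obtain ⟨h2, h3⟩ := hd3 (by nlinarith)
  obtain rfl : n = 2 := by nlinarith
  exact ⟨rfl, by rw [← hd]; congr 1; omega⟩

theorem layerT (hρ : Function.Injective ρ)
    (hsc : ⁅P, P⁆ ≤ scal ρ) {p : ℕ} [hp : Fact p.Prime] (hP : IsPGroup p P) (hpk : (p : k) ≠ 0)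
    {σ : Γ} {r : ℕ} (hr : r.Prime) (hσ : σ ^ r = 1) (hrP : ¬ r ∣ Nat.card P)
    (hPσ : ⁅P, zpowers σ⁆ = P) (hna : ¬ P ≤ Cent P) {Y Q : Subgroup Γ} (hY : Y ≤ Cent1 σ)
    (hrY : ¬ r ∣ Nat.card Y) (hQ : Q ≤ nres Y) (hc : (Nat.card Q).Coprime (Nat.card P))
    (hPQ : ⁅P, Q⁆ = P) (hT : ∀ y ∈ nres Y, ∀ v, ρ σ v = v → ρ y v = v) : False := by
  have hz := hsc.trans (scal_le_center hρ)
  have hcσ := coprime_zpowers_prime hr hσ hrP
  have hs := H1.isSolvable_of_isPGroup hP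
  have hcy : ∀ y ∈ nres Y, Commute σ y := fun y hy => (mem_cent1.1 (hY (nres_le_self Y hy))).symm
  have hry : ∀ y ∈ nres Y, ¬ r ∣ orderOf y := fun y hy h =>
    hrY (h.trans (orderOf_dvd_card (nres_le_self Y hy)))
  have hDk := natCast_card_pgroup (k := k) (hP.to_le (inf_le_left : Zc P ≤ P)) hpk
  have := Fintype.ofFinite (Zc P)
  have hE := comm_fix_of_wt (ρ := ρ) (comm_zc P) hDk (σ := σ) ⊤ (fun _ _ _ => trivial)
    fun χ v _ hw h0 => by
      by_contra h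
      let H : Subgroup Γ := ⨅ w ∈ {w | IsW ρ χ w}, stab ρ w
      have hH : ∀ g, g ∈ H ↔ ∀ w, IsW ρ χ w → ρ g w = w := fun g => by simp [H, mem_stab]
      have h1 : Q ≤ H := fun y hy => (hH y).2 fun w hw => fo hr hσ hDk h hw (hcy y (hQ hy))
        (pow_orderOf_eq_one y) (hry y (hQ hy)) (hT y (hQ hy) _ (σ_eS ρ hσ w))
      have h2 : P ≤ Nrm H := H1.le_normalizer_of_conj_mem fun g hg a ha => (hH _).2 fun w hw => by
        have h3 := hw.conj g⁻¹
        rw [smul_eq_of_cent (le_cent_symm inf_le_right (inv_mem hg))] at h3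
        simp [(hH a).1 ha _ h3]
      have h3 : P ≤ H := hPQ.ge.trans ((commutator_mono le_rfl h1).trans (commutator_le_right' h2))
      exact hna fun t ht s hs => comm_of_fix hρ (hsc (commutator_mem_commutator hs ht)) h0
        ((hH _).1 (h3 (der_le P (commutator_mem_commutator hs ht))) v hw)
  have hD : Zc P ≤ scal ρ := fun t ht => by
    obtain ⟨c, hc⟩ := sc_of_fix hsc hcσ ⊤ hE t ⟨hPσ.ge ht.1, ht.2⟩
    exact ⟨c, fun v => hc v trivial⟩
  have hfp : ∀ t ∈ P, σ ∈ cI t (Cent P) → t ∈ Cent P := fun t ht h =>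
    hPσ ▸ orth_Fx hz σ ⟨ht, h.2⟩
  have HF : ∀ y ∈ nres Y, (Nat.card (zpowers y)).Coprime (Nat.card P) → ∀ n j, 2 ≤ n → ¬ r ∣ n →
      y ^ n ∈ KT P P → y ^ j ∉ KT P P → (∀ H : Subgroup Γ, y ^ n ∈ H → ∀ i, 0 < i → i < n →
        y ^ i ∈ H → y ^ j ∈ H) →
      n = 2 ∧ (Cent P).relIndex (Iz P (y ^ j)) = (2 * r - 1) ^ 2 := by
    intro y hy hc n j hn hrn h1 h2 h3
    have hc' := coprime_of_le hc (zpowers_le.2 (pow_mem (mem_zpowers y) j)) le_rfl
    exact hf_lemma hρ hsc hD hs hr hσ hfp (hcy y hy) (hry y hy) hc (hT y hy) hn hrn h1 inf_le_left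
      (nrm_Iz (mem_nrm_Fx_of_commute ((hcy y hy).pow_right j)))
      (nrm_Iz (mem_nrm_Fx_of_commute ((Commute.refl y).pow_right j)))
      (fun t ht => Iz_nd hs hc' ht.1 (cent_anti (comm_le_Iz hz _) ht.2))
      (fun h => h2 (zpowers_le.1 (le_KT_iff.2 ((comm_le_Iz hz _).trans h))))
      fun t ht i h0 hi h => Iz_nd hs hc' ht (orth_Fx hz _
        ⟨ht.1, (h3 _ (mem_cI_cent.2 (mem_KT.1 h1 t ht.1)) i h0 hi h).2⟩)
  let π := QuotientGroup.mk' (KT P P)
  have hπ1 : ∀ a, π a = 1 ↔ a ∈ KT P P := fun a => QuotientGroup.eq_one_iff a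
  obtain ⟨s, hs', hsQ⟩ := exists_prime_dvd_card (H := Q.map π) fun h =>
    hna (hPQ.ge.trans (le_KT_iff.1 fun a ha => (hπ1 a).1 (h.le ⟨a, ha, rfl⟩)))
  obtain ⟨_, ⟨y, hy, rfl⟩, hys⟩ := cauchy hs' hsQ
  have hsQ' := hsQ.trans (card_map_dvd Q π)
  have hy1 : π y ≠ 1 := fun h => hs'.one_lt.ne (by rw [← hys, h, orderOf_one])
  obtain ⟨rfl, -⟩ := HF y (hQ hy) (coprime_of_le hc (zpowers_le.2 hy) le_rfl) s 1 hs'.two_le
    (fun h => hrY (h.trans (hsQ'.trans (card_dvd_of_le (hQ.trans (nres_le_self Y))))))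
    ((hπ1 _).1 (by rw [map_pow, ← hys, pow_orderOf_eq_one])) (by simpa [← hπ1] using hy1)
    fun H h1 i h0 hi h => by
      simpa using mem_of_pow_pow ((Nat.coprime_of_lt_prime h0.ne' hi hs').symm) h h1
  have hodd : ¬ 2 ∣ Nat.card P := fun h => Nat.prime_two.one_lt.ne'
    (Nat.eq_one_of_dvd_coprimes hc hsQ' h)
  have hr2 : r ≠ 2 := by
    rintro rfl
    exact hrY (hsQ'.trans (card_dvd_of_le (hQ.trans (nres_le_self Y))))
  have hr2' : ∀ j, ¬ r ∣ 2 ^ j := fun j h =>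
    hr2 ((Nat.prime_dvd_prime_iff_eq hr Nat.prime_two).1 (hr.dvd_of_dvd_pow h))
  have hlift : ∀ z ∈ nres (Y.map π), z ^ 4 = 1 → ∃ w ∈ nres Y, π w = z ∧
      (Nat.card (zpowers w)).Coprime (Nat.card P) := by
    intro z hz h4
    rw [← map_nres] at hz
    obtain ⟨w, hw, rfl⟩ := hz
    obtain ⟨h1, h2, h3⟩ := piPart_spec {2} w
    refine ⟨piPart {2} w, piPart_mem _ hw, ?_, PNat.coprime (π := {2}) (isPi_zpowers.2 h2)
      ((pnat_compl_singleton Nat.prime_two).2 hodd)⟩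
    have h5 : IsPiElt {2} (π w) :=
      PNat.of_dvd (pnat_singleton_pow Nat.prime_two 2) (orderOf_dvd_of_pow_eq_one h4)
    have h6 := IsPiElt.eq_one (h5.of_mem_zpowers (y := π ((piPart {2} w)⁻¹ * w)) (by
      rw [← MonoidHom.map_zpowers]
      exact ⟨_, mul_mem (inv_mem h1) (mem_zpowers w), rfl⟩))
      (PNat.of_dvd h3 (orderOf_map_dvd π _))
    rwa [map_mul, map_inv, inv_mul_eq_one] at h6
  refine hy1 (nres_sylow_two (Y.map π) (fun z hz h4 => ?_) (fun a ha b hb a2 b2 a1 b1 hab => ?_)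
    (by rw [← map_nres]; exact ⟨y, hQ hy, rfl⟩) (by rw [← hys, pow_orderOf_eq_one]))
  · obtain ⟨w, hw, rfl, hcw⟩ := hlift z hz h4
    by_contra h2
    refine absurd (HF w hw hcw 4 2 (by norm_num) (hr2' 2) ((hπ1 _).1 (by rw [map_pow, h4]))
      (by rwa [← hπ1, map_pow]) fun H h1 i h0 hi h => ?_).1 (by norm_num)
    interval_cases i
    · simpa using pow_mem h 2
    · exact h
    · exact pow_mem (mem_of_pow_pow (by norm_num) h h1) 2
  by_contra hne
  have h4 : ∀ z : Γ ⧸ KT P P, z ^ 2 = 1 → z ^ 4 = 1 := fun z h => by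
    rw [show 4 = 2 * 2 from rfl, pow_mul, h, one_pow]
  have c2 : (a * b) ^ 2 = 1 := by rw [Commute.mul_pow hab, a2, b2, one_mul]
  have c1 : a * b ≠ 1 := fun h => hne (by
    rw [eq_inv_of_mul_eq_one_left h, inv_eq_of_mul_eq_one_right (by rw [← sq, b2])])
  obtain ⟨c, hc', e, hcc⟩ := hlift _ (mul_mem ha hb) (h4 _ c2)
  rw [← e] at c1 c2
  obtain ⟨a, ha', rfl, hca⟩ := hlift a ha (h4 a a2)
  obtain ⟨b, hb', rfl, hcb⟩ := hlift b hb (h4 b b2)
  refine klein_false hz hs (Nat.odd_iff.2 (by omega)) (σ := σ)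
    (fun z => z ∈ nres Y ∧ π z ≠ 1 ∧ π z ^ 2 = 1 ∧ (Nat.card (zpowers z)).Coprime (Nat.card P))
    (fun z ⟨h1, h2, h3, h5⟩ => ⟨by rwa [← hπ1], by rw [← hπ1, map_mul, ← sq, h3], h5, hcy z h1,
      fun U hU1 hU2 hU3 => ?_⟩) ⟨ha', a1, a2, hca⟩ ⟨hb', b1, b2, hcb⟩ ⟨hc', c1, c2, hcc⟩
    ((hπ1 _).1 (by simp [← hab])) ((hπ1 _).1 (by simp [e]))
  by_contra h6
  push Not at h6
  have h7 := (HF z h1 h5 2 1 le_rfl (by simpa using hr2' 1) ((hπ1 _).1 (by rw [map_pow, h3]))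
    (by simpa [← hπ1] using h2) fun H _ i h0 hi h => by
      obtain rfl : i = 1 := by omega
      exact h).2
  rw [pow_one] at h7
  obtain ⟨α, β, e, hα, hβ, dα, dβ⟩ := irr hr hσ hrP (A := Iz P z) inf_le_left
    (nrm_Iz (mem_nrm_Fx_of_commute (hcy z h1)))
    (fun t ht => hfp t ht.1.1 (mem_cI_cent.2 (cent1_le_Fx σ ⟨ht.1.1, ht.2⟩).2)) hU1 hU2 hU3 h6.1 h6.2
  rw [h7] at e
  rcases le_total α β with h | h
  · exact tu_arith hr hr2 α β e hα h dα
  · exact tu_arith hr hr2 β α (by rw [mul_comm, e]) hβ h dβ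

end H76
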