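import Cfsg.Agent.Base
import Cfsg.Agent.H76.TuD

/-! Turull's theorem, part E: passing to weight spaces; the two cases of the inductive step. -/

set_option autoImplicit false

namespace H76

open Module H22 H46 H48 Subgroup Cfsg H26.CF
open scoped commutatorElement

universe u

variable {Γ : Type u} [Group Γ] [Finite Γ] {k M : Type*} [Field k] [AddCommGroup M] [Module k M]

theorem exists_faithful {D : Subgroup Γ} (ψ : Representation k D M) :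
    ∃ (Γ' : Type u) (_ : Group Γ') (_ : Finite Γ') (f : D →* Γ') (ρ' : Representation k Γ' M),
      Function.Injective ρ' ∧ mim f D = ⊤ ∧ ∀ g (hg : g ∈ D), ρ' (mel f g) = ψ ⟨g, hg⟩ := by
  refine ⟨D ⧸ MonoidHom.ker ψ, inferInstance, inferInstance, QuotientGroup.mk' _,
    QuotientGroup.lift _ ψ le_rfl, (injective_iff_map_eq_one _).2 fun g hg => ?_, ?_, fun g hg => ?_⟩
  · induction g using QuotientGroup.induction_on with | H g => ?_
    exact (QuotientGroup.eq_one_iff g).2 hg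
  · rw [mim_dom, MonoidHom.range_eq_top]; exact QuotientGroup.mk'_surjective _
  · rw [mel_of_mem _ hg]; rfl

theorem mim_nresI {Γ' : Type*} [Group Γ'] [Finite Γ'] {D X : Subgroup Γ} (f : D →* Γ') (n : ℕ)
    (h : X ≤ D) : mim f (nres^[n] X) = nres^[n] (mim f X) := by
  have h1 := map_nresI D.subtype n (X.subgroupOf D)
  rw [map_subgroupOf_eq_of_le h] at h1
  rw [mim, mim, ← map_nresI, ← h1, subgroupOf_map_subtype_self]

omit [Finite Γ] in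
theorem mel_comm {Γ' : Type*} [Group Γ'] {D : Subgroup Γ} (f : D →* Γ') {a b : Γ} (ha : a ∈ D)
    (hb : b ∈ D) : mel f ⁅a, b⁆ = ⁅mel f a, mel f b⁆ := by
  rw [commutatorElement_def, commutatorElement_def, mel_mul f (mul_mem (mul_mem ha hb) (inv_mem ha))
    (inv_mem hb), mel_conj f ha hb, mel_inv f hb]

variable {ρ : Representation k Γ M}

/-- The weight space. -/
def wsp (ρ : Representation k Γ M) {A : Subgroup Γ} (χ : Ch k A) : Submodule k M where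
  carrier := {v | IsW ρ χ v}
  add_mem' := fun ha hb a => by rw [map_add, ha, hb, smul_add]
  zero_mem' := fun a => by simp
  smul_mem' := fun c v hv a => by rw [map_smul, hv, smul_comm]

theorem exists_layer {P : Subgroup Γ} [P.Normal] (hPP : ⁅P, P⁆ ≤ Cent P) (χ : Ch k (Zc P)) :
    ∃ (Γ' : Type u) (_ : Group Γ') (_ : Finite Γ') (f : MulAction.stabilizer Γ χ →* Γ')
      (ρ' : Representation k Γ' (wsp ρ χ)), Function.Injective ρ' ∧ (mim f P).Normal ∧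
      ⁅mim f P, mim f P⁆ ≤ scal ρ' ∧ P ≤ MulAction.stabilizer Γ χ ∧
      ∀ g ∈ MulAction.stabilizer Γ χ, ∀ w, (ρ' (mel f g) w : M) = ρ g w := by
  obtain ⟨Γ', _, _, f, ρ', h1, h2, h3⟩ := exists_faithful (Representation.subrepresentation
    (ρ.comp (MulAction.stabilizer Γ χ).subtype) (wsp ρ χ) fun g w hw => by
      have := IsW.conj hw g
      rwa [show (g : Γ) • χ = χ from g.2] at this)
  have hP : P ≤ MulAction.stabilizer Γ χ := fun g hg =>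
    smul_eq_of_cent (le_cent_symm inf_le_right hg) χ
  have h4 : ∀ g ∈ MulAction.stabilizer Γ χ, ∀ w, (ρ' (mel f g) w : M) = ρ g w := fun g hg w => by
    rw [h3 g hg]; rfl
  refine ⟨Γ', inferInstance, inferInstance, f, ρ', h1, ?_, ?_, hP, h4⟩
  · rw [← normalizer_eq_top_iff, eq_top_iff, ← h2]
    exact mim_nrm f le_normalizer_of_normal
  · rw [← mim_commutator f hP hP]
    intro z₀ hz₀
    obtain ⟨z, hz, hz', rfl⟩ := mem_mim.1 hz₀
    exact ⟨χ.hom ⟨z, der_le P hz, hPP hz⟩, fun w => Subtype.ext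
      ((h4 z hz' w).trans (w.2 ⟨z, der_le P hz, hPP hz⟩))⟩

omit [Finite Γ] in
theorem eS_transfer {Γ' M' : Type*} [Group Γ'] [AddCommGroup M'] [Module k M']
    {ρ' : Representation k Γ' M'} (T : M' →ₗ[k] M) {σ : Γ} {σ' : Γ'}
    (h : ∀ w, T (ρ' σ' w) = ρ σ (T w)) (r : ℕ) (w : M') : T (eS ρ' σ' r w) = eS ρ σ r (T w) := by
  rw [eS_apply, eS_apply, map_sum]
  refine Finset.sum_congr rfl fun i hi => ?_
  clear hi
  induction i with
  | zero => simp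
  | succ i ih => rw [pow_succ', pow_succ', map_mul, map_mul, Module.End.mul_apply,
      Module.End.mul_apply, h, ih]

omit [Finite Γ] in
theorem pr_conj' {A : Subgroup Γ} [A.Normal] [Fintype A] {χ : Ch k A} {g : Γ} (h : g • χ = χ)
    (v : M) : pr ρ χ (ρ g v) = ρ g (pr ρ χ v) := by rw [pr_conj, h]

theorem caseI {P A : Subgroup Γ} [A.Normal] [Fintype A] (hAP : A ≤ P) (hPA : P ≤ Cent A)
    (hA : (Nat.card A : k) ≠ 0) {σ : Γ} {r : ℕ} (hr : r.Prime) (hσ : σ ^ r = 1) (hrk : (r : k) ≠ 0)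
    (hrA : ¬ r ∣ Nat.card A) {χ : Ch k A} (hχ : σ • χ ≠ χ) (τ : Module.End k M)
    (hτσ : ∀ v, τ (ρ σ v) = ρ σ (τ v)) (hτA : ∀ a : A, ∀ v, τ (ρ a v) = ρ a (τ v)) {μ : M} {x₀ : Γ}
    (hx₀ : x₀ ∈ P) (h0 : τ (ρ x₀ (pr ρ χ μ)) ≠ 0) :
    ∃ x ∈ P, ρ σ (ρ x μ) ≠ ρ x μ ∧ τ (eS ρ σ r (ρ x μ)) ≠ 0 := by
  have hτe : ∀ v, τ (eS ρ σ r v) = eS ρ σ r (τ v) := eS_comm ρ hτσ
  rw [← pr_conj' (smul_eq_of_cent (hPA hx₀) χ), pr_comm hτA] at h0
  obtain ⟨a, ha⟩ : ∃ a : A, pr ρ χ (eS ρ σ r (ρ a (τ (ρ x₀ μ)))) ≠ 0 := by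
    by_contra h
    push Not at h
    have h1 := pr_eS hr hσ hA hχ (isW_pr (ρ := ρ) χ (τ (ρ x₀ μ)))
    conv_lhs at h1 => rw [pr_apply ρ χ (τ _)]
    simp only [map_sum, map_smul, h, smul_zero, Finset.sum_const_zero] at h1
    exact h0 ((smul_eq_zero.1 h1.symm).resolve_left hA)
  rw [← hτA, ← Module.End.mul_apply (ρ a), ← map_mul] at ha
  have hx₁ := mul_mem (hAP a.2) hx₀
  by_cases h5 : ρ σ (ρ (a * x₀) μ) = ρ (a * x₀) μ
  swap
  · exact ⟨_, hx₁, h5, fun h => ha (by rw [← hτe, h, map_zero])⟩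
  have h6 : ρ σ (τ (ρ (a * x₀) μ)) = τ (ρ (a * x₀) μ) := by rw [← hτσ, h5]
  have h1 : ⁅A, zpowers σ⁆ ≤ A := commutator_le_left _ _
  have hAc : IsMulCommutative A := comm_iff_le_cent.2 (hAP.trans hPA)
  obtain ⟨x, hx, h7, h8⟩ := nf ρ hr hσ hrk (E := ⁅A, zpowers σ⁆) (nil_of_comm (comm_of_le hAc h1))
    (fun h => hrA (h.trans (card_dvd_of_le h1))) (nrm_commutator_right _ _ (mem_zpowers σ))
    (coprime_commGid le_normalizer_of_normal (coprime_zpowers_prime hr hσ hrA)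
      (Or.inl (sol_zpowers σ))) h6 (fun h => hχ (MonoidHom.ext fun b => by
        rw [eS_fix ρ h6, map_smul] at ha
        have hv := (smul_ne_zero_iff.1 ha).2
        have h2 : (b : Γ)⁻¹ * (σ⁻¹ * b * σ) ∈ ⁅A, zpowers σ⁆ := by
          simpa [commutatorElement_def, mul_assoc] using
            commutator_mem_commutator (inv_mem b.2) (inv_mem (mem_zpowers σ))
        have h3 := isW_pr (ρ := ρ) χ (τ (ρ (a * x₀) μ)) ⟨_, h1 h2⟩
        rw [← pr_conj' (smul_eq_of_cent (hPA (hAP (h1 h2))) χ), h h2] at h3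
        have h4 := smul_left_injective k hv ((one_smul k _).trans h3)
        have h9 : χ.hom (b⁻¹ * MulAut.conjNormal σ⁻¹ b) = 1 := by
          refine Units.val_eq_one.1 (Eq.trans ?_ h4.symm)
          congr 2
          ext; simp
        rw [map_mul, map_inv, inv_mul_eq_one] at h9
        exact h9.symm))
  rw [← hτA ⟨x, h1 hx⟩] at h7 h8
  refine ⟨x * (a * x₀), mul_mem (hAP (h1 hx)) hx₁, fun h => h7 ?_, ?_⟩
  · rw [← hτσ]
    simpa using congrArg τ h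
  · rw [hτe, map_mul]; exact h8

/-- `x` is not in the radical attached to the weight `χ`. -/
def NRad (P : Subgroup Γ) (χ : Ch k (Zc P)) (x : Γ) : Prop :=
  (∃ y ∈ P, ∃ h : ⁅x, y⁆ ∈ Zc P, χ.hom ⟨_, h⟩ ≠ 1) ∨
    (P ≤ Cent P ∧ ∃ h : x ∈ Zc P, χ.hom ⟨x, h⟩ ≠ 1)

omit [Finite Γ] in
theorem IsW.ne_of_ne_one {A : Subgroup Γ} {χ : Ch k A} {v : M} (hv : IsW ρ χ v) (h0 : v ≠ 0) {a : A}
    (h : χ.hom a ≠ 1) : ρ a v ≠ v := fun e =>
  h (Units.val_eq_one.1 (smul_left_injective k h0 ((hv a).symm.trans (e.trans (one_smul k v).symm))))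

omit [Finite Γ] in
theorem NRad.exists_ne {P : Subgroup Γ} {χ : Ch k (Zc P)} {d : Γ} (h : NRad P χ d) {v : M}
    (hv : IsW ρ χ v) (h0 : v ≠ 0) : ∃ y ∈ P, ρ d (ρ y v) ≠ ρ y v := by
  by_contra hc
  push Not at hc
  have h1 : ρ d v = v := by simpa using hc 1 (one_mem _)
  rcases h with ⟨y, hy, h, h2⟩ | ⟨-, h, h2⟩
  · refine hv.ne_of_ne_one h0 h2 ?_
    simp [commutatorElement_def, inv_fix ρ (hc _ (inv_mem hy)), h1]
  · exact hv.ne_of_ne_one h0 h2 h1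

variable [IsAlgClosed k] [FiniteDimensional k M]

theorem nontop {P : Subgroup Γ} [P.Normal] [Fintype (Zc P)] (hPP : ⁅P, P⁆ ≤ Cent P) {p : ℕ}
    [Fact p.Prime] (hP : IsPGroup p P) (hpk : (p : k) ≠ 0) {σ : Γ} {r : ℕ} (hr : r.Prime)
    (hσ : σ ^ r = 1) (hrk : (r : k) ≠ 0) (hrP : ¬ r ∣ Nat.card P) {Q : Subgroup Γ}
    (hσQ : σ ∈ Nrm Q) (hc : (Nat.card Q).Coprime (Nat.card P)) (hrQ : ¬ r ∣ Nat.card Q)
    (hPQ : ⁅P, Q⁆ = P) (hQZ : ¬ P ≤ Cent P → Q ≤ Cent (Zc P)) {χ : Ch k (Zc P)} {μ : M}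
    (hμ : pr ρ χ μ ≠ 0) {x₁ : Γ} (hx₁ : x₁ ∈ ⁅P, zpowers σ⁆) (h1 : NRad P χ x₁) {d : Γ}
    (hd : d ∈ P ⊓ Cent1 σ) (ε : k) (hε : ε = 0 ∨ ε = 1 ∧ NRad P χ d) :
    ∃ x ∈ P, ρ σ (ρ x μ) ≠ ρ x μ ∧ (1 - ε • ρ d) (eS ρ σ r (ρ x μ)) ≠ 0 := by
  have hZ := natCast_card_pgroup (k := k) (hP.to_le (inf_le_left : Zc P ≤ P)) hpk
  have hτ : ∀ g, d * g = g * d → ∀ v, (1 - ε • ρ d) (ρ g v) = ρ g ((1 - ε • ρ d) v) := by
    intro g hg v
    have := congrArg (fun a => ρ a v) hg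
    simp only [map_mul, Module.End.mul_apply] at this
    simp [this]
  obtain ⟨x₀, hx₀, h0⟩ : ∃ x₀ ∈ P, (1 - ε • ρ d) (ρ x₀ (pr ρ χ μ)) ≠ 0 := by
    rcases hε with rfl | ⟨rfl, h⟩
    · exact ⟨1, one_mem _, by simpa using hμ⟩
    · obtain ⟨y, hy, h⟩ := h.exists_ne (isW_pr χ μ) hμ
      exact ⟨y, hy, by simpa [sub_eq_zero] using h.symm⟩
  by_cases hχ : σ • χ = χ
  swap
  · exact caseI inf_le_left (le_cent_symm inf_le_right) hZ hr hσ hrk
      (fun h => hrP (h.trans (card_dvd_of_le inf_le_left))) hχ _ (hτ σ (mem_cent1.1 hd.2))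
      (fun a => hτ a (a.2.2 d hd.1)) hx₀ h0
  rcases h1 with ⟨y, hy, h, h2⟩ | ⟨hab, h, h2⟩
  swap
  · exact absurd (comm_fix_of_smul_eq hχ (isW_pr χ μ) (commutator_mono (le_inf le_rfl hab) le_rfl hx₁))
      ((isW_pr χ μ).ne_of_ne_one hμ h2)
  have hx₁P : x₁ ∈ P := commutator_le_left _ _ hx₁
  have hna : ¬ P ≤ Cent P := fun hab => h2 (by
    rw [← map_one χ.hom]
    congr 1
    exact Subtype.ext (commutatorElement_eq_one_iff_mul_comm.2 (hab hy x₁ hx₁P)))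
  obtain ⟨Γ', _, _, f, ρ', hρ, hn, hsc, hPD, hf⟩ := exists_layer (ρ := ρ) hPP χ
  have hQD : Q ≤ MulAction.stabilizer Γ χ := fun g hg => smul_eq_of_cent (hQZ hna hg) χ
  obtain ⟨x', hx', h3, h4⟩ := layerII (P := mim f P) hρ hsc (isPGroup_mim hP f) hpk hr
    (σ := mel f σ) (by rw [← mel_pow f hχ, hσ, mel_one]) hrk
    (fun h => hrP (h.trans (card_mim_dvd f P))) (Q := mim f Q) (mel_mem_nrm f hσQ)
    ((hc.coprime_dvd_left (card_mim_dvd f Q)).coprime_dvd_right (card_mim_dvd f P))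
    (fun h => hrQ (h.trans (card_mim_dvd f Q))) (by rw [← mim_commutator f hPD hQD, hPQ])
    (fun h3 => by
      rw [← mim_zpowers f hχ, ← mim_commutator f hPD (zpowers_le.2 hχ)] at h3
      have h4 := commutatorElement_eq_one_iff_mul_comm.2
        (h3 (mel_mem_mim f hx₁) _ (mel_mem_mim f hy)).symm
      have h5 := hf _ (hPD h.1) ⟨_, isW_pr χ μ⟩
      rw [mel_comm f (hPD hx₁P) (hPD hy), h4] at h5
      exact (isW_pr χ μ).ne_of_ne_one hμ h2 (by simpa using h5.symm))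
    (1 - ε • ρ' (mel f d)) (fun g hg v => by
      have := congrArg (fun a => ρ' a v) (hg (mel f d) ⟨mel_mem_mim f hd.1, mem_cent1.2 (by
        rw [← mel_mul f (hPD hd.1) hχ, ← mel_mul f hχ (hPD hd.1), mem_cent1.1 hd.2])⟩)
      simp only [map_mul, Module.End.mul_apply] at this
      simp [this]) (ν := ⟨_, isW_pr χ μ⟩) (mel_mem_mim f hx₀) (fun h3 => h0 (by
        have h4 := congrArg Subtype.val h3
        simpa [hf _ (hPD hd.1), hf _ (hPD hx₀)] using h4))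
  obtain ⟨x, hx, -, rfl⟩ := mem_mim.1 hx'
  refine ⟨x, hx, fun h5 => h3 (Subtype.ext ?_), fun h5 => h4 (Subtype.ext ?_)⟩
  · simp only [hf _ hχ, hf _ (hPD hx), ← pr_conj' hχ, ← pr_conj' (hPD hx), h5]
  · have h6 := congrArg (pr ρ χ) h5
    have h7 := eS_transfer (ρ := ρ) (wsp ρ χ).subtype (hf _ hχ) r
      (ρ' (mel f x) ⟨_, isW_pr χ μ⟩)
    rw [← pr_comm fun a : Zc P => hτ a (a.2.2 d hd.1), eS_comm ρ (pr_conj' hχ), pr_conj' (hPD hx)] at h6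
    simp only [Submodule.subtype_apply] at h7
    simpa [hf _ (hPD hd.1), h7, hf _ (hPD hx)] using h6

/-- Part a of the top case. -/
theorem top_a (hρ : Function.Injective ρ)
    (h0 : ∀ N : Subgroup Γ, N.Normal → N ≠ ⊥ → ∀ v ∈ fixSp ρ (N : Set Γ), v = 0) [Nontrivial M]
    {P : Subgroup Γ} [P.Normal] (hPP : ⁅P, P⁆ ≤ Cent P) {p : ℕ}
    [Fact p.Prime] (hP : IsPGroup p P) (hpk : (p : k) ≠ 0) {σ : Γ} {r : ℕ} (hr : r.Prime)
    (hσ : σ ^ r = 1) (hrP : ¬ r ∣ Nat.card P) (hPσ : ⁅P, zpowers σ⁆ = P) (hP0 : P ≠ ⊥)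
    (hΓ : P ⊔ Cent1 σ = ⊤) {Q : Subgroup Γ} (hQσ : Q ≤ Cent1 σ)
    (hc : (Nat.card Q).Coprime (Nat.card P)) (hrQ : ¬ r ∣ Nat.card Q)
    (hPQ : ⁅P, Q⁆ = P) (hQZ : ¬ P ≤ Cent P → Q ≤ Cent (Zc P))
    (h : (∀ v, ρ σ v = v → v = 0) ∨ ∃ Y ≤ Cent1 σ, Cent1 σ ≤ Nrm Y ∧ ¬ r ∣ Nat.card Y ∧
      Q ≤ nres Y ∧ (∀ y ∈ nres Y, ∀ v, ρ σ v = v → ρ y v = v) ∧
      (Zc P ≤ Cent1 σ → ∀ y ∈ ⁅Zc P, Y⁆, ∀ v, ρ σ v = v → ρ y v = v)) : False := by
  have hZ := natCast_card_pgroup (k := k) (hP.to_le (inf_le_left : Zc P ≤ P)) hpk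
  have := Fintype.ofFinite (Zc P)
  have hZc : ∀ a b : Zc P, a * b = b * a := (comm_zc P).is_comm.comm
  have hnorm : ∀ B : Subgroup Γ, Cent1 σ ≤ Nrm B → (⁅Zc P, B⁆).Normal := fun B hB => by
    rw [← normalizer_eq_top_iff, eq_top_iff, ← hΓ]
    exact sup_le (nrm_of_le_cent (le_cent_symm ((commutator_le_left _ _).trans inf_le_right)))
      (nrm_commutator le_normalizer_of_normal hB)
  have hQ : ∀ y ∈ Q, ∀ v, ρ σ v = v → ρ y v = v := fun y hy v hv => by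
    rcases h with h | ⟨Y, -, -, -, h1, h2, -⟩
    · rw [h v hv, map_zero]
    · exact h2 y (h1 hy) v hv
  by_cases h1 : ⁅Zc P, zpowers σ⁆ = ⊥
  swap
  · have h2 : Q = ⊥ := eq_bot_iff.2 fun y hy => hρ (LinearMap.ext fun v => by
      have h3 := ext_pr (ρ := ρ) hZc hZ (T := ρ y - 1) (v := v) fun χ => by
        by_cases hχ : σ • χ = χ
        · rw [h0 _ (hnorm _ (cent1_le_nrm_zpowers σ)) h1 (pr ρ χ v)
            fun e he => comm_fix_of_smul_eq hχ (isW_pr χ v) he, map_zero]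
        · simpa [sub_eq_zero] using fo hr hσ hZ hχ (isW_pr χ v) (mem_cent1.1 (hQσ hy)).symm
            (pow_orderOf_eq_one y) (fun h => hrQ (h.trans (orderOf_dvd_card hy)))
            (hQ y hy _ (σ_eS ρ hσ _))
      simpa [sub_eq_zero] using h3)
    exact hP0 (by rw [← hPQ, h2, commutator_bot_right])
  have hna : ¬ P ≤ Cent P := fun hab => hP0 (by
    rw [← hPσ, eq_bot_iff, ← h1]; exact commutator_mono (le_inf le_rfl hab) le_rfl)
  rw [H46.commutator_eq_bot_iff, cent_zpowers] at h1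
  obtain ⟨μ, hμ⟩ := exists_ne (0 : M)
  obtain ⟨χ, hχ⟩ := supp_nonempty ρ hZc hZ hμ
  obtain ⟨Γ', _, _, f, ρ', hρ', hn, hsc, hPD, hf⟩ := exists_layer (ρ := ρ) hPP χ
  have hσD : σ ∈ MulAction.stabilizer Γ χ := smul_eq_of_cent (le_cent1_iff.1 h1) χ
  have hQD : Q ≤ MulAction.stabilizer Γ χ := fun g hg => smul_eq_of_cent (hQZ hna hg) χ
  have hσ' : mel f σ ^ r = 1 := by rw [← mel_pow f hσD, hσ, mel_one]
  have hPσ' : ⁅mim f P, zpowers (mel f σ)⁆ = mim f P := by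
    rw [← mim_zpowers f hσD, ← mim_commutator f hPD (zpowers_le.2 hσD), hPσ]
  have hna' : ¬ mim f P ≤ Cent (mim f P) := fun h2 => by
    refine hχ (h0 ⁅P, P⁆ inferInstance (fun e => hna (H46.commutator_eq_bot_iff.1 e)) _ fun e he => ?_)
    have h3 := hf e (hPD (der_le P he)) ⟨_, isW_pr χ μ⟩
    have h4 := mel_mem_mim f he
    rw [mim_commutator f hPD hPD, H46.commutator_eq_bot_iff.2 h2, mem_bot] at h4
    rw [h4] at h3
    simpa using h3.symm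
  have hc' := (hc.coprime_dvd_left (card_mim_dvd f Q)).coprime_dvd_right (card_mim_dvd f P)
  have hPQ' : ⁅mim f P, mim f Q⁆ = mim f P := by rw [← mim_commutator f hPD hQD, hPQ]
  have hcσ : ∀ B ≤ Cent1 σ, mim f B ≤ Cent1 (mel f σ) := fun B hB => by
    rw [← cent_zpowers, ← mim_zpowers f hσD]
    exact mim_cent f (by rwa [cent_zpowers])
  by_cases h2 : ∀ v, ρ σ v = v → v = 0
  · obtain ⟨x, -, hx⟩ := exc_false (P := mim f P) hρ' hsc (isPGroup_mim hP f) hpk hr hσ'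
      (fun h => hrP (h.trans (card_mim_dvd f P))) (Q := mim f Q)
      (cent_le_nrm _ (le_cent1_iff.1 (hcσ Q hQσ))) hc'
      (fun h => hrQ (h.trans (card_mim_dvd f Q))) hPQ' (by rwa [hPσ'])
      (u := ⟨_, isW_pr χ μ⟩) (fun e => hχ (congrArg Subtype.val e))
    exact hx (Subtype.ext (h2 _ (by rw [← hf _ hσD, σ_eS ρ' hσ'])))
  obtain ⟨Y, hY, hYn, hrY, hQY, h3, h4⟩ := h.resolve_left h2
  have hYZ : ⁅Zc P, Y⁆ = ⊥ := by
    by_contra h5
    exact h2 fun v hv => h0 _ (hnorm Y hYn) h5 v fun e he => h4 h1 e he v hv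
  have hYD : Y ≤ MulAction.stabilizer Γ χ := fun g hg =>
    smul_eq_of_cent (commutator_eq_bot_iff'.1 hYZ hg) χ
  refine layerT (P := mim f P) hρ' hsc (isPGroup_mim hP f) hpk hr hσ'
    (fun h => hrP (h.trans (card_mim_dvd f P))) hPσ' hna' (hcσ Y hY)
    (fun h => hrY (h.trans (card_mim_dvd f Y))) (Q := mim f Q)
    ((mim_mono f hQY).trans (mim_nresI f 1 hYD).le) hc' hPQ' fun y₀ hy₀ v hv => ?_
  obtain ⟨y, hy, hy', rfl⟩ := mem_mim.1 ((mim_nresI f 1 hYD).ge hy₀)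
  exact Subtype.ext ((hf y hy' v).trans (h3 y hy v (by rw [← hf _ hσD, hv])))

end H76
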