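import Cfsg.Agent.Base
import Cfsg.Agent.H76.TuE

/-! Turull's theorem, part F: group structure of a minimal configuration; the dual module. -/

set_option autoImplicit false

namespace H76

open Module H22 H46 H48 Subgroup Cfsg H26.CF
open scoped commutatorElement

universe u

variable {Γ : Type u} [Group Γ] [Finite Γ]

theorem nres_le_of_pidx {p : ℕ} {Q H : Subgroup Γ} (h : H ≤ Nrm Q) (hi : PNat {p} (Q.relIndex H)) :
    nres H ≤ Q := by
  rw [← quo_eq_bot_iff ((nres_le_self H).trans h)]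
  exact (quo_nresI 1 h).trans (nres_eq_bot_iff.2 (IsPi.nil ((isPi_quo_iff h).2 hi)))

theorem hall_desc {p : ℕ} {O N X : Subgroup Γ} [O.Normal] (hO : IsPi {p} O) (s : ℕ) (hX : X ≤ N)
    (hXp : IsPi {p}ᶜ X) (h : X ≤ nres^[s] (O ⊔ N)) : X ≤ nres^[s] N := by
  have h1 : nres^[s] (O ⊔ N) ≤ O ⊔ nres^[s] N := by
    have h2 : (nres^[s] (O ⊔ N)).map (QuotientGroup.mk' O) = (nres^[s] N).map (QuotientGroup.mk' O) := by
      rw [map_nresI, map_nresI, Subgroup.map_sup, QuotientGroup.map_mk'_self, bot_sup_eq]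
    refine (le_comap_map (QuotientGroup.mk' O) _).trans ?_
    rw [h2, comap_map_eq, QuotientGroup.ker_mk', sup_comm]
  have h2 := le_inf (h.trans h1) hX
  have h3 := nresI_normalIn s N
  rw [modr le_normalizer_of_normal h3.1, sup_comm] at h2
  refine hXp.le_of_idx (normalIn_sup_left (inf_le_right.trans h3.2)) h2 ?_
  rw [relIndex_sup_of_nrm (inf_le_right.trans h3.2)]
  exact PNat.compl_compl (hO.inf_left.relIndex _)

theorem le_nresI_succ {G D X : Subgroup Γ} {s : ℕ} (hD : D ≤ G) (hX : X ≤ nres^[s] G)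
    (h : D ≤ ⁅D, X⁆) : D ≤ nres^[s + 1] G := by
  rw [Function.iterate_succ_apply']
  have h1 := h.trans (commutator_mono le_rfl hX)
  exact le_nres_of_le_commutator
    (h1.trans (commutator_le_right' (hD.trans (nresI_normalIn s G).2))) h1

omit [Finite Γ] in
theorem normal_of_nrm {H : Subgroup Γ} (h : ⊤ ≤ Nrm H) : H.Normal :=
  normalizer_eq_top_iff.1 (eq_top_iff.2 h)

theorem tu_structure {G : Subgroup Γ} [G.Normal] (hG : Group.IsSolvable G) {σ : Γ} {r : ℕ}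
    (hr : r.Prime) (hσ : σ ^ r = 1) (hrG : ¬ r ∣ Nat.card G) (hsup : G ⊔ zpowers σ = ⊤) {s : ℕ}
    (h1 : nres^[s + 1] G ≠ ⊥) (h2 : nres^[s + 2] G = ⊥)
    (hmin : ∀ H < G, σ ∈ Nrm H → nres^[s + 1] H = ⊥) :
    ∃ (p : ℕ) (P Q N : Subgroup Γ), p.Prime ∧ P.Normal ∧ IsPGroup p P ∧ P ≠ ⊥ ∧ N < G ∧
      σ ∈ Nrm N ∧ Q ≤ nres^[s] N ∧ N ≤ Nrm Q ∧ σ ∈ Nrm Q ∧ IsPi {p}ᶜ Q ∧ P ⊔ N = G ∧ ⁅P, Q⁆ = P ∧
      ⁅P, P⁆ ≤ Cent P ∧ ∀ U < P, U.Normal → U ≤ ⁅P, P⁆ ∧ Q ≤ Cent U := by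
  set H := nres^[s] G with hH
  have hL : nres^[s + 1] G = nres H := Function.iterate_succ_apply' _ _ _
  have hHn : H.Normal := normal_of_nrm (le_trans le_normalizer_of_normal (nrm_le_nrm_nresI s G))
  have hHG : H ≤ G := nresI_le_self s G
  rw [hL] at h1
  have hnil : Group.IsNilpotent (nres H) := by
    rw [← nres_eq_bot_iff, ← hL, ← h2]
    exact (Function.iterate_succ_apply' _ _ _).symm
  have hLn : (nres H).Normal :=
    normal_of_nrm (le_trans le_normalizer_of_normal (nrm_le_nrm_nresI 1 H))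
  obtain ⟨p, hp, hpL⟩ := exists_prime_dvd_card h1
  have := Fact.mk hp
  set O := Op p (nres H) with hO
  have hOn : O.Normal := normal_of_nrm (nrm_piCoreOf _ le_normalizer_of_normal)
  have hOp : IsPi {p} O := isPi_piCoreOf _ _
  have hOG : O ≤ G := (piCoreOf_le _ _).trans ((nres_le_self H).trans hHG)
  obtain ⟨Q, hQ, hσQ⟩ := coprime_Hall_exists {p}ᶜ (A := zpowers σ) (K := H) le_normalizer_of_normal
    (coprime_zpowers_prime hr hσ fun h => hrG (h.trans (card_dvd_of_le hHG))) (sol_of_le hG hHG)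
  have h3 : G ≤ Nrm (nres H ⊔ Q) := by
    rw [← quo_le_nrm_iff' le_normalizer_of_normal le_normalizer_of_normal]
    refine (quo_nrm _ (le_normalizer_of_normal (H := H))).trans (nil_hall_nrm_le ?_
      (hQ.mim _ le_normalizer_of_normal))
    rw [← nres_eq_bot_iff]
    exact (quo_nresI 1 le_normalizer_of_normal).symm.trans (quo_self _)
  have h4 : nres H ⊔ Q ≤ H := sup_le (nres_le_self H) hQ.le
  set N := G ⊓ Nrm Q with hN
  have hQN : Q ≤ N := le_inf (hQ.le.trans hHG) le_nrm_self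
  have h5 : O ⊔ N = G := by
    refine le_antisymm (sup_le hOG inf_le_left) ?_
    rw [← hall_frattini_arg (sol_of_le hG (h4.trans hHG)) ⟨h4.trans hHG, h3⟩
      (hQ.of_le le_sup_right h4), ← (nil_isDp_piCoreOf {p} hnil).sup]
    refine sup_le (sup_le (sup_le le_sup_left (le_sup_of_le_right (le_trans ?_ hQN)))
      (le_sup_of_le_right hQN)) le_sup_right
    exact hQ.normal_le (isPi_piCoreOf _ _) ((nresI_normalIn 1 H).piCoreOf _)
  have hOQ : ⁅O, Q⁆ ≠ ⊥ := by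
    intro h
    have h6 : G ≤ Nrm Q := by
      rw [← h5]
      exact sup_le (nrm_of_le_cent (H46.commutator_eq_bot_iff.1 h)) inf_le_right
    have h7 := nres_le_of_pidx (hHG.trans h6) hQ.idx'
    exact (nil_piCoreOf_hall {p} hnil).ne_bot hp rfl hpL (eq_bot_iff.2 ((le_inf le_rfl
      ((piCoreOf_le _ _).trans h7)).trans (hOp.inf_eq_bot hQ.isPi).le))
  have hQs : Q ≤ nres^[s] N := hall_desc hOp s hQN hQ.isPi (by rw [h5]; exact hQ.le)
  have hσN : zpowers σ ≤ Nrm N := nrm_inf le_normalizer_of_normal (nrm_nrm hσQ)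
  obtain ⟨P, hPO, hP⟩ := exists_minimal_le_of_wellFoundedLT
    (fun P : Subgroup Γ => N ⊔ zpowers σ ≤ Nrm P ∧ ⁅P, Q⁆ ≠ ⊥) O ⟨le_normalizer_of_normal, hOQ⟩
  obtain ⟨hBP, hPQ⟩ := hP.prop
  have hPp : IsPi {p} P := hOp.of_le hPO
  have hm : ∀ U : Subgroup Γ, U < P → N ⊔ zpowers σ ≤ Nrm U → ⁅U, Q⁆ = ⊥ := by
    intro U hU hBU
    by_contra h
    exact hU.not_ge (hP.le_of_le ⟨hBU, h⟩ hU.le)
  obtain ⟨e1, e2, e3, -⟩ := minAction_facts hPp.sol hBP (le_sup_of_le_left hQN)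
    (sup_le inf_le_right hσQ) (hQ.isPi.coprime' hPp) hPQ hm
  have hP0 : P ≠ ⊥ := by rintro rfl; simp at hPQ
  have hPN : P ⊔ N = G := by
    by_contra h
    refine hP0 (eq_bot_of_le (le_nresI_succ (X := Q) le_sup_left
      (hQs.trans (nresI_mono s le_sup_right)) e1.ge) (hmin _ (lt_of_le_of_ne
        (sup_le (hPO.trans hOG) inf_le_left) h) ?_))
    exact nrm_sup (le_sup_right.trans hBP) hσN (mem_zpowers σ)
  refine ⟨p, P, Q, N, hp, normal_of_nrm ?_, hPp.isPGroup hp, hP0, lt_of_le_of_ne inf_le_left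
    fun h => hPQ (eq_bot_iff.2 ((le_inf (commutator_le_left' (hQN.trans (le_sup_left.trans hBP)))
      (commutator_le_right' ((hPO.trans hOG).trans (h.ge.trans inf_le_right)))).trans
      (hPp.inf_eq_bot hQ.isPi).le)), hσN (mem_zpowers σ), hQs, inf_le_right, hσQ (mem_zpowers σ),
    hQ.isPi, hPN, e1, e3, fun U hU hUn => ⟨e2 U hU le_normalizer_of_normal,
      commutator_eq_bot_iff'.1 (hm U hU le_normalizer_of_normal)⟩⟩
  rw [← hsup, ← hPN, sup_assoc]
  exact sup_le le_nrm_self hBP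

/-! ### the dual module -/

/-- Additive functions on `P`. -/
def addF (P : Subgroup Γ) (K : Type) [Field K] : Submodule K (P → K) where
  carrier := {f | ∀ a b, f (a * b) = f a + f b}
  add_mem' := fun hf hg a b => by simp only [Pi.add_apply, hf a b, hg a b]; abel
  zero_mem' := fun a b => by simp
  smul_mem' := fun c f hf a b => by simp only [Pi.smul_apply, hf a b, smul_add]

/-- The conjugation action on additive functions. -/
def dualRep (P : Subgroup Γ) [P.Normal] (K : Type) [Field K] : Representation K Γ (addF P K) where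
  toFun g :=
    { toFun := fun f => ⟨fun a => f.1 (MulAut.conjNormal g⁻¹ a), fun a b => by
        simp only [map_mul]; exact f.2 _ _⟩
      map_add' := fun _ _ => rfl
      map_smul' := fun _ _ => rfl }
  map_one' := by ext f a; simp
  map_mul' g h := by ext f a; simp

variable {P : Subgroup Γ} {K : Type} [Field K]

omit [Finite Γ] in
theorem dualRep_apply [P.Normal] (g : Γ) (f : addF P K) (a : P) :
    (dualRep P K g f).1 a = f.1 (MulAut.conjNormal g⁻¹ a) := rfl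

/-- The kernel of an additive function. -/
def kerF (f : addF P K) : Subgroup Γ where
  carrier := {x | ∃ h : x ∈ P, f.1 ⟨x, h⟩ = 0}
  mul_mem' := fun ⟨ha, a⟩ ⟨hb, b⟩ => ⟨mul_mem ha hb, (f.2 ⟨_, ha⟩ ⟨_, hb⟩).trans (by simp [a, b])⟩
  one_mem' := ⟨one_mem _, (show f.1 1 = 0 by simpa using f.2 1 1)⟩
  inv_mem' := fun {x} ⟨ha, a⟩ => ⟨inv_mem ha, by
    have h1 := f.2 ⟨x, ha⟩ ⟨x, ha⟩⁻¹
    have h2 : f.1 1 = 0 := by simpa using f.2 1 1
    rw [mul_inv_cancel, h2, a, zero_add] at h1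
    exact h1.symm⟩

omit [Finite Γ] in
theorem mem_kerF {f : addF P K} (a : P) : (a : Γ) ∈ kerF f ↔ f.1 a = 0 :=
  ⟨fun h => h.2, fun h => ⟨a.2, h⟩⟩

omit [Finite Γ] in
theorem eq_zero_of_le_kerF {f : addF P K} (h : P ≤ kerF f) : f = 0 :=
  Subtype.ext (funext fun a => (mem_kerF a).1 (h a.2))

omit [Finite Γ] in
theorem comm_mem_kerF [P.Normal] {f : addF P K} {g : Γ} (a : P) :
    ⁅(a : Γ)⁻¹, g⁻¹⁆ ∈ kerF f ↔ (dualRep P K g f).1 a = f.1 a := by
  have h1 := f.2 a (a⁻¹ * MulAut.conjNormal g⁻¹ a)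
  rw [mul_inv_cancel_left] at h1
  rw [dualRep_apply, h1, add_eq_left, ← mem_kerF]
  simp [commutatorElement_def, mul_assoc]

omit [Finite Γ] in
theorem comm_le_kerF [P.Normal] {f : addF P K} {B : Subgroup Γ} :
    ⁅P, B⁆ ≤ kerF f ↔ B ≤ stab (dualRep P K) f := by
  rw [commutator_le]
  refine ⟨fun h g hg => Subtype.ext (funext fun a => (comm_mem_kerF a).1
    (h _ (inv_mem a.2) _ (inv_mem hg))), fun h a ha g hg => ?_⟩
  simpa using (comm_mem_kerF (f := f) (g := g⁻¹) ⟨a⁻¹, inv_mem ha⟩).2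
    (congrFun (congrArg Subtype.val (h (inv_mem hg))) _)

theorem exists_fixed_not_ker [P.Normal] {σ : Γ} (hc : (Nat.card (zpowers σ)).Coprime (Nat.card P))
    {f : addF P K} (hf : dualRep P K σ f = f) (h0 : f ≠ 0) : ∃ c ∈ P ⊓ Cent1 σ, c ∉ kerF f := by
  by_contra h
  push Not at h
  refine h0 (eq_zero_of_le_kerF ?_)
  refine (coprime_cent_prod (K := P) le_normalizer_of_normal hc (Or.inl (sol_zpowers σ))).ge.trans
    (sup_le (comm_le_kerF.2 (zpowers_le.2 hf)) ?_)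
  rw [cent_zpowers]
  exact h

omit [Finite Γ] in
theorem eS_dual [P.Normal] {σ : Γ} (r : ℕ) (f : addF P K) {c : Γ} (hc : c ∈ P ⊓ Cent1 σ)
    (h : c ∈ kerF f) : c ∈ kerF (eS (dualRep P K) σ r f) := by
  refine ⟨hc.1, ?_⟩
  rw [eS_apply, Submodule.coe_sum, Finset.sum_apply]
  refine Finset.sum_eq_zero fun i _ => ?_
  rw [dualRep_apply]
  refine (congrArg f.1 (Subtype.ext ?_)).trans h.2
  rw [MulAut.conjNormal_apply]
  simp [mul_assoc, ((show Commute c σ from mem_cent1.1 hc.2).pow_right i).eq]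

omit [Finite Γ] in
theorem exists_addF {k : Type*} [Field k] {p : ℕ} [hp : Fact p.Prime] [CharP K p] (η : P →* kˣ)
    (h1 : η ≠ 1) (h2 : ∀ a, η a ^ p = 1) : ∃ f : addF P K, ∀ a, f.1 a = 0 ↔ η a = 1 := by
  obtain ⟨a₀, ha₀⟩ := DFunLike.ne_iff.1 h1
  have h3 : IsPrimitiveRoot (η a₀) p := by
    rw [← orderOf_eq_prime (h2 a₀) ha₀]; exact IsPrimitiveRoot.orderOf _
  have h4 : ∀ a, η a ∈ zpowers (η a₀) := fun a => by
    rw [h3.zpowers_eq]; exact h2 a
  let e := h3.zmodEquivZPowers.symm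
  refine ⟨⟨fun a => ZMod.castHom (dvd_refl p) K (e (Additive.ofMul ⟨η a, h4 a⟩)), fun a b => ?_⟩,
    fun a => ?_⟩
  · rw [← map_add, ← map_add, ← ofMul_mul]
    simp
  · change ZMod.castHom (dvd_refl p) K (e (Additive.ofMul ⟨η a, h4 a⟩)) = 0 ↔ _
    rw [map_eq_zero, e.map_eq_zero_iff, ofMul_eq_zero, Subtype.ext_iff]
    rfl

/-- The commutator pairing with a fixed element, composed with a weight. -/
def commCh {k : Type*} [Field k] (hPP : ⁅P, P⁆ ≤ Cent P) (χ : Ch k (Zc P)) (y : P) : P →* kˣ :=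
  MonoidHom.mk' (fun x => χ.hom ⟨⁅(x : Γ), y⁆, der_le P (commutator_mem_commutator x.2 y.2),
    hPP (commutator_mem_commutator x.2 y.2)⟩) fun a b => by
      rw [← map_mul]
      congr 1
      ext
      have h := hPP (commutator_mem_commutator b.2 y.2) a a.2
      change ⁅(a : Γ) * b, (y : Γ)⁆ = ⁅(a : Γ), (y : Γ)⁆ * ⁅(b : Γ), (y : Γ)⁆
      have h2 := hPP (commutator_mem_commutator b.2 y.2) _ (der_le P (commutator_mem_commutator a.2 y.2))
      rw [h2]
      calc _ = a * ⁅(b : Γ), (y : Γ)⁆ * (a : Γ)⁻¹ * ⁅(a : Γ), (y : Γ)⁆ := by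
            simp only [commutatorElement_def]; group
        _ = _ := by rw [h]; group

omit [Finite Γ] in
theorem exists_dual {k : Type*} [Field k] {p : ℕ} [hp : Fact p.Prime] [CharP K p]
    (hPP : ⁅P, P⁆ ≤ Cent P) (hexp : ∀ t ∈ P, t ^ p ∈ ⁅P, P⁆) (χ : Ch k (Zc P))
    (h1 : ∃ z : Zc P, (P ≤ Cent P ∨ (z : Γ) ∈ ⁅P, P⁆) ∧ χ.hom z ≠ 1) :
    ∃ f : addF P K, f ≠ 0 ∧ ∀ x ∈ P, x ∉ kerF f → NRad P χ x := by
  obtain ⟨z, hz, hz1⟩ := h1
  by_cases hab : P ≤ Cent P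
  · obtain ⟨f, hf⟩ := exists_addF (K := K) (p := p) (χ.hom.comp (inclusion (le_inf le_rfl hab)))
      (fun h => hz1 (DFunLike.congr_fun h ⟨z, z.2.1⟩)) fun a => by
        rw [← map_pow, show a ^ p = 1 from Subtype.ext (mem_bot.1
          ((H46.commutator_eq_bot_iff.2 hab).le (hexp a a.2))), map_one]
    refine ⟨f, fun h => hz1 ((hf ⟨z, z.2.1⟩).1 (by rw [h]; rfl)), fun x hx h =>
      Or.inr ⟨hab, ⟨hx, hab hx⟩, fun e => h ⟨hx, (hf _).2 e⟩⟩⟩
  obtain ⟨x, y, hxy⟩ : ∃ x y : P, commCh hPP χ y x ≠ 1 := by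
    by_contra h
    push Not at h
    have h2 : ⁅P, P⁆ ≤ χ.hom.ker.map (Zc P).subtype :=
      commutator_le.2 fun a ha b hb => ⟨_, h ⟨a, ha⟩ ⟨b, hb⟩, rfl⟩
    obtain ⟨w, hw, e⟩ := h2 (hz.resolve_left hab)
    exact hz1 (by rw [← Subtype.ext e]; exact hw)
  obtain ⟨f, hf⟩ := exists_addF (K := K) (p := p) (commCh hPP χ y)
    (fun h => hxy (DFunLike.congr_fun h x)) fun a => by
      rw [← map_pow, ← map_one χ.hom]
      exact congrArg χ.hom (Subtype.ext (commutatorElement_eq_one_iff_mul_comm.2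
        (hPP (hexp a a.2) y y.2).symm))
  exact ⟨f, fun h => hxy ((hf x).1 (by rw [h]; rfl)), fun a ha h =>
    Or.inl ⟨y, y.2, _, fun e => h ⟨ha, (hf _).2 e⟩⟩⟩

omit [Finite Γ] in
theorem NRad.conj {k : Type*} [Field k] [hP : P.Normal] {χ : Ch k (Zc P)} {x g : Γ}
    (h : NRad P χ (g⁻¹ * x * g)) : NRad P (g • χ) x := by
  have hZ : (Zc P).Normal := inferInstance
  rcases h with ⟨y, hy, h, h1⟩ | ⟨hab, h, h1⟩
  · refine Or.inl ⟨g * y * g⁻¹, hP.conj_mem y hy g, by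
      convert hZ.conj_mem _ h g using 1
      simp only [commutatorElement_def]; group, fun e => h1 ?_⟩
    rw [← e, smul_hom]
    congr 1
    ext
    simp only [commutatorElement_def, MulAut.conjNormal_apply]; group
  · refine Or.inr ⟨hab, by
      convert hZ.conj_mem _ h g using 1
      group, fun e => h1 ?_⟩
    rw [← e, smul_hom]
    congr 1
    ext
    simp

end H76
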