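import Cfsg.Agent.Base
import Cfsg.Agent.H76.TuF
import Cfsg.Agent.H90.PermMod

/-! Turull's theorem, part G: the inductive statement and the reduction to irreducible modules. -/

set_option autoImplicit false

namespace H76

open Module H22 H46 H48 Subgroup Cfsg H26.CF
open scoped commutatorElement

universe u

variable {Γ : Type u} [Group Γ] [Finite Γ] {k M : Type*} [Field k] [AddCommGroup M] [Module k M]

/-- The numbers different from the characteristic. -/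
abbrev wp (k : Type*) [Field k] : Set ℕ := {ringChar k}ᶜ

theorem cast_ne_zero_of_wp {n : ℕ} (h : PNat (wp k) n) (h0 : n ≠ 0) : (n : k) ≠ 0 := by
  rw [Ne, ringChar.spec]
  intro hd
  rcases CharP.char_is_prime_or_zero k (ringChar k) with h1 | h1
  · exact h _ h1 hd rfl
  · exact h0 (by simpa [h1] using hd)

theorem singleton_subset_wp {p : ℕ} (hp : (p : k) ≠ 0) : {p} ⊆ wp k := by
  rintro _ rfl h
  exact hp (by rw [show _ = ringChar k from h]; exact ringChar.Nat.cast_ringChar)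

theorem exists_lift_elt {Γ' : Type*} [Group Γ'] {D X : Subgroup Γ} (f : D →* Γ')
    {π : Set ℕ} {z : Γ'} (hz : z ∈ mim f X) (h : IsPiElt π z) :
    ∃ y ∈ X, IsPiElt π y ∧ mel f y = z := by
  obtain ⟨y, hy, hyD, rfl⟩ := mem_mim.1 hz
  refine ⟨piPart π y, piPart_mem π hy, isPiElt_piPart π y, ?_⟩
  have h1 := mel_mem_mim f (piPart_mem_zpowers πᶜ y)
  rw [mim_zpowers f hyD] at h1
  conv_rhs => rw [← piPart_mul_piPart_compl π y, mel_mul f (piPart_mem π hyD) (piPart_mem πᶜ hyD),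
    (h.of_mem_zpowers h1).eq_one ((isPiElt_piPart πᶜ y).mel f), mul_one]

theorem nres_le_of_elt {p : ℕ} {T Y : Subgroup Γ} (hn : Y ≤ Nrm T)
    (h : ∀ y ∈ Y, IsPiElt {p}ᶜ y → y ∈ T) : nres Y ≤ T := by
  refine nres_le_of_pidx (p := p) hn ((isPi_quo_iff hn).1 (isPi_iff_elt.2 fun z hz => ?_))
  obtain ⟨y, hy, h1, h2⟩ := exists_lift_elt (qmap T) (piPart_mem {p}ᶜ hz) (isPiElt_piPart _ z)
  simpa using piPart_eq_one_iff.1 (h2.symm.trans (qel_of_mem (h y hy h1)))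

variable {ρ : Representation k Γ M}

theorem nres_fix {Y : Subgroup Γ} {v : M} (hv : ∀ y ∈ Y, IsPiElt (wp k) y → ρ y v = v) :
    nres Y ≤ stab ρ v := by
  refine (nres_le_of_elt (p := ringChar k) (T := ⨅ g : Y, stab ρ (ρ g v))
    (H1.le_normalizer_of_conj_mem fun a ha t ht => mem_iInf.2 fun g => ?_)
    fun y hy h => mem_iInf.2 fun g => ?_).trans ((iInf_le _ 1).trans (by simp))
  · have h1 : ρ t _ = _ := mem_iInf.1 ht ⟨a⁻¹ * g, mul_mem (inv_mem ha) g.2⟩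
    simp only [map_mul, Module.End.mul_apply] at h1
    simp [mem_stab, h1]
  · have h1 := hv _ (mul_mem (mul_mem (inv_mem g.2) hy) g.2)
      (by simpa using (isPiElt_conj (g := (g : Γ)⁻¹)).2 h)
    rw [mem_stab]
    conv_rhs => rw [← h1]
    simp

/-- The subspaces to be avoided. -/
def V0 (ρ : Representation k Γ M) (C : Subgroup Γ) : ℕ → Submodule k M
  | 0 => ⊥
  | s + 1 => fixSp ρ {y | y ∈ nres^[s] C ∧ IsPiElt (wp k) y}

omit [Finite Γ] in
theorem V0_mono {C C' : Subgroup Γ} (h : C' ≤ C) {t s : ℕ} (hs : t ≤ s) : V0 ρ C t ≤ V0 ρ C' s := by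
  rcases t with _ | t
  · exact bot_le
  obtain ⟨s, rfl⟩ := Nat.exists_eq_add_of_le' (le_trans (Nat.le_add_left 1 t) hs)
  exact fun v hv y hy => hv y ⟨nresI_anti C (by omega : t ≤ s) (nresI_mono s h hy.1), hy.2⟩

/-- The conclusion of the inductive statement. -/
def GA (ρ : Representation k Γ M) (G : Subgroup Γ) (σ : Γ) (r s : ℕ) (μ : M) : Prop :=
  (∃ g ∈ G, ρ σ (ρ g μ) ≠ ρ g μ ∧ ∀ t < s, eS ρ σ r (ρ g μ) ∉ V0 ρ (G ⊓ Cent1 σ) t) ∨
    ∃ y ∈ nres^[s] (G ⊓ Cent1 σ), IsPiElt (wp k) y ∧ ρ y ≠ 1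

variable {G : Subgroup Γ} {σ : Γ} {r s : ℕ} {μ : M}

omit [Finite Γ] in
theorem GA.mono {H : Subgroup Γ} (hH : H ≤ G) {g : Γ} (hg : g ∈ G) {s' : ℕ} (hs : s ≤ s')
    (h : GA ρ H σ r s' (ρ g μ)) : GA ρ G σ r s μ := by
  rcases h with ⟨x, hx, h1, h2⟩ | ⟨y, hy, h⟩
  · refine Or.inl ⟨x * g, mul_mem (hH hx) hg, by simpa using h1, fun t ht h => h2 t (ht.trans_le hs)
      (V0_mono (inf_le_inf_right _ hH) le_rfl (by simpa using h))⟩
  · exact Or.inr ⟨y, nresI_anti _ hs (nresI_mono _ (inf_le_inf_right _ hH) hy), h⟩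

omit [Finite Γ] in
theorem GA.good {g : Γ} (hg : g ∈ G) (h1 : ρ σ (ρ g μ) ≠ ρ g μ)
    (h2 : eS ρ σ r (ρ g μ) ∉ V0 ρ (G ⊓ Cent1 σ) s) : GA ρ G σ r (s + 1) μ :=
  Or.inl ⟨g, hg, h1, fun _ ht h => h2 (V0_mono le_rfl (Nat.le_of_lt_succ ht) h)⟩

theorem GA.transfer {Γ' M₀ M' : Type*} [Group Γ'] [Finite Γ'] [AddCommGroup M₀] [Module k M₀]
    [AddCommGroup M'] [Module k M'] {D : Subgroup Γ} (f : D →* Γ') {ψ : Representation k D M₀}
    {ρ' : Representation k Γ' M'} (i : M₀ →ₗ[k] M) (hi : Function.Injective i)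
    (hiψ : ∀ (g : D) w, i (ψ g w) = ρ g (i w)) (T : M₀ →ₗ[k] M') (hT : Function.Surjective T)
    (hTψ : ∀ (g : D) w, T (ψ g w) = ρ' (mel f g) (T w)) (hG : G ≤ D) (hσD : σ ∈ D)
    (hσG : σ ∈ Nrm G) (hr : r.Prime) (hσ : σ ^ r = 1) (hrG : ¬ r ∣ Nat.card G) {w : M₀}
    (h : GA ρ' (mim f G) (mel f σ) r s (T w)) : GA ρ G σ r s (i w) := by
  have hC : mim f G ⊓ Cent1 (mel f σ) = mim f (G ⊓ Cent1 σ) := by
    rw [← cent_zpowers, ← cent_zpowers, ← mim_zpowers f hσD]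
    exact (coprime_mim_cent_aux f (N := mker f ⊓ G) (zpowers_le.2 hσD) inf_le_left inf_le_right
      (nrm_inf ((zpowers_le.2 hσD).trans (mker_normalIn f).2) (zpowers_le.2 hσG))
      (coprime_zpowers_prime hr hσ fun h => hrG (h.trans (card_dvd_of_le inf_le_right)))
      (Or.inl (sol_zpowers σ)) fun x hx a ha h =>
        ⟨h, G.mul_mem (G.inv_mem hx) (conj_mem_of_mem_nrm (zpowers_le.2 hσG ha) hx)⟩).symm
  have hCD : ∀ t, nres^[t] (G ⊓ Cent1 σ) ≤ D := fun t => (nresI_le_self _ _).trans (inf_le_left.trans hG)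
  have h1 : ∀ g ∈ D, ∀ v, ρ g (i v) = i v → ρ' (mel f g) (T v) = T v := fun g hg v h => by
    rw [← hTψ ⟨g, hg⟩, hi ((hiψ ⟨g, hg⟩ v).trans h)]
  have h2 : ∀ t, ∀ z ∈ nres^[t] (mim f G ⊓ Cent1 (mel f σ)), IsPiElt (wp k) z →
      ∃ y ∈ nres^[t] (G ⊓ Cent1 σ), IsPiElt (wp k) y ∧ mel f y = z := fun t z hz h => by
    rw [hC, ← mim_nresI f t (inf_le_left.trans hG)] at hz
    exact exists_lift_elt f hz h
  rcases h with ⟨_, hx, h3, h4⟩ | ⟨z, hz, h3, h4⟩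
  · obtain ⟨g, hg, hgD, rfl⟩ := mem_mim.1 hx
    rw [← hTψ ⟨g, hgD⟩] at h3 h4
    refine Or.inl ⟨g, hg, fun h => h3 (h1 σ hσD _ (by rwa [hiψ])), fun t ht h => h4 t ht ?_⟩
    rw [← hiψ ⟨g, hgD⟩, ← eS_transfer i (hiψ ⟨σ, hσD⟩)] at h
    rw [← eS_transfer T (hTψ ⟨σ, hσD⟩)]
    rcases t with _ | t
    · rw [hi (((Submodule.mem_bot k).1 h).trans (map_zero i).symm), map_zero]
      exact zero_mem _
    · intro z hz
      obtain ⟨y, hy, h5, rfl⟩ := h2 t z hz.1 hz.2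
      exact h1 y (hCD t hy) _ (h y ⟨hy, h5⟩)
  · obtain ⟨y, hy, h5, rfl⟩ := h2 s z hz h3
    refine Or.inr ⟨y, hy, h5, fun h => h4 (LinearMap.ext fun v => ?_)⟩
    obtain ⟨v, rfl⟩ := hT v
    exact h1 y (hCD s hy) v (by rw [h]; rfl)

/-- The inductive statement. -/
def Psi (r n : ℕ) : Prop :=
  ∀ (Γ : Type u) [Group Γ] [Finite Γ] (G : Subgroup Γ) (σ : Γ) (k : Type) [Field k] [IsAlgClosed k]
    (M : Type u) [AddCommGroup M] [Module k M] [FiniteDimensional k M] (ρ : Representation k Γ M)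
    (s : ℕ) (K : Subgroup Γ) (μ : M), Nat.card G < n → Group.IsSolvable G → σ ∈ Nrm G → σ ^ r = 1 →
    ¬ r ∣ Nat.card G → (r : k) ≠ 0 → K ≤ nres^[s] G → G ≤ Nrm K → σ ∈ Nrm K → IsPi (wp k) K →
    ¬ K ≤ stab ρ μ → GA ρ G σ r s μ

/-- The inductive statement for faithful irreducible modules. -/
def Core (r n : ℕ) : Prop :=
  ∀ (Γ : Type u) [Group Γ] [Finite Γ] (G : Subgroup Γ) [G.Normal] (σ : Γ) (k : Type) [Field k]
    [IsAlgClosed k] (M : Type u) [AddCommGroup M] [Module k M] [FiniteDimensional k M]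
    (ρ : Representation k Γ M) (s : ℕ) (μ : M), Nat.card G ≤ n → Group.IsSolvable G → σ ^ r = 1 →
    ¬ r ∣ Nat.card G → (r : k) ≠ 0 → G ⊔ zpowers σ = ⊤ → Function.Injective ρ →
    (∀ W : Submodule k M, (∀ g, ∀ v ∈ W, ρ g v ∈ W) → W ≠ ⊥ → W = ⊤) → μ ≠ 0 →
    nres^[s] G ≠ ⊥ → GA ρ G σ r s μ

theorem Core.psi {n : ℕ} (hr : r.Prime) (h : Core.{u} r n) : Psi.{u} r (n + 1) := by
  intro Γ _ _ G σ k _ _ M _ _ _ ρ s K μ hn hG hσG hσ hrG hrk hKs hGK hσK hKw hμ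
  set D := G ⊔ zpowers σ with hD
  have hGD : G ≤ D := le_sup_left
  have hσD : σ ∈ D := mem_sup_right (mem_zpowers σ)
  have hDK : D ≤ Nrm K := sup_le hGK (zpowers_le.2 hσK)
  have hKD : K ≤ D := (hKs.trans (nresI_le_self _ _)).trans hGD
  let M₀ : Submodule k M := Submodule.span k (Set.range fun g : D => ρ g μ)
  let ψ := Representation.subrepresentation (ρ.comp D.subtype) M₀ fun g =>
    Submodule.span_le.2 (by
      rintro _ ⟨x, rfl⟩
      exact Submodule.subset_span ⟨g * x, by simp⟩)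
  let μ₀ : M₀ := ⟨μ, Submodule.subset_span ⟨1, by simp⟩⟩
  have hK' : (K.subgroupOf D).Normal := (normal_subgroupOf_iff_le_normalizer hKD).2 hDK
  obtain ⟨U, hFU, hU⟩ := exists_maximal_ge_of_wellFoundedGT
    (fun U : Submodule k M₀ => (∀ g, U ≤ U.comap (ψ g)) ∧ μ₀ ∉ U) (fixSp ψ (K.subgroupOf D : Set D))
    ⟨fun g v hv => fixSp_inv (le_normalizer_of_normal (mem_top g)) hv,
      fun h => hμ fun x hx => congrArg Subtype.val (h ⟨x, hKD hx⟩ hx)⟩
  obtain ⟨Γ', _, _, f, ρ', h1, h2, h3⟩ := exists_faithful (Representation.quotient ψ U hU.prop.1)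
  have h4 : ∀ (g : D) w, U.mkQ (ψ g w) = ρ' (mel f g) (U.mkQ w) := fun g w => by
    rw [h3 g g.2]; rfl
  have h5 : U.mkQ μ₀ ≠ 0 := fun e => hU.prop.2 ((Submodule.Quotient.mk_eq_zero U).1 e)
  have hn' : (mim f G).Normal :=
    normal_of_nrm (h2.ge.trans (mim_nrm f (sup_le le_nrm_self (zpowers_le.2 hσG))))
  refine GA.transfer f M₀.subtype M₀.injective_subtype (fun g w => rfl) U.mkQ U.mkQ_surjective h4
    hGD hσD hσG hr hσ hrG (w := μ₀) (h _ _ _ _ _ _ _ _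
      ((Nat.le_of_dvd Nat.card_pos (card_mim_dvd f G)).trans (Nat.le_of_lt_succ hn)) (sol_mim hG f)
      (by rw [← mel_pow f hσD, hσ, mel_one]) (fun h => hrG (h.trans (card_mim_dvd f G))) hrk
      (by rw [← mim_zpowers f hσD, ← mim_sup f hGD (zpowers_le.2 hσD), h2]) h1
      (fun W hW h0 => ?_) h5 fun h0 => ?_)
  · have h6 : ∀ g, W.comap U.mkQ ≤ (W.comap U.mkQ).comap (ψ g) := fun g v hv => by
      change U.mkQ (ψ g v) ∈ W
      rw [h4]; exact hW _ _ hv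
    have h7 : μ₀ ∈ W.comap U.mkQ := by
      by_contra h7
      refine h0 (eq_bot_iff.2 fun v hv => ?_)
      obtain ⟨v, rfl⟩ := U.mkQ_surjective v
      exact (Submodule.Quotient.mk_eq_zero U).2
        (hU.le_of_ge ⟨h6, h7⟩ (Submodule.le_comap_mkQ U W) hv)
    have h8 : M₀ ≤ (W.comap U.mkQ).map M₀.subtype := Submodule.span_le.2 (by
      rintro _ ⟨x, rfl⟩
      exact ⟨ψ x μ₀, h6 x h7, rfl⟩)
    refine eq_top_iff.2 fun v _ => ?_
    obtain ⟨v, rfl⟩ := U.mkQ_surjective v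
    obtain ⟨w, hw, e⟩ := h8 v.2
    rwa [← Subtype.ext e]
  · have := Fintype.ofFinite (K.subgroupOf D)
    have h6 := (Submodule.Quotient.mk_eq_zero U).2 (hFU (trSub_mem_fixSp ψ (K.subgroupOf D) μ₀))
    rw [← Submodule.mkQ_apply, trSub_apply, map_sum, Finset.sum_congr rfl (g := fun _ => U.mkQ μ₀),
      Finset.sum_const, Finset.card_univ, ← Nat.card_eq_fintype_card, ← Nat.cast_smul_eq_nsmul k,
      Nat.card_congr (subgroupOfEquivOfLe hKD).toEquiv] at h6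
    · exact h5 ((smul_eq_zero.1 h6).resolve_left (cast_ne_zero_of_wp hKw Nat.card_pos.ne'))
    intro x _
    have h7 := mim_mono f hKs (mel_mem_mim f x.2)
    rw [mim_nresI f s hGD, h0, mem_bot] at h7
    rw [h4]
    erw [h7]
    simp

section irr
variable (hρ : Function.Injective ρ)
  (hirr : ∀ W : Submodule k M, (∀ g, ∀ v ∈ W, ρ g v ∈ W) → W ≠ ⊥ → W = ⊤)
include hirr

theorem irr_ind [G.Normal] (hsup : G ⊔ zpowers σ = ⊤) (hμ : μ ≠ 0) (W : Submodule k M)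
    (h1 : ∀ g ∈ G, ρ g μ ∈ W) (h2 : ∀ v ∈ W, ρ σ v ∈ W) (v : M) : v ∈ W := by
  have h3 := hirr (⨅ g, W.comap (ρ g)) (fun g v hv => (Submodule.mem_iInf _).2 fun x => by
    simpa using (Submodule.mem_iInf _).1 hv (x * g)) fun h => hμ ((Submodule.mem_bot k).1 (h.le
      ((Submodule.mem_iInf _).2 fun x => ?_)))
  · simpa using (Submodule.mem_iInf _).1 (h3.ge (Submodule.mem_top (x := v))) 1
  obtain ⟨y, hy, g, hg, rfl⟩ := mem_sup_of_normal_right.1 ((sup_comm _ _).trans hsup ▸ mem_top x)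
  obtain ⟨n, rfl⟩ := mem_powers_iff_mem_zpowers.2 hy
  induction n with
  | zero => simpa using h1 g hg
  | succ n ih => simpa [pow_succ', mul_assoc] using h2 _ (ih (pow_mem (mem_zpowers σ) n))

include hρ

omit [Finite Γ] in
theorem irr_h0 (N : Subgroup Γ) (hN : N.Normal) (h : N ≠ ⊥) : ∀ v ∈ fixSp ρ (N : Set Γ), v = 0 := by
  by_contra h1
  have h2 := hirr (fixSp ρ (N : Set Γ)) (fun g v hv => fixSp_inv (le_normalizer_of_normal (mem_top g)) hv)
    fun e => h1 fun v hv => (Submodule.mem_bot k).1 (e.le hv)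
  exact h (eq_bot_iff.2 fun x hx => hρ (LinearMap.ext fun v => by
    simpa using h2.ge (Submodule.mem_top (x := v)) x hx))

theorem irr_char [Nontrivial M] {P : Subgroup Γ} (hP : P.Normal) (h : P ≠ ⊥) {p : ℕ} (hp : p.Prime)
    (h1 : IsPGroup p P) : (p : k) ≠ 0 := fun e => by
  have := Fact.mk hp
  have := (CharP.charP_iff_prime_eq_zero hp).2 e
  obtain ⟨v, -, h2, h3⟩ := H90.exists_fixed_of_isPGroup h1 (ρ.comp P.subtype) ⊤ top_ne_bot
    fun _ _ _ => trivial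
  exact h2 (irr_h0 hρ hirr P hP h v fun x hx => h3 ⟨x, hx⟩)

theorem irr_wp [Nontrivial M] {L : Subgroup Γ} [L.Normal] (h : Group.IsNilpotent L) :
    IsPi (wp k) L := fun q hq hd e =>
  irr_char hρ hirr (normal_of_nrm (nrm_piCoreOf _ le_normalizer_of_normal))
    ((nil_piCoreOf_hall {q} h).ne_bot hq rfl hd) hq ((isPi_piCoreOf _ _).isPGroup hq)
    (by rw [show q = ringChar k from e]; exact ringChar.Nat.cast_ringChar)

end irr

end H76
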