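import Cfsg.Agent.Base
import Cfsg.Agent.H76.TuG

/-! Turull's theorem: `h(G) ≤ h(C_G(σ)) + 2` for a coprime automorphism of prime order. -/

set_option autoImplicit false

namespace H76

open Module H22 H46 H48 Subgroup Cfsg H26.CF
open scoped commutatorElement

universe u

variable {Γ : Type u} [Group Γ] [Finite Γ] {G P : Subgroup Γ} {σ : Γ} {r s : ℕ}

theorem exists_d [P.Normal] {K : Type} [Field K] {N : Subgroup Γ} (hN : N ≤ G) (hPG : P ≤ G)
    (hP : IsPi {ringChar K} P) (hσ : σ ^ r = 1)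
    (hc : (Nat.card (zpowers σ)).Coprime (Nat.card P)) {f : addF P K}
    (h : eS (dualRep P K) σ r f ∉ V0 (dualRep P K) (N ⊓ Cent1 σ) s) :
    ∃ d ∈ P ⊓ Cent1 σ, d ∉ kerF f ∧ d ∈ nres^[s] (G ⊓ Cent1 σ) := by
  rcases s with _ | s
  · obtain ⟨c, hc, h1⟩ := exists_fixed_not_ker hc (σ_eS _ hσ f) fun e => h (by rw [e]; exact zero_mem _)
    exact ⟨c, hc, fun e => h1 (eS_dual r f hc e), hPG hc.1, hc.2⟩
  obtain ⟨y, ⟨hy, hyw⟩, h1⟩ : ∃ y, (y ∈ nres^[s] (N ⊓ Cent1 σ) ∧ IsPiElt (wp K) y) ∧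
      dualRep P K y (eS (dualRep P K) σ r f) ≠ eS (dualRep P K) σ r f := by
    by_contra h1
    push Not at h1
    exact h h1
  have hyσ : y ∈ Cent1 σ := (nresI_le_self _ _ hy).2
  obtain ⟨c, hc, h2⟩ := exists_fixed_not_ker hc
    (f := dualRep P K y (eS (dualRep P K) σ r f) - eS (dualRep P K) σ r f) (by
      rw [map_sub, σ_eS _ hσ, eS_comm' _ (show Commute σ y from (mem_cent1.1 hyσ).symm), σ_eS _ hσ])
    (sub_ne_zero.2 h1)
  have h3 : zpowers y ≤ Nrm (P ⊓ Cent1 σ) :=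
    nrm_inf le_normalizer_of_normal (nrm_cent1 (zpowers_le.2 hyσ))
  have h4 : ⁅c⁻¹, y⁻¹⁆ ∈ ⁅P ⊓ Cent1 σ, zpowers y⁆ :=
    commutator_mem_commutator (inv_mem hc) (inv_mem (mem_zpowers y))
  have h5 := commutator_le_left' h3
  refine ⟨_, h5 h4, fun e => h2 ⟨hc.1, sub_eq_zero.2 ((comm_mem_kerF ⟨c, hc.1⟩).1
    (eS_dual r f (h5 h4) e))⟩, le_nresI_succ (X := zpowers y) (h5.trans (inf_le_inf_right _ hPG))
      (zpowers_le.2 (nresI_mono s (inf_le_inf_right _ hN) hy)) (coprime_commGid h3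
        ((isPi_zpowers.2 hyw).coprime' hP.inf_left) (Or.inl (sol_zpowers y))).ge h4⟩

variable {k M : Type*} [Field k] [IsAlgClosed k] [AddCommGroup M] [Module k M]
  [FiniteDimensional k M] {ρ : Representation k Γ M} {μ : M}

theorem top_case [G.Normal] [P.Normal] (hr : r.Prime) (hσ : σ ^ r = 1) (hrG : ¬ r ∣ Nat.card G)
    (hrk : (r : k) ≠ 0) (hsup : G ⊔ zpowers σ = ⊤) (hρ : Function.Injective ρ)
    (hirr : ∀ W : Submodule k M, (∀ g, ∀ v ∈ W, ρ g v ∈ W) → W ≠ ⊥ → W = ⊤) (hμ : μ ≠ 0)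
    {p : ℕ} (hp : p.Prime) (hP : IsPGroup p P) (hP0 : P ≠ ⊥) {Q : Subgroup Γ}
    (hQs : Q ≤ nres^[s] G) (hσQ : σ ∈ Nrm Q) (hQp : IsPi {p}ᶜ Q) (hPQ : ⁅P, Q⁆ = P)
    (hPP : ⁅P, P⁆ ≤ Cent P) (hU : ∀ U < P, U.Normal → U ≤ ⁅P, P⁆)
    (hQZ : ¬ P ≤ Cent P → Q ≤ Cent (Zc P)) (hG : P ⊔ G ⊓ Cent1 σ = G) : GA ρ G σ r (s + 1) μ := by
  have := Fact.mk hp
  have := nontrivial_of_ne μ 0 hμ
  have hPp := isPi_of_isPGroup hp hP
  have hpk := irr_char hρ hirr inferInstance hP0 hp hP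
  have hPw : IsPi (wp k) P := hPp.mono (singleton_subset_wp hpk)
  have h0 := irr_h0 hρ hirr
  have hPG : P ≤ G := le_sup_left.trans hG.le
  have hQG := hQs.trans (nresI_le_self s G)
  have hrP : ¬ r ∣ Nat.card P := fun h => hrG (h.trans (card_dvd_of_le hPG))
  have hrQ : ¬ r ∣ Nat.card Q := fun h => hrG (h.trans (card_dvd_of_le hQG))
  have hQσ : Q ≤ Cent1 σ := fun y hy => by
    obtain ⟨x, hx, c, hc, rfl⟩ := mem_sup_of_normal_left.1 (hG.ge (hQG hy))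
    have h1 : x * c * (σ * (x * c)⁻¹ * σ⁻¹) ∈ P ⊓ Q := by
      refine ⟨?_, Q.mul_mem hy (conj_mem_of_mem_nrm hσQ (Q.inv_mem hy))⟩
      have h2 : x * c * (σ * (x * c)⁻¹ * σ⁻¹) = x * (σ * x⁻¹ * σ⁻¹) := by
        rw [mul_assoc x c, ← mul_assoc c, ← mul_assoc c, mem_cent1.1 hc.2]; group
      exact h2 ▸ P.mul_mem hx (‹P.Normal›.conj_mem _ (P.inv_mem hx) σ)
    rw [hPp.inf_eq_bot hQp, mem_bot] at h1
    rw [mem_cent1, ← mul_inv_eq_one, ← h1]; group
  have hQC : Q ≤ nres^[s] (G ⊓ Cent1 σ) := hall_desc hPp s (le_inf hQG hQσ) hQp (by rwa [hG])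
  have hΓ : P ⊔ Cent1 σ = ⊤ := by
    rw [eq_top_iff, ← hsup, ← hG]
    exact sup_le (sup_le_sup_left inf_le_right _)
      (le_sup_of_le_right (zpowers_le.2 (mem_cent1.2 rfl)))
  by_cases hPσ : ⁅P, zpowers σ⁆ = P
  swap
  · have h1 := coprime_cent_Phi le_normalizer_of_normal (coprime_zpowers_prime hr hσ hrP)
      ((hU _ (lt_of_le_of_ne (commutator_le_left _ _) hPσ) (normal_of_nrm (hΓ.ge.trans (sup_le
        (nrm_commutator_left _ _) (nrm_commutator le_normalizer_of_normal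
          (cent1_le_nrm_zpowers σ)))))).trans (der_le_frattiniOf_of_nil hPp.nil))
    obtain ⟨y, hy, hy1⟩ := exists_ne_one_of_ne_bot hP0
    exact Or.inr ⟨y, le_nresI_succ (le_inf hPG (le_cent1_iff.2 (h1 (mem_zpowers σ)))) hQC hPQ.ge hy,
      hPw.elt hy, fun h => hy1 (hρ (h.trans (map_one ρ).symm))⟩
  obtain ⟨v, hv, h1⟩ : ∃ v, ρ σ v = v ∧ v ∉ V0 ρ (G ⊓ Cent1 σ) s := by
    by_contra h1
    push Not at h1
    refine top_a hρ h0 hPP hP hpk hr hσ hrP hPσ hP0 hΓ hQσ (hQp.coprime' hPp) hrQ hPQ hQZ ?_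
    rcases s with _ | s
    · exact Or.inl h1
    have h2 : Cent1 σ ≤ Nrm (nres^[s] (G ⊓ Cent1 σ)) :=
      (nrm_inf le_normalizer_of_normal le_nrm_self).trans (nrm_le_nrm_nresI _ _)
    exact Or.inr ⟨nres^[s] (G ⊓ Cent1 σ), (nresI_le_self _ _).trans inf_le_right, h2,
      fun h => hrG (h.trans (card_dvd_of_le ((nresI_le_self _ _).trans inf_le_left))),
      by rwa [Function.iterate_succ_apply'] at hQC,
      fun y hy v hv => nres_fix (fun z hz h => h1 v hv z ⟨hz, h⟩) hy,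
      fun h y hy v hv => h1 v hv y ⟨commutator_le_right' (h.trans h2) hy,
        hPw.elt (commutator_le_left (Zc P) _ hy).1⟩⟩
  obtain ⟨g, hg, h2⟩ : ∃ g ∈ G, eS ρ σ r (ρ g μ) ∉ V0 ρ (G ⊓ Cent1 σ) s := by
    by_contra h2
    push Not at h2
    have h3 := irr_ind hirr hsup hμ ((V0 ρ (G ⊓ Cent1 σ) s).comap (eS ρ σ r)) h2
      (fun v hv => by rwa [Submodule.mem_comap, eS_σ ρ hσ]) v
    rw [Submodule.mem_comap, eS_fix ρ hv, Submodule.smul_mem_iff _ hrk] at h3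
    exact h1 h3
  by_cases h3 : ρ σ (ρ g μ) = ρ g μ
  swap
  · exact GA.good hg h3 h2
  rw [eS_fix ρ h3, Submodule.smul_mem_iff _ hrk] at h2
  obtain ⟨x, hx, h4, h5⟩ := nf2 ρ hr hσ hrk hPp.nil hrP (le_normalizer_of_normal (mem_top σ)) hPσ hQσ
    le_normalizer_of_normal hrQ hPQ h3
    (fun h => h2 (by rw [h0 P inferInstance hP0 _ h]; exact zero_mem _)) _ (fun y hy v hv => by
      rcases s with _ | s
      · rw [(Submodule.mem_bot k).1 hv, map_zero]
      · rw [Function.iterate_succ_apply'] at hQC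
        exact nres_fix (fun z hz h => hv z ⟨hz, h⟩) (hQC hy)) h2
  exact GA.good (mul_mem (hPG hx) hg) (by simpa using h4) (by simpa using h5)

theorem Psi.core {n : ℕ} (hr : r.Prime) (ih : Psi.{u} r n) : Core.{u} r n := by
  intro Γ _ _ G _ σ k _ _ M _ _ _ ρ s μ hn hG hσ hrG hrk hsup hρ hirr hμ hs
  have := nontrivial_of_ne μ 0 hμ
  obtain ⟨t, hst, h1, h2⟩ : ∃ t, s ≤ t ∧ nres^[t] G ≠ ⊥ ∧ nres^[t + 1] G = ⊥ := by
    classical
    have hex := exists_nresI_eq_bot hG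
    have h3 : s < Nat.find hex := by_contra fun h =>
      hs (eq_bot_of_le (nresI_anti G (not_lt.1 h)) (Nat.find_spec hex))
    exact ⟨Nat.find hex - 1, by omega, Nat.find_min hex (by omega),
      by rw [Nat.sub_add_cancel (by omega)]; exact Nat.find_spec hex⟩
  refine GA.mono le_rfl (one_mem _) hst ?_
  rw [map_one, Module.End.one_apply]
  have hL : (nres^[t] G).Normal :=
    normal_of_nrm (le_trans le_normalizer_of_normal (nrm_le_nrm_nresI t G))
  have hLw : IsPi (wp k) (nres^[t] G) :=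
    irr_wp hρ hirr (nres_eq_bot_iff.1 (by rw [← h2, Function.iterate_succ_apply']))
  by_contra hGA
  rcases t with _ | t
  · obtain ⟨y, hy, hy1⟩ := exists_ne_one_of_ne_bot h1
    have h3 : σ = 1 := hρ (LinearMap.ext fun v => by
      simpa using irr_ind hirr hsup hμ (fixSp ρ {σ}) (fun g hg _ e => e ▸ by_contra fun h =>
        hGA (Or.inl ⟨g, hg, h, fun t ht => absurd ht (Nat.not_lt_zero t)⟩))
        (fun v hv _ e => e ▸ congrArg (ρ σ) (hv σ rfl)) v σ rfl)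
    exact hGA (Or.inr ⟨y, ⟨hy, mem_cent1.2 (by simp [h3])⟩, hLw.elt hy,
      fun h => hy1 (hρ (h.trans (map_one ρ).symm))⟩)
  have hmin : ∀ H < G, σ ∈ Nrm H → nres^[t + 1] H = ⊥ := by
    intro H hH hσH
    by_contra h3
    obtain ⟨g, hg, h4⟩ : ∃ g ∈ G, ¬ nres^[t + 1] H ≤ stab ρ (ρ g μ) := by
      by_contra h4
      push Not at h4
      refine h3 (eq_bot_iff.2 fun x hx => hρ (LinearMap.ext fun v => ?_))
      simpa using irr_ind hirr hsup hμ (fixSp ρ (nres^[t + 1] H : Set Γ)) (fun g hg => h4 g hg)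
        (fun v hv => fixSp_inv (nrm_le_nrm_nresI _ _ hσH) hv) v x hx
    exact hGA (GA.mono hH.le hg le_rfl (ih _ H σ k M ρ (t + 1) _ _ ((card_lt_of_lt hH).trans_le hn)
      (sol_of_le hG hH.le) hσH hσ (fun h => hrG (h.trans (card_dvd_of_le hH.le))) hrk le_rfl
      (nresI_normalIn _ _).2 (nrm_le_nrm_nresI _ _ hσH) (hLw.of_le (nresI_mono _ hH.le)) h4))
  obtain ⟨p, P, Q, N, hp, hPn, hP, hP0, hNG, hσN, hQs, hNQ, hσQ, hQp, hPN, hPQ, hPP, hU⟩ :=
    tu_structure hG hr hσ hrG hsup h1 h2 hmin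
  have := Fact.mk hp
  have := Fintype.ofFinite (Zc P)
  have hPp := isPi_of_isPGroup hp hP
  have hpk := irr_char hρ hirr hPn hP0 hp hP
  have hPG : P ≤ G := le_sup_left.trans hPN.le
  have hrP : ¬ r ∣ Nat.card P := fun h => hrG (h.trans (card_dvd_of_le hPG))
  have hrN : ¬ r ∣ Nat.card N := fun h => hrG (h.trans (card_dvd_of_le hNG.le))
  have hQZ : ¬ P ≤ Cent P → Q ≤ Cent (Zc P) := fun h =>
    (hU _ (lt_of_le_of_ne inf_le_left fun e => h (e.ge.trans inf_le_right)) inferInstance).2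
  obtain ⟨χ, hχ⟩ := supp_nonempty ρ (comm_zc P).is_comm.comm
    (natCast_card_pgroup (k := k) (hP.to_le (inf_le_left : Zc P ≤ P)) hpk) hμ
  obtain ⟨f, hf0, hf⟩ := exists_dual (K := AlgebraicClosure (ZMod p)) (p := p) hPP
    (fun x hx => (hU _ (frattiniOf_lt hP0) (normal_of_nrm (nrm_frattiniOf le_normalizer_of_normal))).1
      (pow_mem_frattiniOf hp hP hx)) χ (by
        by_contra h
        push Not at h
        by_cases hab : P ≤ Cent P
        · exact hχ (irr_h0 hρ hirr P hPn hP0 _ fun x hx => by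
            simpa [h _ (Or.inl hab)] using isW_pr (ρ := ρ) χ μ ⟨x, hx, hab hx⟩)
        · exact hχ (irr_h0 hρ hirr ⁅P, P⁆ inferInstance (mt H46.commutator_eq_bot_iff.1 hab) _
            fun x hx => by
              simpa [h ⟨x, der_le P hx, hPP hx⟩ (Or.inr hx)] using
                isW_pr (ρ := ρ) χ μ ⟨x, der_le P hx, hPP hx⟩))
  have hch : ringChar (AlgebraicClosure (ZMod p)) = p := ringChar.eq _ p
  have hc := coprime_zpowers_prime hr hσ hrP
  rcases ih _ N σ (AlgebraicClosure (ZMod p)) (addF P _) (dualRep P _) t Q f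
    ((card_lt_of_lt hNG).trans_le hn) (sol_of_le hG hNG.le) hσN hσ hrN
    (fun h => hrP ((Nat.prime_dvd_prime_iff_eq hp hr).1 ((CharP.cast_eq_zero_iff _ p r).1 h) ▸
      hP.card_eq_or_dvd.resolve_left fun e => hP0 (card_eq_one.1 e)))
    hQs hNQ hσQ (by rwa [wp, hch])
    (fun h => hf0 (eq_zero_of_le_kerF (hPQ.ge.trans (comm_le_kerF.2 h)))) with
    ⟨g, hg, h3, h4⟩ | ⟨y, hy, h3, h4⟩
  · have h5 : ∀ x ∈ P, x ∉ kerF (dualRep P _ g f) → NRad P (g • χ) x := fun x hx h =>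
      NRad.conj (hf _ (hPn.conj_mem' x hx g) fun e =>
        h ⟨hx, (dualRep_apply g f _).trans ((mem_kerF _).1 (by simpa using e))⟩)
    obtain ⟨x₁, hx₁, h6⟩ := SetLike.not_le_iff_exists.1
      fun h => h3 (comm_le_kerF.1 h (mem_zpowers σ))
    have h7 : pr ρ (g • χ) (ρ g μ) ≠ 0 := fun h => hχ (by
      rw [← pr_conj] at h
      rw [← ρ.inv_self_apply g (pr ρ χ μ), h, map_zero])
    have h8 := fun d hd ε hε => nontop (d := d) hPP hP hpk hr hσ hrk hrP hσQ (hQp.coprime' hPp)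
      (fun h => hrN (h.trans (card_dvd_of_le (hQs.trans (nresI_le_self _ _))))) hPQ hQZ h7 hx₁
      (h5 _ (commutator_le_left _ _ hx₁) h6) hd ε hε
    rcases t with _ | t
    · obtain ⟨x, hx, h9, h10⟩ := h8 1 (one_mem _) 0 (Or.inl rfl)
      exact hGA (GA.good (mul_mem (hPG hx) (hNG.le hg)) (by simpa using h9)
        fun h => h10 (by simpa using (Submodule.mem_bot k).1 h))
    obtain ⟨d, hd, h9, h10⟩ := exists_d hNG.le hPG (by rwa [hch]) hσ hc (h4 t (Nat.lt_succ_self t))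
    obtain ⟨x, hx, h11, h12⟩ := h8 d hd 1 (Or.inr ⟨rfl, h5 d hd.1 h9⟩)
    refine hGA (GA.good (mul_mem (hPG hx) (hNG.le hg)) (by simpa using h11) fun h => h12 ?_)
    simpa [sub_eq_zero] using
      (h d ⟨h10, (hPp.mono (singleton_subset_wp hpk)).elt hd.1⟩).symm
  refine hGA (top_case hr hσ hrG hrk hsup hρ hirr hμ hp hP hP0 (hQs.trans (nresI_mono _ hNG.le)) hσQ
    hQp hPQ hPP (fun U h hU' => (hU U h hU').1) hQZ (le_antisymm (sup_le hPG inf_le_left)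
      (le_trans (Eq.ge ?_) (sup_le_sup_left (inf_le_inf_right (Cent1 σ) hNG.le) P))))
  by_contra h5
  have h6 := hmin _ (lt_of_le_of_ne (sup_le hPG (inf_le_left.trans hNG.le)) h5)
    (nrm_sup le_normalizer_of_normal (nrm_inf (zpowers_le.2 hσN)
      (nrm_cent1 (zpowers_le.2 (mem_cent1.2 rfl)))) (mem_zpowers σ))
  rw [wp, hch] at h3
  have h7 := eq_bot_of_le (le_nresI_succ (X := zpowers y) (D := ⁅P, zpowers y⁆)
    ((commutator_le_left _ _).trans le_sup_left) (zpowers_le.2 (nresI_mono t le_sup_right hy))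
    (coprime_commGid le_normalizer_of_normal ((isPi_zpowers.2 h3).coprime' hPp)
      (Or.inl (sol_zpowers y))).ge) h6
  exact h4 (LinearMap.ext fun f => comm_le_kerF.1 (h7.le.trans bot_le) (mem_zpowers y))

theorem psi_all (hr : r.Prime) : ∀ n, Psi.{u} r n
  | 0 => fun _ _ _ _ _ _ _ _ _ _ _ _ _ _ _ _ h => absurd h (Nat.not_lt_zero _)
  | n + 1 => ((psi_all hr n).core hr).psi hr

theorem turull_sub (hG : Group.IsSolvable G) (hσG : σ ∈ Nrm G) (hr : r.Prime) (hσ : σ ^ r = 1)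
    (hrG : ¬ r ∣ Nat.card G) {n : ℕ} (h : nres^[n] (G ⊓ Cent1 σ) = ⊥) : nres^[n + 2] G = ⊥ := by
  by_contra h1
  obtain ⟨x, hx, hx1⟩ := exists_ne_one_of_ne_bot h1
  rcases psi_all hr _ Γ G σ ℂ (MonoidAlgebra ℂ Γ) (Representation.leftRegular ℂ Γ) (n + 2) _
    (MonoidAlgebra.single 1 1) (Nat.lt_succ_self _) hG hσG hσ hrG (Nat.cast_ne_zero.2 hr.ne_zero)
    le_rfl (nresI_normalIn _ _).2 (nrm_le_nrm_nresI _ _ hσG)
    (fun q hq _ e => hq.ne_zero (Eq.trans e ringChar.eq_zero)) (fun h => hx1 (by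
      have h2 := h hx
      rw [mem_stab, Representation.ofMulAction_single] at h2
      simpa using MonoidAlgebra.single_left_injective one_ne_zero h2)) with
    ⟨g, -, -, h2⟩ | ⟨y, hy, -, h2⟩
  · refine h2 (n + 1) (by omega) fun y hy => ?_
    rw [mem_bot.1 (h.le hy.1)]; simp
  · rw [mem_bot.1 (h.le (nresI_anti _ (Nat.le_add_right n 2) hy))] at h2
    exact h2 (map_one _)

theorem turull {G : Type u} [Group G] [Finite G] (hG : Group.IsSolvable G) (σ : MulAut G)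
    (hr : r.Prime) (hσ : σ ^ r = 1) (hrG : ¬ r ∣ Nat.card G) (C : Subgroup G)
    (hC : ∀ g : G, g ∈ C ↔ σ g = g) {n : ℕ} (h : FH n C) : FH (n + 2) G := by
  obtain ⟨Γ, _, _, i, j, hi, hj, hn, hij, hsup⟩ := exists_ambient (zpowers σ).subtype
  let s : zpowers σ := ⟨σ, mem_zpowers σ⟩
  let e : G ≃* i.range := MonoidHom.ofInjective hi
  rw [fh_subgroup_iff] at h
  rw [fh_iff, ← map_eq_bot_iff_of_injective _ hi, map_nresI, ← MonoidHom.range_eq_map]
  refine turull_sub (σ := j s) (H2.isSolvable_of_mulEquiv e) (le_normalizer_of_normal (mem_top _)) hr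
    (by rw [← map_pow, show s ^ r = 1 from Subtype.ext hσ, map_one])
    (by rwa [← Nat.card_congr e.toEquiv]) (eq_bot_of_le (nresI_mono n ?_)
      ((map_nresI i n C).symm.trans (by rw [h, Subgroup.map_bot])))
  rintro _ ⟨⟨g, rfl⟩, hg⟩
  have h1 := hij s g
  rw [← mem_cent1.1 hg, mul_inv_cancel_right] at h1
  exact ⟨g, (hC g).2 (hi h1), rfl⟩

end H76
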