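import Cfsg.Agent.H78.YUDef
import Cfsg.Agent.H55.Basic

/-! STD-SP endgame, slot NU: a large unitary group in characteristic `2` is not alternating. -/

set_option autoImplicit false

namespace H76.YUNU

open H67 H67.UA H64.YE H78.YU Subgroup

theorem jobNU : JobNU := by
  intro na m K _ _ _ _ p
  have five := p.five
  obtain ⟨e⟩ := (base m K).toFX.iso
  have hU : IsPGroup 2 (U0 m K) := (GA.FB.syl (X := XU m K)).2.1
  refine na _ ((U0 m K).map (QuotientGroup.mk' _)) ?_ (hU.map _) ?_
  · have := Fintype.ofFinite K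
    refine Or.inr (Or.inr (Or.inl ⟨K, inferInstance, this, inferInstance, m + 1, qK K, ?_, by omega,
      by omega, ⟨H55.quotCenterCongr e⟩⟩))
    rw [← Nat.card_eq_fintype_card]; exact (jobFQ m K).1
  · have hi : Function.Injective ((QuotientGroup.mk' (center (XU m K))).comp (U0 m K).subtype) := by
      rw [injective_iff_map_eq_one]
      intro u hu
      have h1 : (u : XU m K) ∈ GA.PP (XU m K) ⊓ center (XU m K) :=
        ⟨GA.FB.UP u.2, (QuotientGroup.eq_one_iff _).1 hu⟩
      rw [GA.FB.Pc] at h1
      exact Subtype.ext h1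
    have hc : Nat.card ((U0 m K).map (QuotientGroup.mk' (center (XU m K)))) = Nat.card (U0 m K) := by
      rw [← range_subtype (U0 m K), ← MonoidHom.range_comp, range_subtype]
      exact (Nat.card_congr (MonoidHom.ofInjective hi).toEquiv).symm
    rw [hc, GA.FB.cardU, qq_eq, NN_eq, SA.NN]
    have q2 : 2 ≤ qK K := GA.FB.q2 (X := XU m K)
    rcases five.eq_or_lt with h | h
    · have h4 := p.four h.symm
      subst h
      calc 2 ^ 20 ≤ 4 ^ ((5 + 1) * 5 / 2) := by norm_num
        _ ≤ _ := Nat.pow_le_pow_left h4 _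
    · have : 20 ≤ (m + 1) * m / 2 := by
        rw [Nat.le_div_iff_mul_le two_pos]; nlinarith
      exact (Nat.pow_le_pow_right two_pos this).trans (Nat.pow_le_pow_left q2 _)

end H76.YUNU
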