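import Cfsg.Agent.Base
import Cfsg.Agent.S0731
import Cfsg.Agent.H51.TW3

set_option autoImplicit false

namespace H76.ZasEq

open MulAction

variable {G Ω : Type*} [Group G] [MulAction G Ω]

/-- data of the problem -/
structure D (a : Ω) (U : Subgroup G) : Prop where
  h3 : ∀ g : G, ∀ a b c : Ω, a ≠ b → b ≠ c → a ≠ c → g • a = a → g • b = b → g • c = c → g = 1
  le : U ≤ stabilizer G a
  nm : ∀ h ∈ stabilizer G a, ∀ u ∈ U, h * u * h⁻¹ ∈ U
  reg : ∀ c d : Ω, c ≠ a → d ≠ a → ∃! u : U, (u : G) • c = d
  ab : ∀ u ∈ U, ∀ u' ∈ U, u * u' = u' * u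

variable {a : Ω} {U : Subgroup G}

theorem D.eq_of (h : D a U) {u u' : G} (hu : u ∈ U) (hu' : u' ∈ U) {c : Ω} (hc : c ≠ a)
    (e : u • c = u' • c) : u = u' := by
  have hd : u • c ≠ a := fun h' => hc (by
    have := h.le (U.inv_mem hu)
    rw [mem_stabilizer_iff] at this
    rw [← this, ← h', inv_smul_smul])
  obtain ⟨w, -, hw⟩ := h.reg c (u • c) hc hd
  have h1 := hw ⟨u, hu⟩ rfl
  have h2 := hw ⟨u', hu'⟩ e.symm
  exact congrArg Subtype.val (h1.trans h2.symm)

theorem D.smul_ne (h : D a U) {u : G} (hu : u ∈ U) {c : Ω} (hc : c ≠ a) : u • c ≠ a :=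
  fun h' => hc (by
    have := h.le (U.inv_mem hu)
    rw [mem_stabilizer_iff] at this
    rw [← this, ← h', inv_smul_smul])

theorem D.fix (h : D a U) {u : G} (hu : u ∈ U) {c : Ω} (hc : c ≠ a) (e : u • c = c) : u = 1 :=
  h.eq_of hu U.one_mem hc (by rw [e, one_smul])

theorem D.comm (h : D a U) {k u : G} {b : Ω} (hb : b ≠ a) (ka : k • a = a) (kb : k • b = b)
    (hu : u ∈ U) (hu1 : u ≠ 1) (e : k * u = u * k) : k = 1 := by
  refine h.h3 k a b (u • b) hb.symm (fun h' => hu1 (h.fix hu hb h'.symm)) (h.smul_ne hu hb).symm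
    ka kb ?_
  rw [← mul_smul, e, mul_smul, kb]

/-- an involution fixing `a` lies in `U` -/
theorem D.inv_mem (h : D a U) (hel : ∀ u ∈ U, u * u = 1) {z : G} (hz : z ∈ U) (hz1 : z ≠ 1)
    {b : Ω} (hb : b ≠ a) {t : G} (ta : t • a = a) (tt : t * t = 1) : t ∈ U := by
  have htb : t • b ≠ a := fun h' => hb (by
    have : t • t • b = t • a := by rw [h']
    rw [← mul_smul, tt, one_smul, ta] at this
    exact this)
  obtain ⟨⟨u, hu⟩, hub, -⟩ := h.reg b (t • b) hb htb
  simp only at hub
  have ua : u • a = a := h.le hu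
  set k := u * t with hk
  have ka : k • a = a := by rw [hk, mul_smul, ta, ua]
  have kb : k • b = b := by rw [hk, mul_smul, ← hub, ← mul_smul, hel u hu, one_smul]
  have hti : t⁻¹ = t := inv_eq_of_mul_eq_one_right tt
  have kk : k * k = 1 := by
    have hm : k * k ∈ U := by
      have := h.nm t ta u hu
      rw [hti] at this
      have e : k * k = u * (t * u * t) := by rw [hk]; group
      rw [e]; exact U.mul_mem hu this
    exact h.fix hm hb (by rw [mul_smul, kb, kb])
  have hki : k⁻¹ = k := inv_eq_of_mul_eq_one_right kk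
  have k1 : k = 1 := by
    have hz' : k * z * k ∈ U := by
      have := h.nm k ka z hz
      rwa [hki] at this
    by_cases hy : z * (k * z * k) = 1
    · refine h.comm hb ka kb hz hz1 ?_
      have e1 : k * z * k = z := by
        have := hel z hz
        calc k * z * k = (z * z) * (k * z * k) := by rw [this, one_mul]
          _ = z * (z * (k * z * k)) := by group
          _ = z := by rw [hy, mul_one]
      calc k * z = (k * z * k) * k := by rw [mul_assoc (k * z), kk, mul_one]
        _ = z * k := by rw [e1]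
    · refine h.comm hb ka kb (U.mul_mem hz hz') hy ?_
      have c := h.ab z hz _ hz'
      calc k * (z * (k * z * k)) = (k * z * k) * z * k := by group
        _ = z * (k * z * k) * k := by rw [c]
  have : t = u⁻¹ := by
    rw [hk] at k1
    exact (eq_inv_of_mul_eq_one_right k1)
  rw [this]; exact U.inv_mem hu

theorem D.main (h : D a U) (hel : ∀ u ∈ U, u * u = 1) {z : G} (hz : z ∈ U) (hz1 : z ≠ 1)
    {v : G} (hv2 : v * v = 1) (hva : v • a ≠ a) {c : Ω} (hc : v • c = c) :
    ∃! u₀ : G, u₀ ∈ U ∧ u₀ ≠ 1 ∧ v * u₀ * v = u₀ * v * u₀ := by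
  set b := v • a with hb
  have vb : v • b = a := by rw [hb, ← mul_smul, hv2, one_smul]
  have ca : c ≠ a := fun e => hva (by rw [hb, ← e, hc])
  have cb : c ≠ b := fun e => hva (by rw [← e, ← vb, ← e, hc])
  obtain ⟨⟨u, hu⟩, huc, -⟩ := h.reg c b ca hva
  simp only at huc
  have ua : u • a = a := h.le hu
  have ub : u • b = c := by rw [← huc, ← mul_smul, hel u hu, one_smul]
  refine ⟨u, ⟨hu, fun e => cb (by rw [← huc, e, one_smul]), ?_⟩, ?_⟩
  · set t := v * (u * v * u) * v with ht
    have ta : t • a = a := by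
      simp only [ht, mul_smul]
      rw [← hb, ub, hc, huc, vb]
    have tt : t * t = 1 := by
      calc t * t = v * (u * v * u) * (v * v) * (u * v * u) * v := by rw [ht]; group
        _ = v * (u * v * (u * u) * v * u) * v := by rw [hv2]; group
        _ = v * (u * (v * v) * u) * v := by rw [hel u hu]; group
        _ = 1 := by rw [hv2, mul_one u, hel u hu, mul_one, hv2]
    have tU := h.inv_mem hel hz hz1 hva ta tt
    have e : t = u := h.eq_of tU hu hva (by
      simp only [ht, mul_smul]
      rw [vb, ua, ← hb, ub, hc])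
    calc v * u * v = v * t * v := by rw [e]
      _ = (v * v) * (u * v * u) * (v * v) := by rw [ht]; group
      _ = u * v * u := by rw [hv2]; group
  · rintro y ⟨hy, hy1, e⟩
    refine h.eq_of hy hu ca ?_
    rw [huc]
    have e1 : (v * y * v) • (y • c) = y • c := by
      rw [e]; simp only [mul_smul]
      rw [← mul_smul y y, hel y hy, one_smul, hc]
    have e2 : y • (v • y • c) = v • y • c := by
      have := congrArg (v • ·) e1
      simp only [mul_smul] at this
      rwa [← mul_smul v v, hv2, one_smul] at this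
    have e3 : v • y • c = a := by
      by_contra hne
      exact hy1 (h.fix hy hne e2)
    rw [hb, ← e3, ← mul_smul v v, hv2, one_smul]

theorem D.card [Finite Ω] (h : D a U) {b : Ω} (hb : b ≠ a) : Nat.card Ω = Nat.card U + 1 := by
  classical
  have e : U ≃ {d : Ω // d ≠ a} := Equiv.ofBijective
    (fun u : U => (⟨(u : G) • b, h.smul_ne u.2 hb⟩ : {d : Ω // d ≠ a}))
    ⟨fun u u' e => Subtype.ext (h.eq_of u.2 u'.2 hb (congrArg Subtype.val e)), fun d => by
      obtain ⟨u, hu, -⟩ := h.reg b d.1 hb d.2
      exact ⟨u, Subtype.ext hu⟩⟩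
  rw [Nat.card_congr e, Nat.card_congr (Equiv.optionSubtypeNe a).symm, Finite.card_option]

theorem result [Finite G] [Finite Ω]
    (hZ : Cfsg.IsZassenhausGroup G Ω) (U : Subgroup G) (hUle : U ≤ stabilizer G a)
    (hUn : ∀ h ∈ stabilizer G a, ∀ u ∈ U, h * u * h⁻¹ ∈ U)
    (hreg : ∀ c d : Ω, c ≠ a → d ≠ a → ∃! u : U, (u : G) • c = d)
    (hU2 : IsPGroup 2 U) (hUab : ∀ u ∈ U, ∀ u' ∈ U, u * u' = u' * u)
    (v : G) (hv2 : v * v = 1) (hva : v • a ≠ a) :
    ∃! u₀ : G, u₀ ∈ U ∧ u₀ ≠ 1 ∧ v * u₀ * v = u₀ * v * u₀ := by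
  classical
  have h : D a U := ⟨hZ.2.2.1, hUle, hUn, hreg, hUab⟩
  have hF := hZ.1
  have h2 := hZ.2.1
  -- a non-trivial element fixing `a` and another point
  obtain ⟨k, b, k1, hb, ka, kb⟩ : ∃ (k : G) (b : Ω), k ≠ 1 ∧ b ≠ a ∧ k • a = a ∧ k • b = b := by
    obtain ⟨g, g1, a', b', hab, ga, gb⟩ := hZ.2.2.2.1
    have hpt : IsPretransitive G Ω := isPretransitive_of_is_two_pretransitive
    obtain ⟨x, hx⟩ := hpt.exists_smul_eq a' a
    refine ⟨x * g * x⁻¹, x • b', fun e => g1 ?_, fun e => hab ?_, ?_, ?_⟩
    · have : g = x⁻¹ * (x * g * x⁻¹) * x := by group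
      rw [this, e]; group
    · rw [← hx] at e; exact (smul_left_cancel x e).symm
    · rw [← hx]; simp only [mul_smul, inv_smul_smul, ga]
    · simp only [mul_smul, inv_smul_smul, gb]
  -- `U` is non-trivial
  have hU1 : ∃ y ∈ U, y ≠ 1 := by
    by_contra hne
    push Not at hne
    refine k1 (hF.eq_of_smul_eq_smul fun d => ?_)
    rw [one_smul]
    by_cases hd : d = a
    · rw [hd, ka]
    · obtain ⟨u, hu, -⟩ := hreg b d hb hd
      rw [hne u u.2, one_smul] at hu
      rw [← hu, kb]
  obtain ⟨z, hz, hz1, zz⟩ : ∃ z ∈ U, z ≠ 1 ∧ z * z = 1 := by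
    obtain ⟨y, hy, hy1⟩ := hU1
    have hd : 2 ∣ Nat.card U := by
      rcases hU2.card_eq_or_dvd with h1 | h1
      · exfalso
        have := Nat.card_eq_one_iff_unique.mp h1
        have := this.1
        exact hy1 (congrArg Subtype.val (Subsingleton.elim (⟨y, hy⟩ : U) 1))
      · exact h1
    have : Fact (Nat.Prime 2) := ⟨Nat.prime_two⟩
    obtain ⟨w, hw⟩ := exists_prime_orderOf_dvd_card' 2 hd
    refine ⟨w, w.2, fun e => ?_, ?_⟩
    · have : w = 1 := Subtype.ext e
      rw [this, orderOf_one] at hw; omega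
    · have := pow_orderOf_eq_one w
      rw [hw, pow_two] at this
      exact congrArg Subtype.val this
  have hel : ∀ u ∈ U, u * u = 1 := by
    have hN : (U.subgroupOf (stabilizer G a)).Normal := ⟨fun n hn g => by
      rw [Subgroup.mem_subgroupOf] at hn ⊢
      exact hUn g g.2 n hn⟩
    have hC : IsMulCommutative U := ⟨⟨fun x y => Subtype.ext (hUab x x.2 y y.2)⟩⟩
    rcases Cfsg.Agent.S0731.result hZ a U hUle hN hC hreg with ⟨h3, -⟩ | ⟨K, _, _, hK, ⟨e⟩⟩
    · intro u hu
      by_cases hu1 : u = 1
      · rw [hu1, one_mul]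
      have inj : ∀ {y : G}, y ∈ U → y ≠ 1 → Function.Injective ![a, b, y • b] := by
        intro y hy hy1
        have n1 := h.smul_ne hy hb
        have n2 : y • b ≠ b := fun h' => hy1 (h.fix hy hb h')
        have n3 := n1.symm
        have n4 := n2.symm
        have n5 := hb.symm
        intro i j hij
        fin_cases i <;> fin_cases j <;> first | rfl | exact absurd hij (by assumption)
      obtain ⟨g, hg⟩ := h3.exists_smul_eq (⟨_, inj hz hz1⟩ : Fin 3 ↪ Ω) ⟨_, inj hu hu1⟩
      have g0 : g • a = a := by simpa using congrArg (fun f : Fin 3 ↪ Ω => f 0) hg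
      have g1 : g • b = b := by simpa using congrArg (fun f : Fin 3 ↪ Ω => f 1) hg
      have g2 : g • z • b = u • b := by simpa using congrArg (fun f : Fin 3 ↪ Ω => f 2) hg
      have e : g * z * g⁻¹ = u := h.eq_of (hUn g g0 z hz) hu hb (by
        have : g⁻¹ • b = b := by rw [inv_smul_eq_iff, g1]
        simp only [mul_smul]
        rw [this, g2])
      rw [← e]
      calc g * z * g⁻¹ * (g * z * g⁻¹) = g * (z * z) * g⁻¹ := by group
        _ = 1 := by rw [zz]; group
    · obtain ⟨r, hr, hX⟩ := (H51.TW.psl_facts hK e).1 U hU2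
      by_cases hc : ∀ x ∈ U, x ∈ Subgroup.zpowers r
      · exfalso
        have hz' := hUn k ka z hz
        have z'z : k * z * k⁻¹ * (k * z * k⁻¹) = 1 := by
          calc k * z * k⁻¹ * (k * z * k⁻¹) = k * (z * z) * k⁻¹ := by group
            _ = 1 := by rw [zz]; group
        have z'1 : k * z * k⁻¹ ≠ 1 := fun e => hz1 (by
          have : z = k⁻¹ * (k * z * k⁻¹) * k := by group
          rw [this, e]; group)
        have heq : k * z * k⁻¹ = z := by
          by_contra hne
          have : Fintype (Subgroup.zpowers r) := Fintype.ofFinite _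
          have hle := IsCyclic.card_pow_eq_one_le (α := Subgroup.zpowers r) (n := 2) (by norm_num)
          have hsub : ({1, ⟨z, hc z hz⟩, ⟨_, hc _ hz'⟩} : Finset (Subgroup.zpowers r)) ⊆
              Finset.univ.filter (fun x : Subgroup.zpowers r => x ^ 2 = 1) := by
            intro x hx
            simp only [Finset.mem_insert, Finset.mem_singleton] at hx
            simp only [Finset.mem_filter, Finset.mem_univ, true_and]
            rcases hx with rfl | rfl | rfl
            · simp
            · exact Subtype.ext (by simpa [pow_two] using zz)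
            · exact Subtype.ext (by rw [pow_two]; exact z'z)
          have := Finset.card_le_card hsub
          rw [Finset.card_eq_three.mpr ⟨_, _, _, ?_, ?_, ?_, rfl⟩] at this
          · omega
          · exact fun e => hz1 (congrArg Subtype.val e).symm
          · exact fun e => z'1 (congrArg Subtype.val e).symm
          · exact fun e => hne (congrArg Subtype.val e).symm
        refine k1 (h.comm hb ka kb hz hz1 ?_)
        calc k * z = (k * z * k⁻¹) * k := by group
          _ = z * k := by rw [heq]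
      · push Not at hc
        obtain ⟨x, hx, hxr⟩ := hc
        have xx : x * x = 1 := (hX x hx).resolve_left hxr
        have xr : x * r * (x * r) = 1 := by
          refine (hX _ (U.mul_mem hx hr)).resolve_left fun hm => hxr ?_
          have := (Subgroup.zpowers r).mul_mem hm ((Subgroup.zpowers r).inv_mem
            (Subgroup.mem_zpowers r))
          simpa using this
        have rr : r * r = 1 := by
          have c := hUab x hx r hr
          calc r * r = (x * x) * (r * r) := by rw [xx, one_mul]
            _ = x * (x * r) * r := by group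
            _ = x * (r * x) * r := by rw [c]
            _ = x * r * (x * r) := by group
            _ = 1 := xr
        intro u hu
        rcases hX u hu with ⟨n, rfl⟩ | h'
        · simp only
          rw [← (Commute.refl r).mul_zpow, rr, one_zpow]
        · exact h'
  -- `v` has a fixed point
  obtain ⟨c, hc⟩ : ∃ c : Ω, v • c = c := by
    have : Fintype Ω := Fintype.ofFinite _
    have : Fact (Nat.Prime 2) := ⟨Nat.prime_two⟩
    have hodd : ¬ 2 ∣ Fintype.card Ω := by
      rw [← Nat.card_eq_fintype_card, h.card hb]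
      have hd : 2 ∣ Nat.card U := by
        have ho : orderOf (⟨z, hz⟩ : U) = 2 := orderOf_eq_prime
          (Subtype.ext (by rw [pow_two]; exact zz)) (fun e => hz1 (congrArg Subtype.val e))
        rw [← ho]; exact orderOf_dvd_natCard _
      omega
    exact Equiv.Perm.exists_fixed_point_of_prime (p := 2) (n := 1) hodd
      (σ := MulAction.toPerm v) (by
        ext x
        simp [pow_two, ← mul_smul, hv2])
  exact h.main hel hz hz1 hv2 hva hc

end H76.ZasEq
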